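import Mathlib
import Cfsg.Prelude.Def_OddOrder
import Cfsg.Prelude.Def_OddOrderLocal
import Cfsg.Agent.Lib.Helper33.Conj
import Cfsg.Agent.Lib.Helper54.BGTransitivity
import Cfsg.Agent.Lib.Helper52.CoprimeSylow
import Cfsg.Agent.Lib.Helper49.UniqueOrderP

/-!
# Bender–Glauberman §10: basic API (maximal subgroups, uniqueness subgroups, ranks)
-/

set_option autoImplicit false
open Pointwise

namespace Cfsg.Agent.Helper34.BG

open Subgroup Cfsg
open Cfsg.Agent.Helper33 (map_conj_eq_smul mem_conj_smul conj_mem_conj_smul conj_smul_le_iff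
  mem_normalizer_iff_smul_eq smul_eq_of_mem_normalizer)

variable {G : Type*} [Group G]

theorem isSimple (hG : IsMinSimpleOddOrder G) : IsSimpleGroup G := hG.2.1

theorem solvable_of_ne_top (hG : IsMinSimpleOddOrder G) {H : Subgroup G} (h : H ≠ ⊤) :
    Group.IsSolvable H := hG.2.2.2 H h

theorem odd_card_subgroup [Finite G] (hG : IsMinSimpleOddOrder G) (H : Subgroup G) :
    Odd (Nat.card H) :=
  Odd.of_dvd_nat hG.1 (Subgroup.card_subgroup_dvd_card H)

theorem prime_ne_two [Finite G] (hG : IsMinSimpleOddOrder G) {p : ℕ} (H : Subgroup G)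
    (h : p ∣ Nat.card H) : p ≠ 2 := by
  rintro rfl
  exact (Nat.not_even_iff_odd.mpr (odd_card_subgroup hG H)) (even_iff_two_dvd.mpr h)

theorem coatom_ne_bot (hG : IsMinSimpleOddOrder G) {M : Subgroup G} (hM : IsCoatom M) : M ≠ ⊥ := by
  rintro rfl
  apply hG.2.2.1
  refine ⟨⟨fun a b => ?_⟩⟩
  by_cases ha : a = 1
  · simp [ha]
  · have h1 : zpowers a = ⊤ := hM.2 _ (bot_lt_iff_ne_bot.mpr (zpowers_ne_bot.mpr ha))
    have hb : b ∈ zpowers a := by rw [h1]; exact mem_top b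
    obtain ⟨k, rfl⟩ := mem_zpowers_iff.mp hb
    exact (Commute.zpow_right (Commute.refl a) k).eq

theorem normalizer_coatom (hG : IsMinSimpleOddOrder G) {M : Subgroup G} (hM : IsCoatom M) :
    normalizer (M : Set G) = M := by
  have := isSimple hG
  by_contra hne
  have hlt : M < normalizer (M : Set G) := lt_of_le_of_ne le_normalizer (Ne.symm hne)
  have htop := hM.2 _ hlt
  have hn : M.Normal := normalizer_eq_top_iff.mp htop
  rcases hn.eq_bot_or_eq_top with h | h
  · exact coatom_ne_bot hG hM h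
  · exact hM.1 h

theorem exists_coatom_ge [Finite G] {H : Subgroup G} (h : H ≠ ⊤) :
    ∃ M : Subgroup G, IsCoatom M ∧ H ≤ M :=
  (eq_top_or_exists_le_coatom H).resolve_left h

theorem isCoatom_conj {M : Subgroup G} (hM : IsCoatom M) (g : G) :
    IsCoatom (MulAut.conj g • M) := by
  exact (OrderIso.isCoatom_iff (MulEquiv.mapSubgroup (MulAut.conj g)) M).mpr hM

theorem uniq_eq_of_le {X M L : Subgroup G} (hX : InUniqueMaximal X)
    (hM : IsCoatom M) (hXM : X ≤ M) (hL : IsCoatom L) (hXL : X ≤ L) : L = M := by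
  obtain ⟨M₀, _, hu⟩ := hX
  rw [hu L ⟨hL, hXL⟩, hu M ⟨hM, hXM⟩]

theorem inUniqueMaximal_of_forall [Finite G] {X M : Subgroup G} (hM : IsCoatom M) (hXM : X ≤ M)
    (h : ∀ L : Subgroup G, IsCoatom L → X ≤ L → L = M) : InUniqueMaximal X :=
  ⟨M, ⟨hM, hXM⟩, fun L hL => h L hL.1 hL.2⟩

theorem uniq_mono [Finite G] {X Y : Subgroup G} (hX : InUniqueMaximal X) (hXY : X ≤ Y)
    (hY : Y ≠ ⊤) : InUniqueMaximal Y := by
  obtain ⟨M, hM, hYM⟩ := exists_coatom_ge hY
  exact inUniqueMaximal_of_forall hM hYM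
    (fun L hL hYL => uniq_eq_of_le hX hM (hXY.trans hYM) hL (hXY.trans hYL))

/-- if `X` is a uniqueness subgroup contained in the maximal subgroup `M`, every proper overgroup of
`X` lies in `M`. -/
theorem uniq_le_of_le [Finite G] {X Y M : Subgroup G} (hX : InUniqueMaximal X)
    (hM : IsCoatom M) (hXM : X ≤ M) (hXY : X ≤ Y) (hY : Y ≠ ⊤) : Y ≤ M := by
  obtain ⟨L, hL, hYL⟩ := exists_coatom_ge hY
  rw [← uniq_eq_of_le hX hM hXM hL (hXY.trans hYL)]
  exact hYL

/-- uniqueness subgroups control fusion into their maximal subgroup. -/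
theorem uniq_mem_of_conj_le (hG : IsMinSimpleOddOrder G) {X M : Subgroup G}
    (hX : InUniqueMaximal X) (hM : IsCoatom M) (hXM : X ≤ M) {g : G}
    (h : MulAut.conj g • X ≤ M) : g ∈ M := by
  have h1 : X ≤ MulAut.conj g⁻¹ • M := by
    intro x hx
    rw [mem_conj_smul]
    have := h (conj_mem_conj_smul (g := g) hx)
    simpa using this
  have h2 : MulAut.conj g⁻¹ • M = M := uniq_eq_of_le hX hM hXM (isCoatom_conj hM _) h1
  have h3 : g⁻¹ ∈ normalizer (M : Set G) := mem_normalizer_iff_smul_eq.mpr h2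
  rw [normalizer_coatom hG hM] at h3
  simpa using M.inv_mem h3

theorem centralizer_singleton_ne_top (hG : IsMinSimpleOddOrder G) {a : G} (ha : a ≠ 1) :
    centralizer ({a} : Set G) ≠ ⊤ := by
  have := isSimple hG
  exact Cfsg.Agent.Helper54.centralizer_singleton_ne_top hG.2.2.1 a ha

theorem normalizer_ne_top (hG : IsMinSimpleOddOrder G) {D : Subgroup G} (h0 : D ≠ ⊥) (h1 : D ≠ ⊤) :
    normalizer (D : Set G) ≠ ⊤ := by
  have := isSimple hG
  exact Cfsg.Agent.Helper54.normalizer_ne_top_of_isSimpleGroup D h0 h1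

/-! ### ranks -/

theorem card_subgroupOf_of_le {A N : Subgroup G} (h : A ≤ N) :
    Nat.card (A.subgroupOf N) = Nat.card A :=
  Nat.card_congr (Subgroup.subgroupOfEquivOfLe h).toEquiv

theorem isElementaryAbelian_isPGroup {p : ℕ} {A : Subgroup G} (hA : IsElementaryAbelian p A) :
    IsPGroup p A := by
  intro g
  refine ⟨1, ?_⟩
  rw [pow_one]
  apply Subtype.ext
  simpa using hA.2 g.1 g.2

theorem isElementaryAbelian_mono {p : ℕ} {A B : Subgroup G} (hB : IsElementaryAbelian p B)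
    (hAB : A ≤ B) : IsElementaryAbelian p A := by
  refine ⟨⟨⟨fun x y => ?_⟩⟩, fun a ha => hB.2 a (hAB ha)⟩
  have := hB.1.is_comm.comm ⟨x.1, hAB x.2⟩ ⟨y.1, hAB y.2⟩
  apply Subtype.ext
  simpa using congrArg Subtype.val this

theorem commute_of_isElementaryAbelian {p : ℕ} {A : Subgroup G} (hA : IsElementaryAbelian p A)
    {x y : G} (hx : x ∈ A) (hy : y ∈ A) : x * y = y * x := by
  have := hA.1.is_comm.comm ⟨x, hx⟩ ⟨y, hy⟩
  simpa using congrArg Subtype.val this

/-- an elementary abelian subgroup of `H` of order `> p ^ k` witnesses `¬ PRankLE p k H`. -/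
theorem not_pRankLE_of_elemAb {p k : ℕ} {H A : Subgroup G} (hAH : A ≤ H)
    (hA : IsElementaryAbelian p A) (hc : p ^ k < Nat.card A) : ¬ PRankLE p k ↥H := by
  intro h
  have h1 := h (A.subgroupOf H) ?_ ?_
  · rw [card_subgroupOf_of_le hAH] at h1
    omega
  · refine ⟨⟨fun x y => ?_⟩⟩
    apply Subtype.ext
    apply Subtype.ext
    have := commute_of_isElementaryAbelian hA (mem_subgroupOf.mp x.2) (mem_subgroupOf.mp y.2)
    simpa using this
  · intro a ha
    apply Subtype.ext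
    have := hA.2 _ (mem_subgroupOf.mp ha)
    simpa using this

theorem exists_elemAb_of_not_pRankLE {p k : ℕ} {H : Subgroup G} (h : ¬ PRankLE p k ↥H) :
    ∃ A : Subgroup G, A ≤ H ∧ IsElementaryAbelian p A ∧ p ^ k < Nat.card A := by
  unfold PRankLE at h
  push Not at h
  obtain ⟨A, hA1, hA2, hA3⟩ := h
  refine ⟨A.map H.subtype, map_subtype_le A, ⟨⟨⟨fun x y => ?_⟩⟩, fun a ha => ?_⟩, ?_⟩
  · obtain ⟨x₀, hx₀, hx⟩ := mem_map.mp x.2
    obtain ⟨y₀, hy₀, hy⟩ := mem_map.mp y.2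
    apply Subtype.ext
    have h1 := hA1.is_comm.comm ⟨x₀, hx₀⟩ ⟨y₀, hy₀⟩
    have h2 := congrArg (fun t : ↥A => ((t : ↥H) : G)) h1
    simp only [Subgroup.coe_mul] at h2 ⊢
    rw [← hx, ← hy]
    exact h2
  · obtain ⟨a₀, ha₀, rfl⟩ := mem_map.mp ha
    rw [← map_pow, hA2 a₀ ha₀, map_one]
  · rw [card_map_of_injective (subtype_injective _)]
    exact hA3

theorem not_pRankLE_top_of_elemAb {p k : ℕ} {A : Subgroup G}
    (hA : IsElementaryAbelian p A) (hc : p ^ k < Nat.card A) : ¬ PRankLE p k G := by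
  intro h
  have := h A hA.1 hA.2
  omega

theorem exists_elemAb_of_not_pRankLE_top {p k : ℕ} (h : ¬ PRankLE p k G) :
    ∃ A : Subgroup G, IsElementaryAbelian p A ∧ p ^ k < Nat.card A := by
  unfold PRankLE at h
  push Not at h
  obtain ⟨A, hA1, hA2, hA3⟩ := h
  exact ⟨A, ⟨hA1, hA2⟩, hA3⟩

theorem pRankLE_mono {p k : ℕ} {H K : Subgroup G} (hHK : H ≤ K) (h : PRankLE p k ↥K) :
    PRankLE p k ↥H := by
  by_contra hn
  obtain ⟨A, hAH, hA, hc⟩ := exists_elemAb_of_not_pRankLE hn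
  exact not_pRankLE_of_elemAb (hAH.trans hHK) hA hc h

theorem not_rankLE_of_elemAb {p k : ℕ} (hp : p.Prime) {H A : Subgroup G} (hAH : A ≤ H)
    (hA : IsElementaryAbelian p A) (hc : p ^ k < Nat.card A) : ¬ RankLE k ↥H :=
  fun h => not_pRankLE_of_elemAb hAH hA hc (h p hp)

theorem exists_elemAb_of_not_rankLE {k : ℕ} {H : Subgroup G} (h : ¬ RankLE k ↥H) :
    ∃ p : ℕ, p.Prime ∧ ∃ A : Subgroup G, A ≤ H ∧ IsElementaryAbelian p A ∧ p ^ k < Nat.card A := by
  unfold RankLE at h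
  push Not at h
  obtain ⟨p, hp, h⟩ := h
  exact ⟨p, hp, exists_elemAb_of_not_pRankLE h⟩

/-- inside an elementary abelian group of order `> p ^ k` there is one of order exactly `p ^ (k+1)`,
containing any given subgroup of order `p ^ j`, `j ≤ k + 1`. -/
theorem exists_elemAb_card_eq [Finite G] {p k : ℕ} [hp : Fact p.Prime] {A : Subgroup G}
    (hA : IsElementaryAbelian p A) (hc : p ^ k < Nat.card A) :
    ∃ B : Subgroup G, B ≤ A ∧ IsElementaryAbelian p B ∧ Nat.card B = p ^ (k + 1) := by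
  obtain ⟨j, hj⟩ := IsPGroup.iff_card.mp (isElementaryAbelian_isPGroup hA)
  have hkj : k < j := by
    rw [hj] at hc
    exact (Nat.pow_lt_pow_iff_right hp.out.one_lt).mp hc
  obtain ⟨B₀, hB₀⟩ := Sylow.exists_subgroup_card_pow_prime (G := A) p (n := k + 1)
    (by rw [hj]; exact pow_dvd_pow p hkj)
  refine ⟨B₀.map A.subtype, map_subtype_le _, isElementaryAbelian_mono hA (map_subtype_le _), ?_⟩
  rw [card_map_of_injective (subtype_injective _)]
  exact hB₀

theorem exists_elemAb_card_eq_ge [Finite G] {p k : ℕ} [hp : Fact p.Prime] {A X : Subgroup G}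
    (hA : IsElementaryAbelian p A) (hc : p ^ k < Nat.card A) (hXA : X ≤ A) {j : ℕ}
    (hX : Nat.card X = p ^ j) (hjk : j ≤ k + 1) :
    ∃ B : Subgroup G, B ≤ A ∧ IsElementaryAbelian p B ∧ Nat.card B = p ^ (k + 1) ∧ X ≤ B := by
  obtain ⟨i, hi⟩ := IsPGroup.iff_card.mp (isElementaryAbelian_isPGroup hA)
  have hki : k < i := by
    rw [hi] at hc
    exact (Nat.pow_lt_pow_iff_right hp.out.one_lt).mp hc
  obtain ⟨B₀, hB₀, hXB₀⟩ := Sylow.exists_subgroup_card_pow_prime_le (G := A) p (m := k + 1)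
    (by rw [hi]; exact pow_dvd_pow p hki) (X.subgroupOf A)
    (by rw [card_subgroupOf_of_le hXA]; exact hX) hjk
  refine ⟨B₀.map A.subtype, map_subtype_le _, isElementaryAbelian_mono hA (map_subtype_le _), ?_, ?_⟩
  · rw [card_map_of_injective (subtype_injective _)]
    exact hB₀
  · intro x hx
    exact mem_map.mpr ⟨⟨x, hXA hx⟩, hXB₀ (mem_subgroupOf.mpr hx), rfl⟩

end Cfsg.Agent.Helper34.BG
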