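import Cfsg.Agent.Lib.Helper34.BG10c

/-!
# Bender–Glauberman Lemmas 10.3 and 10.4 (relative to the uniqueness theorem and Theorem 10.2)
-/

set_option autoImplicit false
open Pointwise

namespace Cfsg.Agent.Helper34.BG

open Subgroup Cfsg
open Cfsg.Agent.Helper33 (map_conj_eq_smul mem_conj_smul conj_mem_conj_smul conj_smul_le_iff
  mem_normalizer_iff_smul_eq smul_eq_of_mem_normalizer card_conj_smul conj_smul_le_conj_smul
  IsSylIn isSylIn_of_sylow exists_isSylIn_ge exists_isSylIn)

variable {G : Type*} [Group G]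

theorem pRankLE_subgroup_type {p k : ℕ} {H : Type*} [Group H] (h : PRankLE p k H) (Y : Subgroup H) :
    PRankLE p k ↥Y := by
  intro A hA1 hA2
  have h1 := h (A.map Y.subtype) ?_ ?_
  · rwa [card_map_of_injective (subtype_injective _)] at h1
  · refine ⟨⟨fun x y => ?_⟩⟩
    obtain ⟨x₀, hx₀, hx⟩ := mem_map.mp x.2
    obtain ⟨y₀, hy₀, hy⟩ := mem_map.mp y.2
    apply Subtype.ext
    have h1 := hA1.is_comm.comm ⟨x₀, hx₀⟩ ⟨y₀, hy₀⟩
    have h2 := congrArg (fun t : ↥A => ((t : ↥Y) : H)) h1
    simp only [Subgroup.coe_mul] at h2 ⊢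
    rw [← hx, ← hy]
    exact h2
  · intro a ha
    obtain ⟨a₀, ha₀, rfl⟩ := mem_map.mp ha
    rw [← map_pow, hA2 a₀ ha₀, map_one]

/-- for `q` odd, a `q`-group of `q`-rank at most one is cyclic. -/
theorem isCyclic_of_pRankLE_one {q : ℕ} [hq : Fact q.Prime] (hq2 : q ≠ 2) {H : Type*} [Group H]
    [Finite H] (hH : IsPGroup q H) (h : PRankLE q 1 H) : IsCyclic H := by
  rcases subsingleton_or_nontrivial H with hs | hn
  · exact isCyclic_of_subsingleton
  -- a central element of order q
  have hZn : Nontrivial ↥(center H) := hH.center_nontrivial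
  have hZp : IsPGroup q ↥(center H) := hH.to_subgroup _
  obtain ⟨j, hj⟩ := IsPGroup.iff_card.mp hZp
  have hj0 : j ≠ 0 := by
    rintro rfl
    rw [pow_zero] at hj
    have := (Finite.one_lt_card_iff_nontrivial).mpr hZn
    omega
  obtain ⟨z₀, hz₀⟩ := exists_prime_orderOf_dvd_card' (G := ↥(center H)) q
    (by rw [hj]; exact dvd_pow_self q hj0)
  set z : H := (z₀ : H) with hz
  have hzo : orderOf z = q := by rw [hz, Subgroup.orderOf_coe]; exact hz₀
  have hzq : z ^ q = 1 := by rw [← hzo]; exact pow_orderOf_eq_one z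
  -- every element of order q lies in ⟨z⟩
  have key : ∀ y : H, orderOf y = q → y ∈ zpowers z := by
    intro y hy
    have hyq : y ^ q = 1 := by rw [← hy]; exact pow_orderOf_eq_one y
    have hE : IsElementaryAbelian q (zpowers z ⊔ zpowers y) := by
      apply isElementaryAbelian_sup (isElementaryAbelian_zpowers hzq) (isElementaryAbelian_zpowers hyq)
      intro a ha b hb
      obtain ⟨k, rfl⟩ := mem_zpowers_iff.mp ha
      have hzb : Commute z b := (mem_center_iff.mp z₀.2 b).symm
      exact (Commute.zpow_left hzb k).eq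
    have hc := h _ hE.1 hE.2
    have heq : zpowers z = zpowers z ⊔ zpowers y := by
      apply Subgroup.eq_of_le_of_card_ge le_sup_left
      rw [Nat.card_zpowers, hzo]
      simpa using hc
    rw [heq]
    exact (le_sup_right : zpowers y ≤ zpowers z ⊔ zpowers y) (mem_zpowers y)
  have hall := Cfsg.Agent.Helper49.isCyclic_of_unique_order_p (G := H) (p := q) hq2
    (fun y w hy hw => by
      have h1 := key y hy
      have h2 := key w hw
      -- zpowers y = zpowers z since both have order q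
      have h3 : zpowers y = zpowers z := by
        apply Subgroup.eq_of_le_of_card_ge (zpowers_le.mpr h1)
        rw [Nat.card_zpowers, Nat.card_zpowers, hy, hzo]
      rw [h3]; exact h2)
  have htop := hall ⊤ (hH.to_subgroup _)
  exact (Subgroup.topEquiv (G := H)).isCyclic.mp htop

section fin

variable [Finite G]

theorem exists_central_order_p {p : ℕ} [hp : Fact p.Prime] {T : Subgroup G} (hTp : IsPGroup p T)
    (hT1 : Nontrivial ↥T) : ∃ z ∈ T, (∀ t ∈ T, t * z = z * t) ∧ orderOf z = p := by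
  have hZn : Nontrivial ↥(center ↥T) := hTp.center_nontrivial
  have hZp : IsPGroup p ↥(center ↥T) := hTp.to_subgroup _
  obtain ⟨j, hj⟩ := IsPGroup.iff_card.mp hZp
  have hj0 : j ≠ 0 := by
    rintro rfl
    rw [pow_zero] at hj
    have := (Finite.one_lt_card_iff_nontrivial).mpr hZn
    omega
  obtain ⟨z₀, hz₀⟩ := exists_prime_orderOf_dvd_card' (G := ↥(center ↥T)) p
    (by rw [hj]; exact dvd_pow_self p hj0)
  refine ⟨((z₀ : ↥T) : G), (z₀ : ↥T).2, fun t ht => ?_, ?_⟩
  · have h1 := (mem_center_iff.mp z₀.2) ⟨t, ht⟩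
    exact congrArg Subtype.val h1
  · rw [Subgroup.orderOf_coe, Subgroup.orderOf_coe]
    exact hz₀

/-- B–G Lemma 10.3. -/
theorem bg10_3 (hG : IsMinSimpleOddOrder G) (hU : UniqHyp G) {M : Subgroup G} (hM : IsCoatom M)
    (hHall : IsPiHallOf (alpha M) (alphaCore M) M) {X : Subgroup G} (hXM : X ≤ M)
    (hXα : ∀ p : ℕ, p.Prime → p ∣ Nat.card X → p ∉ alpha M)
    (hr : ¬ RankLE 1 ↥(alphaCore M ⊓ centralizer (X : Set G))) :
    InUniqueMaximal (M ⊓ centralizer (X : Set G)) := by
  obtain ⟨p, hp, B, hBle, hBe, hBc⟩ := exists_elemAb_of_not_rankLE hr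
  have : Fact p.Prime := ⟨hp⟩
  set K := alphaCore M with hK
  have hKM : K ≤ M := hHall.1
  have hBK : B ≤ K := hBle.trans inf_le_left
  have hBX : B ≤ centralizer (X : Set G) := hBle.trans inf_le_right
  have hBp : IsPGroup p B := isElementaryAbelian_isPGroup hBe
  obtain ⟨j, hj⟩ := IsPGroup.iff_card.mp hBp
  have hj1 : 1 < j := by
    rw [hj] at hBc
    exact (Nat.pow_lt_pow_iff_right hp.one_lt).mp hBc
  have hpB : p ∣ Nat.card B := by rw [hj]; exact dvd_pow_self p (by omega)
  have hpα : p ∈ alpha M := hHall.2.1 p hp (hpB.trans (Subgroup.card_dvd_of_le hBK))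
  have hMK : M ≤ normalizer (K : Set G) := Cfsg.Agent.Helper54.le_normalizer_piCoreOf (alpha M) M
  have hXK : X ≤ normalizer (K : Set G) := hXM.trans hMK
  have hcop : (Nat.card X).Coprime (Nat.card K) := by
    apply Nat.coprime_of_dvd
    intro r hr hrX hrK
    exact hXα r hr hrX (hHall.2.1 r hr hrK)
  have hKsolv : Group.IsSolvable K := solvable_of_ne_top hG (ne_top_of_le_coatom hM hKM)
  have hXB : X ≤ normalizer (B : Set G) :=
    (le_centralizer_iff.mp hBX).trans (centralizer_le_normalizer _)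
  obtain ⟨Q, hQK, hQc, hBQ, hXQ⟩ := Cfsg.Agent.Helper52.exists_invariant_sylow_ge X K hXK hcop
    (Or.inr hKsolv) p B hBK hBp hXB
  obtain ⟨P, hP⟩ := Cfsg.Agent.Helper52.exists_sylow_of_card p K Q hQK hQc
  have hQsylK : IsSylIn p Q K := by rw [← hP]; exact isSylIn_of_sylow K P
  have hQsylM : IsSylIn p Q M := by
    refine ⟨hQK.trans hKM, hQsylK.isPGroup, ?_⟩
    rw [← Subgroup.relIndex_mul_relIndex Q K M hQK hKM]
    intro hdvd
    rcases (Nat.Prime.dvd_mul hp).mp hdvd with h | h
    · exact hQsylK.not_dvd h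
    · exact hHall.2.2 p hp hpα h
  have hQ3 : ¬ PRankLE p 2 ↥Q := not_pRankLE_of_isSylIn hQsylM hpα.2
  have hne : M ⊓ centralizer (X : Set G) ≠ ⊤ := ne_top_of_le_coatom hM inf_le_left
  have hB1 : ¬ RankLE 1 ↥B := not_rankLE_of_elemAb hp le_rfl hBe hBc
  have hBcB : B ≤ centralizer (B : Set G) := by
    intro a ha
    rw [mem_centralizer_iff]
    intro b hb
    exact commute_of_isElementaryAbelian hBe hb ha
  by_cases hCB : PRankLE p 2 ↥(centralizer (B : Set G))
  · have hBcard : Nat.card B = p ^ 2 := by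
      have h1 : Nat.card B ≤ p ^ 2 := by
        by_contra hlt
        exact not_pRankLE_of_elemAb hBcB hBe (not_le.mp hlt) hCB
      have h2 : p ^ 2 ≤ Nat.card B := by
        rw [hj]; exact Nat.pow_le_pow_right hp.pos hj1
      omega
    have hp2 : p ≠ 2 := prime_ne_two hG B hpB
    have hXp : (Nat.card X).Coprime p := by
      rw [Nat.coprime_comm]
      exact (Nat.Prime.coprime_iff_not_dvd hp).mpr (fun h => hXα p hp h hpα)
    have hXcQ : X ≤ centralizer (Q : Set G) := by
      apply Cfsg.Agent.S1443.result p hp2 Q B X hQsylK.isPGroup hBQ hBe hXQ hXp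
      intro x hx hxo
      have hxp : x ^ p = 1 := by rw [← hxo]; exact pow_orderOf_eq_one x
      have hxcB : x ∈ centralizer (B : Set G) := hx.2
      have hE : IsElementaryAbelian p (B ⊔ zpowers x) := by
        apply isElementaryAbelian_sup hBe (isElementaryAbelian_zpowers hxp)
        intro b hb y hy
        obtain ⟨k, rfl⟩ := mem_zpowers_iff.mp hy
        exact (Commute.zpow_right ((mem_centralizer_iff.mp hxcB) b hb) k).eq
      have hle : B ⊔ zpowers x ≤ centralizer (B : Set G) :=
        sup_le hBcB (zpowers_le.mpr hxcB)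
      have hcard : Nat.card ↥(B ⊔ zpowers x) ≤ p ^ 2 := by
        by_contra hlt
        exact not_pRankLE_of_elemAb hle hE (not_le.mp hlt) hCB
      have heq : B = B ⊔ zpowers x :=
        Subgroup.eq_of_le_of_card_ge le_sup_left (by rw [hBcard]; exact hcard)
      have hxB : x ∈ B := by
        rw [heq]
        exact (le_sup_right : zpowers x ≤ B ⊔ zpowers x) (mem_zpowers x)
      intro a ha
      rw [mem_centralizer_singleton_iff]
      exact ((mem_centralizer_iff.mp (hBX hxB)) a ha)
    have hQle : Q ≤ M ⊓ centralizer (X : Set G) :=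
      le_inf hQsylM.le (le_centralizer_iff.mp hXcQ)
    obtain ⟨E, hEQ, hE, hEc⟩ := exists_elemAb_of_not_pRankLE hQ3
    have hEc1 : p ^ 1 < Nat.card E :=
      lt_trans (Nat.pow_lt_pow_right hp.one_lt (by norm_num)) hEc
    exact hU _ hne (not_rankLE_of_elemAb hp (hEQ.trans hQle) hE hEc1)
      (Or.inl (not_rankLE_of_elemAb hp (hEQ.trans hQle) hE hEc))
  · have hBU : InUniqueMaximal B :=
      hU B (ne_top_of_le_coatom hM (hBK.trans hKM)) hB1 (Or.inr (fun h => hCB (h p hp)))
    exact uniq_mono hBU (le_inf (hBK.trans hKM) hBX) hne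

end fin

end Cfsg.Agent.Helper34.BG
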