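import Cfsg.Prelude.Def_Local

set_option autoImplicit false
open Cfsg
open scoped commutatorElement

namespace Cfsg.Agent.Helper34

section Basic

variable {G : Type*} [Group G]

theorem card_sup_dvd_mul (K H : Subgroup G) [K.Normal] :
    Nat.card (K ⊔ H : Subgroup G) ∣ Nat.card K * Nat.card H := by
  have h1 : Nat.card K * K.relIndex (K ⊔ H) = Nat.card (K ⊔ H : Subgroup G) := by
    rw [← Subgroup.relIndex_bot_left, ← Subgroup.relIndex_bot_left (K ⊔ H)]
    exact Subgroup.relIndex_mul_relIndex _ _ _ bot_le le_sup_left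
  rw [← h1, Subgroup.relIndex_sup_left]
  exact mul_dvd_mul_left _ (Subgroup.relIndex_dvd_card K H)

theorem le_pPrimeCore {p : ℕ} {N : Subgroup G} (hN : N.Normal) (h : (Nat.card N).Coprime p) :
    N ≤ Cfsg.pPrimeCore p G :=
  le_sSup ⟨hN, h⟩

/-- In a finite group `O_{p'}(G)` is a `p'`-group. -/
theorem card_pPrimeCore_coprime [Finite G] (p : ℕ) : (Nat.card (Cfsg.pPrimeCore p G)).Coprime p := by
  classical
  set S : Set (Subgroup G) := {N : Subgroup G | N.Normal ∧ (Nat.card N).Coprime p} with hS
  have hfin : S.Finite := Set.toFinite S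
  have key : ∀ s : Finset (Subgroup G), (∀ N ∈ s, N ∈ S) → s.sup id ∈ S := by
    intro s
    induction s using Finset.induction_on with
    | empty =>
      intro _
      simp only [Finset.sup_empty]
      exact ⟨inferInstance, by simp⟩
    | insert a s _ ih =>
      intro h
      rw [Finset.sup_insert]
      have ha : a ∈ S := h a (Finset.mem_insert_self a s)
      have hs : s.sup id ∈ S := ih (fun N hN => h N (Finset.mem_insert_of_mem hN))
      have han : a.Normal := ha.1
      have hsn : (s.sup id).Normal := hs.1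
      refine ⟨Subgroup.sup_normal a (s.sup id), ?_⟩
      exact Nat.Coprime.coprime_dvd_left (card_sup_dvd_mul a (s.sup id))
        (Nat.Coprime.mul_left ha.2 hs.2)
  have h2 : Cfsg.pPrimeCore p G = hfin.toFinset.sup id := by
    rw [Finset.sup_id_eq_sSup, Set.Finite.coe_toFinset]
    rfl
  rw [h2]
  exact (key hfin.toFinset (fun N hN => (Set.Finite.mem_toFinset hfin).mp hN)).2

end Basic

section CoreIn

variable {G : Type*} [Group G]

/-- `O_{p'}(A)` viewed inside `G`. -/
def coreIn (p : ℕ) (A : Subgroup G) : Subgroup G := (Cfsg.pPrimeCore p ↥A).map A.subtype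

theorem coreIn_le (p : ℕ) (A : Subgroup G) : coreIn p A ≤ A := Subgroup.map_subtype_le _

theorem card_coreIn_coprime (p : ℕ) (A : Subgroup G) [Finite A] :
    (Nat.card (coreIn p A)).Coprime p := by
  unfold coreIn
  rw [Subgroup.card_subtype]
  exact card_pPrimeCore_coprime p

theorem le_normalizer_coreIn (p : ℕ) (A : Subgroup G) :
    A ≤ Subgroup.normalizer ((coreIn p A : Subgroup G) : Set G) := by
  have h := Subgroup.le_normalizer_map (H := Cfsg.pPrimeCore p ↥A) A.subtype
  rw [Subgroup.normalizer_eq_top, ← MonoidHom.range_eq_map, Subgroup.range_subtype] at h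
  exact h

theorem le_coreIn {p : ℕ} {A N : Subgroup G} (hNA : N ≤ A)
    (hn : A ≤ Subgroup.normalizer (N : Set G)) (hc : (Nat.card N).Coprime p) : N ≤ coreIn p A := by
  have h1 : (N.subgroupOf A).Normal := Subgroup.normal_subgroupOf_of_le_normalizer hn
  have h2 : Nat.card (N.subgroupOf A) = Nat.card N :=
    Nat.card_congr (Subgroup.subgroupOfEquivOfLe hNA).toEquiv
  have h3 : N.subgroupOf A ≤ Cfsg.pPrimeCore p ↥A := le_pPrimeCore h1 (h2 ▸ hc)
  calc N = (N.subgroupOf A).map A.subtype := (Subgroup.map_subgroupOf_eq_of_le hNA).symm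
    _ ≤ _ := Subgroup.map_mono h3

theorem map_conj_coreIn_le (p : ℕ) (A : Subgroup G) [Finite A] {g : G}
    (hg : g ∈ Subgroup.normalizer (A : Set G)) :
    (coreIn p A).map (MulAut.conj g : G →* G) ≤ coreIn p A := by
  have hgA : A.map (MulAut.conj g : G →* G) = A := Subgroup.mem_normalizer_iff_map_conj_eq.mp hg
  apply le_coreIn
  · calc (coreIn p A).map (MulAut.conj g : G →* G) ≤ A.map (MulAut.conj g : G →* G) :=
        Subgroup.map_mono (coreIn_le p A)
      _ = A := hgA
  · have h1 := Subgroup.map_equiv_normalizer_eq (coreIn p A) (MulAut.conj g)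
    have h2 : A.map (MulAut.conj g : G →* G) ≤
        (Subgroup.normalizer ((coreIn p A : Subgroup G) : Set G)).map (MulAut.conj g : G →* G) :=
      Subgroup.map_mono (le_normalizer_coreIn p A)
    rw [hgA] at h2
    intro a ha
    have := h2 ha
    have h3 : a ∈ Subgroup.map (MulEquiv.toMonoidHom (MulAut.conj g))
        (Subgroup.normalizer ((coreIn p A : Subgroup G) : Set G)) := this
    rw [h1] at h3
    exact h3
  · have : Nat.card ((coreIn p A).map (MulAut.conj g : G →* G)) = Nat.card (coreIn p A) :=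
      Subgroup.card_map_of_injective (MulAut.conj g).injective
    rw [this]
    exact card_coreIn_coprime p A

theorem normalizer_le_normalizer_coreIn (p : ℕ) (A : Subgroup G) [Finite A] :
    Subgroup.normalizer (A : Set G) ≤ Subgroup.normalizer ((coreIn p A : Subgroup G) : Set G) := by
  intro g hg
  rw [Subgroup.mem_normalizer_iff_map_conj_eq]
  have : Finite (coreIn p A) := Finite.of_injective (Subgroup.inclusion (coreIn_le p A))
    (Subgroup.inclusion_injective _)
  apply Subgroup.eq_of_le_of_card_ge (map_conj_coreIn_le p A hg)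
  rw [Subgroup.card_map_of_injective (MulAut.conj g).injective]

/-- If `A ⊴ B` then `O_{p'}(A) ≤ O_{p'}(B)`. -/
theorem coreIn_le_coreIn_of_normal (p : ℕ) {A B : Subgroup G} [Finite A] (hAB : A ≤ B)
    (hn : B ≤ Subgroup.normalizer (A : Set G)) : coreIn p A ≤ coreIn p B :=
  le_coreIn ((coreIn_le p A).trans hAB) (hn.trans (normalizer_le_normalizer_coreIn p A))
    (card_coreIn_coprime p A)

theorem coreIn_top [Finite G] (p : ℕ) : coreIn p (⊤ : Subgroup G) = Cfsg.pPrimeCore p G := by
  apply le_antisymm
  · apply le_pPrimeCore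
    · rw [← Subgroup.normalizer_eq_top_iff, eq_top_iff]
      calc (⊤ : Subgroup G) = Subgroup.normalizer (((⊤ : Subgroup G) : Subgroup G) : Set G) := by
            rw [Subgroup.normalizer_eq_top]
        _ ≤ _ := normalizer_le_normalizer_coreIn p ⊤
    · exact card_coreIn_coprime p ⊤
  · apply le_coreIn le_top
    · rw [Subgroup.normalizer_eq_top]
    · exact card_pPrimeCore_coprime p

/-- For a subnormal subgroup `H` of a finite group, `O_{p'}(H) ≤ O_{p'}(G)`. -/
theorem IsSubnormal.coreIn_le_pPrimeCore [Finite G] (p : ℕ) {H : Subgroup G} (hH : H.IsSubnormal) :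
    coreIn p H ≤ Cfsg.pPrimeCore p G := by
  induction hH with
  | top => exact (coreIn_top p).le
  | step H K h_le _ hN ih =>
    exact (coreIn_le_coreIn_of_normal p h_le
      ((Subgroup.normal_subgroupOf_iff_le_normalizer h_le).mp hN)).trans ih

/-- A subnormal `p'`-subgroup of a finite group lies in `O_{p'}(G)`. -/
theorem IsSubnormal.le_pPrimeCore [Finite G] {p : ℕ} {H : Subgroup G} (hH : H.IsSubnormal)
    (hc : (Nat.card H).Coprime p) : H ≤ Cfsg.pPrimeCore p G :=
  (le_coreIn le_rfl Subgroup.le_normalizer hc).trans (IsSubnormal.coreIn_le_pPrimeCore p hH)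

/-- For `H` subnormal in a finite group, `O_{p'}(H) = H ∩ O_{p'}(G)`. -/
theorem IsSubnormal.coreIn_eq_inf [Finite G] (p : ℕ) {H : Subgroup G} (hH : H.IsSubnormal) :
    coreIn p H = H ⊓ Cfsg.pPrimeCore p G := by
  apply le_antisymm
  · exact le_inf (coreIn_le p H) (IsSubnormal.coreIn_le_pPrimeCore p hH)
  · apply le_coreIn inf_le_left
    · intro h hh
      rw [Subgroup.mem_normalizer_iff]
      intro x
      have hO : (Cfsg.pPrimeCore p G).Normal := inferInstance
      simp only [Subgroup.mem_inf]
      constructor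
      · rintro ⟨h1, h2⟩
        exact ⟨H.mul_mem (H.mul_mem hh h1) (H.inv_mem hh), hO.conj_mem x h2 h⟩
      · rintro ⟨h1, h2⟩
        refine ⟨?_, ?_⟩
        · have : x = h⁻¹ * (h * x * h⁻¹) * h := by group
          rw [this]
          exact H.mul_mem (H.mul_mem (H.inv_mem hh) h1) hh
        · have : x = h⁻¹ * (h * x * h⁻¹) * h⁻¹⁻¹ := by group
          rw [this]
          exact hO.conj_mem _ h2 h⁻¹
    · exact Nat.Coprime.coprime_dvd_left (Subgroup.card_dvd_of_le inf_le_right)
        (card_pPrimeCore_coprime p)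

/-- `O_{p'}(G / O_{p'}(G)) = 1` for finite `G`. -/
theorem pPrimeCore_quotient_eq_bot [Finite G] (p : ℕ) :
    Cfsg.pPrimeCore p (G ⧸ Cfsg.pPrimeCore p G) = ⊥ := by
  set O := Cfsg.pPrimeCore p G with hO
  set π := QuotientGroup.mk' O with hπ
  set B := Cfsg.pPrimeCore p (G ⧸ O) with hB
  have hsurj : Function.Surjective π := QuotientGroup.mk'_surjective O
  have hN : (B.comap π).Normal := inferInstance
  have hOle : O ≤ B.comap π := by
    intro x hx
    rw [Subgroup.mem_comap]
    have : π x = 1 := by rw [hπ, QuotientGroup.mk'_apply, QuotientGroup.eq_one_iff]; exact hx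
    rw [this]; exact B.one_mem
  -- card (comap) = card O * card B
  have hcard : Nat.card (B.comap π) = Nat.card O * Nat.card B := by
    have h1 : Nat.card O * O.relIndex (B.comap π) = Nat.card (B.comap π) := by
      rw [← Subgroup.relIndex_bot_left, ← Subgroup.relIndex_bot_left (B.comap π)]
      exact Subgroup.relIndex_mul_relIndex _ _ _ bot_le hOle
    have h2 : O.relIndex (B.comap π) = Nat.card B := by
      have := Subgroup.relIndex_ker (K := B.comap π) π
      rw [QuotientGroup.ker_mk', Subgroup.map_comap_eq_self_of_surjective hsurj] at this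
      exact this
    rw [← h1, h2]
  have hle : B.comap π ≤ O := by
    apply le_pPrimeCore hN
    rw [hcard]
    exact Nat.Coprime.mul_left (card_pPrimeCore_coprime p) (card_pPrimeCore_coprime p)
  rw [eq_bot_iff]
  intro b hb
  obtain ⟨x, rfl⟩ := hsurj b
  have hx : x ∈ O := hle hb
  rw [Subgroup.mem_bot, hπ, QuotientGroup.mk'_apply, QuotientGroup.eq_one_iff]
  exact hx

end CoreIn

end Cfsg.Agent.Helper34
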