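import Cfsg.Agent.Lib.Helper34.Components
import Cfsg.Agent.Lib.Helper34.PPrimeCore
import Mathlib.GroupTheory.SchurZassenhaus

set_option autoImplicit false
open Cfsg
open scoped commutatorElement

namespace Cfsg.Agent.Helper34

section DvdCard

variable {G : Type*} [Group G]

/-- A perfect finite group whose central quotient is a `p'`-group is itself a `p'`-group. -/
theorem not_dvd_card_of_perfect_of_not_dvd_card_quotient_center [Finite G] {p : ℕ} [hp : Fact p.Prime]
    (hperf : Group.IsPerfect G) (hnd : ¬ p ∣ Nat.card (G ⧸ Subgroup.center G)) :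
    ¬ p ∣ Nat.card G := by
  intro hdvd
  obtain ⟨P⟩ : Nonempty (Sylow p G) := inferInstance
  have hPc : (P : Subgroup G) ≤ Subgroup.center G := by
    intro x hx
    obtain ⟨k, hk⟩ := P.isPGroup' ⟨x, hx⟩
    have hk' : x ^ p ^ k = 1 := by
      have := congrArg Subtype.val hk
      simpa using this
    have h1 : (QuotientGroup.mk x : G ⧸ Subgroup.center G) ^ p ^ k = 1 := by
      rw [← QuotientGroup.mk_pow, hk', QuotientGroup.mk_one]
    have h2 : (QuotientGroup.mk x : G ⧸ Subgroup.center G) ^ Nat.card (G ⧸ Subgroup.center G) = 1 :=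
      pow_card_eq_one'
    have h3 := pow_gcd_eq_one.mpr ⟨h1, h2⟩
    have hcop : Nat.gcd (p ^ k) (Nat.card (G ⧸ Subgroup.center G)) = 1 :=
      Nat.Coprime.pow_left k ((Nat.Prime.coprime_iff_not_dvd hp.out).mpr hnd)
    rw [hcop, pow_one] at h3
    exact (QuotientGroup.eq_one_iff x).mp h3
  have hPn : (P : Subgroup G).Normal := by
    constructor
    intro n hn g
    have := Subgroup.mem_center_iff.mp (hPc hn) g
    have e : g * n * g⁻¹ = n := by rw [this]; group
    rw [e]; exact hn
  obtain ⟨H, hH⟩ := Subgroup.exists_left_complement'_of_coprime (N := (P : Subgroup G))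
    P.card_coprime_index
  have hsup : H ⊔ (P : Subgroup G) = ⊤ := hH.sup_eq_top
  have hHn : H.Normal := by
    rw [← Subgroup.normalizer_eq_top_iff, eq_top_iff, ← hsup]
    exact sup_le Subgroup.le_normalizer (hPc.trans (Subgroup.center_le_normalizer _))
  have hPcomm : IsMulCommutative (P : Subgroup G) := by
    refine ⟨⟨fun a b => Subtype.ext ?_⟩⟩
    have := Subgroup.mem_center_iff.mp (hPc b.2) a
    simpa using this
  have hle : commutator G ≤ H :=
    Subgroup.Normal.commutator_le_of_self_sup_commutative_eq_top hsup hPcomm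
  rw [hperf.commutator_eq_top, top_le_iff] at hle
  rw [hle, Subgroup.isComplement'_top_left] at hH
  exact P.ne_bot_of_dvd_card hdvd hH

/-- In a finite group with `O_{p'}(G) = 1`, a component `Q` has `p ∣ |Q / Z(Q)|`. -/
theorem dvd_card_quotient_center_of_isComponent [Finite G] {p : ℕ} [hp : Fact p.Prime]
    (h0 : Cfsg.pPrimeCore p G = ⊥) {Q : Subgroup G} (hQ : Cfsg.IsComponent Q) :
    p ∣ Nat.card (↥Q ⧸ Subgroup.center ↥Q) := by
  by_contra hnd
  have h1 : ¬ p ∣ Nat.card ↥Q :=
    not_dvd_card_of_perfect_of_not_dvd_card_quotient_center hQ.2.1 hnd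
  have h2 : Q ≤ Cfsg.pPrimeCore p G :=
    IsSubnormal.le_pPrimeCore hQ.1 ((Nat.Prime.coprime_iff_not_dvd hp.out).mpr h1).symm
  rw [h0, le_bot_iff] at h2
  have hnt := IsQuasisimple_nontrivial hQ.2
  rw [h2] at hnt
  exact not_subsingleton _ (inferInstance : Subsingleton (⊥ : Subgroup G))

end DvdCard

section Index

variable {G : Type*} [Group G]

theorem relIndex_map_dvd {G' : Type*} [Group G'] (f : G →* G') {H K : Subgroup G} (hHK : H ≤ K) :
    (H.map f).relIndex (K.map f) ∣ H.relIndex K := by
  have hsurj : Function.Surjective (f.subgroupMap K) := f.subgroupMap_surjective K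
  have heq : (H.subgroupOf K).map (f.subgroupMap K) = (H.map f).subgroupOf (K.map f) := by
    ext ⟨y, hy⟩
    simp only [Subgroup.mem_map, Subgroup.mem_subgroupOf]
    constructor
    · rintro ⟨⟨k, hk⟩, hkH, hky⟩
      have : f k = y := congrArg Subtype.val hky
      exact ⟨k, hkH, this⟩
    · rintro ⟨h, hh, hhy⟩
      exact ⟨⟨h, hHK hh⟩, hh, Subtype.ext hhy⟩
  unfold Subgroup.relIndex
  rw [← heq]
  exact Subgroup.index_map_dvd _ hsurj

theorem le_normalizer_inf {A B : Subgroup G} :
    Subgroup.normalizer (A : Set G) ⊓ Subgroup.normalizer (B : Set G) ≤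
      Subgroup.normalizer ((A ⊓ B : Subgroup G) : Set G) := by
  intro g hg
  rw [Subgroup.mem_inf] at hg
  rw [Subgroup.mem_normalizer_iff]
  intro x
  rw [Subgroup.mem_inf, Subgroup.mem_inf, ← Subgroup.mem_normalizer_iff.mp hg.1 x,
    ← Subgroup.mem_normalizer_iff.mp hg.2 x]

/-- If `A ⊴ B`, `O` is a normal `p'`-subgroup and `B ⊆ A O`, then `|H : A ∩ H|` is prime to `p` for `H ≤ B`. -/
theorem coprime_relIndex_of_cover [Finite G] {p : ℕ} {O A B H : Subgroup G} [hO : O.Normal]
    (hOc : (Nat.card O).Coprime p) (hAB : A ≤ B) (hn : B ≤ Subgroup.normalizer (A : Set G))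
    (hcov : ∀ b ∈ B, ∃ a ∈ A, a⁻¹ * b ∈ O) (hH : H ≤ B) : (A.relIndex H).Coprime p := by
  have hA' : (A.subgroupOf B).Normal := Subgroup.normal_subgroupOf_of_le_normalizer hn
  have hO' : (O.subgroupOf B).Normal := inferInstance
  have hsup : A.subgroupOf B ⊔ O.subgroupOf B = ⊤ := by
    rw [eq_top_iff]
    rintro ⟨b, hb⟩ -
    obtain ⟨a, ha, hab⟩ := hcov b hb
    have h1 : (⟨a, hAB ha⟩ : B) ∈ A.subgroupOf B := Subgroup.mem_subgroupOf.mpr ha
    have h2 : (⟨a, hAB ha⟩ : B)⁻¹ * ⟨b, hb⟩ ∈ O.subgroupOf B := Subgroup.mem_subgroupOf.mpr hab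
    have h3 := Subgroup.mul_mem_sup h1 h2
    simpa using h3
  have hidx : (A.subgroupOf B).index ∣ Nat.card O := by
    have h1 : (A.subgroupOf B).index = (A.subgroupOf B).relIndex (O.subgroupOf B) := by
      rw [← Subgroup.relIndex_sup_left (O.subgroupOf B) (A.subgroupOf B), hsup,
        Subgroup.relIndex_top_right]
    rw [h1]
    refine (Subgroup.relIndex_dvd_card _ _).trans ?_
    have : Nat.card (O.subgroupOf B) = Nat.card (O ⊓ B : Subgroup G) := by
      rw [← Subgroup.inf_subgroupOf_right]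
      exact Nat.card_congr (Subgroup.subgroupOfEquivOfLe inf_le_right).toEquiv
    rw [this]
    exact Subgroup.card_dvd_of_le inf_le_left
  have h2 : A.relIndex H ∣ (A.subgroupOf B).index := by
    rw [← Subgroup.relIndex_subgroupOf hH]
    exact Subgroup.relIndex_dvd_index_of_normal _ _
  exact Nat.Coprime.coprime_dvd_left (h2.trans hidx) hOc

end Index

section Uniqueness

variable {C : Type*} [Group C]

/-- Key covering lemma: if `H1, H2` are subnormal, `H1` covers `Kb` and `H2` maps onto `Kb`, then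
`H1 ⊓ H2` maps onto `Kb`, provided `Kb` has no proper normal subgroups of index prime to `p`. -/
theorem map_inf_eq_of_cover [Finite C] {p : ℕ} (Kb : Subgroup (C ⧸ Cfsg.pPrimeCore p C))
    (hR : ∀ N' : Subgroup (C ⧸ Cfsg.pPrimeCore p C), N' ≤ Kb →
      Kb ≤ Subgroup.normalizer (N' : Set (C ⧸ Cfsg.pPrimeCore p C)) →
      (N'.relIndex Kb).Coprime p → Kb ≤ N')
    {H1 : Subgroup C} (hH1 : H1.IsSubnormal)
    (hcov : Kb ≤ H1.map (QuotientGroup.mk' (Cfsg.pPrimeCore p C))) :
    ∀ H2 : Subgroup C, H2.IsSubnormal → H2.map (QuotientGroup.mk' (Cfsg.pPrimeCore p C)) = Kb →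
      (H1 ⊓ H2).map (QuotientGroup.mk' (Cfsg.pPrimeCore p C)) = Kb := by
  set O := Cfsg.pPrimeCore p C with hO
  set π := QuotientGroup.mk' O with hπ
  induction hH1 with
  | top =>
    intro H2 _ h2
    rw [top_inf_eq]; exact h2
  | step A B hAB hBsub hAn ih =>
    intro H2 hH2 h2
    have hAnorm : B ≤ Subgroup.normalizer (A : Set C) :=
      (Subgroup.normal_subgroupOf_iff_le_normalizer hAB).mp hAn
    have hcovB : Kb ≤ B.map π := hcov.trans (Subgroup.map_mono hAB)
    have h3 : (B ⊓ H2).map π = Kb := ih hcovB H2 hH2 h2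
    have hsub' : (B ⊓ H2).IsSubnormal := hBsub.inf hH2
    have hAH : A ⊓ H2 = A ⊓ (B ⊓ H2) := by
      rw [← inf_assoc, inf_eq_left.mpr hAB]
    rw [hAH]
    set H2' := B ⊓ H2 with hH2'
    set M : Subgroup C := Kb.comap π with hM
    have hH2'M : H2' ≤ M := by
      intro x hx
      rw [hM, Subgroup.mem_comap, ← h3]
      exact Subgroup.mem_map_of_mem _ hx
    apply le_antisymm
    · rw [← h3]; exact Subgroup.map_mono inf_le_right
    · apply hR
      · rw [← h3]; exact Subgroup.map_mono inf_le_right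
      · -- normalizer
        have h4 : H2' ≤ Subgroup.normalizer ((A ⊓ H2' : Subgroup C) : Set C) := by
          refine le_trans ?_ le_normalizer_inf
          exact le_inf (inf_le_left.trans hAnorm) Subgroup.le_normalizer
        calc Kb = H2'.map π := h3.symm
          _ ≤ (Subgroup.normalizer ((A ⊓ H2' : Subgroup C) : Set C)).map π := Subgroup.map_mono h4
          _ ≤ _ := Subgroup.le_normalizer_map π
      · -- index
        have h5 : ((A ⊓ H2').map π).relIndex Kb ∣ (A ⊓ H2').relIndex H2' := by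
          rw [← h3]; exact relIndex_map_dvd π inf_le_right
        have h6 : (A ⊓ H2').relIndex H2' = (A ⊓ M).relIndex H2' := by
          rw [Subgroup.inf_relIndex_right, ← Subgroup.inf_relIndex_right (A ⊓ M),
            inf_assoc, inf_eq_right.mpr hH2'M, Subgroup.inf_relIndex_right]
        have h7 : ((A ⊓ M).relIndex H2').Coprime p := by
          apply coprime_relIndex_of_cover (O := O) (B := B ⊓ M) (card_pPrimeCore_coprime p)
            (inf_le_inf_right M hAB)
          · refine le_trans ?_ le_normalizer_inf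
            exact le_inf (inf_le_left.trans hAnorm) (inf_le_right.trans Subgroup.le_normalizer)
          · intro b hb
            have hbM : π b ∈ Kb := hb.2
            obtain ⟨a, ha, hab⟩ := hcov hbM
            refine ⟨a, ⟨ha, ?_⟩, ?_⟩
            · show π a ∈ Kb
              rw [hab]; exact hbM
            · rw [← QuotientGroup.ker_mk' O, MonoidHom.mem_ker]
              show π (a⁻¹ * b) = 1
              rw [map_mul, map_inv, hab, inv_mul_cancel]
          · exact le_inf inf_le_left hH2'M
        rw [h6] at h5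
        exact Nat.Coprime.coprime_dvd_left h5 h7

/-- **Uniqueness**: two `p`-components of a finite group with the same image modulo `O_{p'}` coincide. -/
theorem IsPComponent.eq_of_map_eq [Finite C] {p : ℕ} [hp : Fact p.Prime] {K1 K2 : Subgroup C}
    (h1 : Cfsg.IsPComponent p K1) (h2 : Cfsg.IsPComponent p K2)
    (h : K1.map (QuotientGroup.mk' (Cfsg.pPrimeCore p C)) =
      K2.map (QuotientGroup.mk' (Cfsg.pPrimeCore p C))) : K1 = K2 := by
  set O := Cfsg.pPrimeCore p C with hO
  set π := QuotientGroup.mk' O with hπ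
  set Kb := K1.map π with hKb
  have hcomp : Cfsg.IsComponent Kb := h1.2.1
  have hdvd : p ∣ Nat.card (↥Kb ⧸ Subgroup.center ↥Kb) :=
    dvd_card_quotient_center_of_isComponent (pPrimeCore_quotient_eq_bot p) hcomp
  have hR : ∀ N' : Subgroup (C ⧸ O), N' ≤ Kb →
      Kb ≤ Subgroup.normalizer (N' : Set (C ⧸ O)) → (N'.relIndex Kb).Coprime p → Kb ≤ N' := by
    intro N' _ hn hc
    have hN : (N'.subgroupOf Kb).Normal := Subgroup.normal_subgroupOf_of_le_normalizer hn
    rcases normal_eq_top_or_le_center hcomp.2 (N'.subgroupOf Kb) with h | h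
    · exact Subgroup.subgroupOf_eq_top.mp h
    · exfalso
      have h3 : (Subgroup.center ↥Kb).index ∣ (N'.subgroupOf Kb).index := Subgroup.index_dvd_of_le h
      rw [Subgroup.index_eq_card] at h3
      have h4 : p ∣ N'.relIndex Kb := hdvd.trans h3
      have := Nat.Coprime.eq_one_of_dvd hc.symm h4
      exact hp.out.one_lt.ne' this
  have e1 := map_inf_eq_of_cover Kb hR h1.1 le_rfl K2 h2.1 h.symm
  have e2 := map_inf_eq_of_cover Kb hR h2.1 h.le K1 h1.1 rfl
  have l1 : K1 ⊓ K2 = K1 := h1.2.2 _ (h1.1.inf h2.1) inf_le_left e1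
  have l2 : K2 ⊓ K1 = K2 := h2.2.2 _ (h2.1.inf h1.1) inf_le_left (e2.trans h)
  exact le_antisymm (inf_eq_left.mp l1) (inf_eq_left.mp l2)

end Uniqueness

section Conj

variable {C : Type*} [Group C]

theorem map_conj_map {C' : Type*} [Group C'] (f : C →* C') (H : Subgroup C) (g : C) :
    (H.map (MulAut.conj g).toMonoidHom).map f = (H.map f).map (MulAut.conj (f g)).toMonoidHom := by
  rw [Subgroup.map_map, Subgroup.map_map]
  congr 1
  ext x
  simp [MulAut.conj_apply]

theorem map_conj_eq_of_mem_centralizer {S T : Subgroup C} {z : C}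
    (hz : z ∈ Subgroup.centralizer (S : Set C)) (hT : T ≤ S) :
    T.map (MulAut.conj z).toMonoidHom = T := by
  ext t
  constructor
  · rintro ⟨u, hu, rfl⟩
    have := Subgroup.mem_centralizer_iff.mp hz u (hT hu)
    have e : (MulAut.conj z).toMonoidHom u = u := by
      simp only [MulEquiv.coe_toMonoidHom, MulAut.conj_apply]
      rw [← this]; group
    rw [e]; exact hu
  · intro ht
    refine ⟨t, ht, ?_⟩
    have := Subgroup.mem_centralizer_iff.mp hz t (hT ht)
    simp only [MulEquiv.coe_toMonoidHom, MulAut.conj_apply]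
    rw [← this]; group

theorem map_conj_inv_map_conj (H : Subgroup C) (g : C) :
    (H.map (MulAut.conj g⁻¹).toMonoidHom).map (MulAut.conj g).toMonoidHom = H := by
  rw [Subgroup.map_map]
  have : (MulAut.conj g).toMonoidHom.comp (MulAut.conj g⁻¹).toMonoidHom = MonoidHom.id C := by
    ext x; simp [MulAut.conj_apply, mul_assoc]
  rw [this, Subgroup.map_id]

/-- An element of `C` whose image centralizes the image of the `p`-component `K` normalizes `K`. -/
theorem IsPComponent.map_conj_eq [Finite C] {p : ℕ} [hp : Fact p.Prime] {K : Subgroup C}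
    (hK : Cfsg.IsPComponent p K) {d : C}
    (hd : QuotientGroup.mk' (Cfsg.pPrimeCore p C) d ∈ Subgroup.centralizer
      ((K.map (QuotientGroup.mk' (Cfsg.pPrimeCore p C)) : Subgroup (C ⧸ Cfsg.pPrimeCore p C)) :
        Set (C ⧸ Cfsg.pPrimeCore p C))) :
    K.map (MulAut.conj d).toMonoidHom = K := by
  set O := Cfsg.pPrimeCore p C with hO
  set π := QuotientGroup.mk' O with hπ
  have hd' : π d⁻¹ ∈ Subgroup.centralizer ((K.map π : Subgroup (C ⧸ O)) : Set (C ⧸ O)) := by
    rw [map_inv]; exact Subgroup.inv_mem _ hd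
  have himg : (K.map (MulAut.conj d).toMonoidHom).map π = K.map π := by
    rw [map_conj_map]; exact map_conj_eq_of_mem_centralizer hd le_rfl
  have hK2 : Cfsg.IsPComponent p (K.map (MulAut.conj d).toMonoidHom) := by
    refine ⟨hK.1.map (MulAut.conj d).surjective, ?_, ?_⟩
    · rw [himg]; exact hK.2.1
    · intro H hH hHle hHmap
      have h1 : (H.map (MulAut.conj d⁻¹).toMonoidHom).IsSubnormal := hH.map (MulAut.conj d⁻¹).surjective
      have h2 : H.map (MulAut.conj d⁻¹).toMonoidHom ≤ K := by
        rintro _ ⟨h, hh, rfl⟩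
        obtain ⟨k, hk, hkh⟩ := hHle hh
        rw [← hkh]
        simp only [MulEquiv.coe_toMonoidHom, MulAut.conj_apply]
        have : d⁻¹ * (d * k * d⁻¹) * d⁻¹⁻¹ = k := by group
        rw [this]; exact hk
      have h3 : (H.map (MulAut.conj d⁻¹).toMonoidHom).map π = K.map π := by
        rw [map_conj_map, hHmap, himg]
        exact map_conj_eq_of_mem_centralizer hd' le_rfl
      have h4 := hK.2.2 _ h1 h2 h3
      rw [← h4, map_conj_inv_map_conj]
  exact IsPComponent.eq_of_map_eq hK2 hK himg

end Conj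

section Transfer

theorem isQuasisimple_of_mulEquiv {H H' : Type*} [Group H] [Group H'] (e : H ≃* H')
    (h : Cfsg.IsQuasisimple H') : Cfsg.IsQuasisimple H := by
  obtain ⟨hperf, hsimp⟩ := h
  refine ⟨Group.IsPerfect.ofSurjective (f := e.symm.toMonoidHom) e.symm.surjective, ?_⟩
  have hc : (Subgroup.center H).map e.toMonoidHom = Subgroup.center H' := by
    ext y
    simp only [Subgroup.mem_map, Subgroup.mem_center_iff, MulEquiv.coe_toMonoidHom]
    constructor
    · rintro ⟨x, hx, rfl⟩ z
      obtain ⟨w, rfl⟩ := e.surjective z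
      rw [← map_mul, ← map_mul, hx w]
    · intro hy
      refine ⟨e.symm y, ?_, by simp⟩
      intro w
      apply e.injective
      simp only [map_mul, MulEquiv.apply_symm_apply]
      exact hy (e w)
  exact (QuotientGroup.congr (Subgroup.center H) (Subgroup.center H') e hc).isSimpleGroup

/-- A subnormal subgroup of a quasisimple group is everything or central. -/
theorem subnormal_eq_top_or_le_center {L : Type*} [Group L] (hL : Cfsg.IsQuasisimple L)
    {S : Subgroup L} (hS : S.IsSubnormal) : S = ⊤ ∨ S ≤ Subgroup.center L := by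
  by_cases h : S = ⊤
  · exact Or.inl h
  · right
    obtain ⟨N, hN, hSN, hNtop⟩ := hS.exists_normal_and_le_and_lt_top_of_ne h
    rcases normal_eq_top_or_le_center hL N with h1 | h1
    · exact absurd h1 hNtop.ne
    · exact hSN.trans h1

end Transfer

section Self

variable {X : Type*} [Group X]

/-- Two `p`-components, one inside the other, are equal. -/
theorem IsPComponent.eq_of_le [Finite X] {p : ℕ} {K J : Subgroup X}
    (hK : Cfsg.IsPComponent p K) (hJ : Cfsg.IsPComponent p J) (hKJ : K ≤ J) : K = J := by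
  set O := Cfsg.pPrimeCore p X with hO
  set π := QuotientGroup.mk' O with hπ
  have hle : K.map π ≤ J.map π := Subgroup.map_mono hKJ
  have hsub : ((K.map π).subgroupOf (J.map π)).IsSubnormal := hK.2.1.1.subgroupOf
  have hKperf : ⁅K.map π, K.map π⁆ = K.map π := Subgroup.isPerfect_iff.mp hK.2.1.2.1
  have hKnt : Nontrivial ↥(K.map π) := IsQuasisimple_nontrivial hK.2.1.2
  rcases subnormal_eq_top_or_le_center hJ.2.1.2 hsub with h | h
  · have h1 : J.map π ≤ K.map π := Subgroup.subgroupOf_eq_top.mp h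
    exact hJ.2.2 K hK.1 hKJ (le_antisymm hle h1)
  · exfalso
    have hcomm : ⁅K.map π, K.map π⁆ = ⊥ := by
      rw [Subgroup.commutator_eq_bot_iff_le_centralizer]
      intro a ha b hb
      have h1 : (⟨a, hle ha⟩ : J.map π) ∈ Subgroup.center ↥(J.map π) :=
        h (Subgroup.mem_subgroupOf.mpr ha)
      have h2 := Subgroup.mem_center_iff.mp h1 ⟨b, hle hb⟩
      exact congrArg Subtype.val h2
    rw [hKperf] at hcomm
    rw [hcomm] at hKnt
    exact not_subsingleton _ (inferInstance : Subsingleton (⊥ : Subgroup (X ⧸ O)))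

/-- If `ι : Y →* X` is injective with range a `p`-component `K` of the finite group `X`, then `Y` is a
`p`-component of itself. -/
theorem IsPComponent.top_of_range_eq [Finite X] {p : ℕ} {K : Subgroup X} (hK : Cfsg.IsPComponent p K)
    {Y : Type*} [Group Y] (ι : Y →* X) (hι : Function.Injective ι) (hr : ι.range = K) :
    Cfsg.IsPComponent p (⊤ : Subgroup Y) := by
  have : Finite Y := Finite.of_injective ι hι
  set O := Cfsg.pPrimeCore p X with hO
  set π := QuotientGroup.mk' O with hπ
  set OY := Cfsg.pPrimeCore p Y with hOY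
  set πY := QuotientGroup.mk' OY with hπY
  have hmemK : ∀ y : Y, ι y ∈ K := fun y => hr ▸ ⟨y, rfl⟩
  -- image of a subnormal subgroup of `Y` is subnormal in `X`
  have hsubn : ∀ H : Subgroup Y, H.IsSubnormal → (H.map ι).IsSubnormal := by
    intro H hH
    let e : Y →* ↥K := ι.codRestrict K hmemK
    have he : Function.Surjective e := by
      rintro ⟨k, hk⟩
      rw [← hr] at hk
      obtain ⟨y, rfl⟩ := hk
      exact ⟨y, rfl⟩
    have h1 : (H.map e).IsSubnormal := hH.map he
    have h2 := h1.trans' hK.1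
    rw [Subgroup.map_map] at h2
    exact h2
  -- membership in `O_{p'}(Y)`
  have hOYle : OY.map ι ≤ O := by
    apply IsSubnormal.le_pPrimeCore (hsubn OY (Subgroup.Normal.isSubnormal inferInstance))
    rw [Subgroup.card_map_of_injective hι]
    exact card_pPrimeCore_coprime p
  have hcomap : O.comap ι ≤ OY := by
    apply le_pPrimeCore inferInstance
    have h1 : Nat.card (O.comap ι) = Nat.card ((O.comap ι).map ι) :=
      (Subgroup.card_map_of_injective hι).symm
    rw [h1]
    exact Nat.Coprime.coprime_dvd_left (Subgroup.card_dvd_of_le (Subgroup.map_comap_le ι O))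
      (card_pPrimeCore_coprime p)
  have hmemOY : ∀ y : Y, y ∈ OY ↔ ι y ∈ O := by
    intro y
    exact ⟨fun hy => hOYle (Subgroup.mem_map_of_mem ι hy), fun hy => hcomap hy⟩
  -- the surjection onto the image of `K`
  let φ : Y →* ↥(K.map π) := (π.comp ι).codRestrict (K.map π)
    (fun y => Subgroup.mem_map_of_mem π (hmemK y))
  have hφ : Function.Surjective φ := by
    rintro ⟨z, k, hk, rfl⟩
    have hk' : k ∈ ι.range := hr ▸ hk
    obtain ⟨y, rfl⟩ := hk'
    exact ⟨y, rfl⟩
  have hker : OY = φ.ker := by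
    ext y
    rw [MonoidHom.mem_ker, hmemOY]
    have hiff : ι y ∈ O ↔ π (ι y) = 1 := by
      rw [← MonoidHom.mem_ker, QuotientGroup.ker_mk']
    rw [hiff]
    constructor
    · intro h; exact Subtype.ext h
    · intro h; exact congrArg Subtype.val h
  have hquasi : Cfsg.IsQuasisimple (Y ⧸ OY) :=
    isQuasisimple_of_mulEquiv ((QuotientGroup.quotientMulEquivOfEq hker).trans
      (QuotientGroup.quotientKerEquivOfSurjective φ hφ)) hK.2.1.2
  have htop : (⊤ : Subgroup Y).map πY = ⊤ :=
    Subgroup.map_top_of_surjective πY (QuotientGroup.mk'_surjective OY)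
  refine ⟨Subgroup.IsSubnormal.top, ?_, ?_⟩
  · rw [htop]
    exact ⟨Subgroup.IsSubnormal.top, isQuasisimple_of_mulEquiv Subgroup.topEquiv hquasi⟩
  · intro H hH _ hHmap
    rw [htop] at hHmap
    have h1 : (H.map ι).IsSubnormal := hsubn H hH
    have h2 : H.map ι ≤ K := by
      rintro _ ⟨h, _, rfl⟩; exact hmemK h
    have h3 : (H.map ι).map π = K.map π := by
      apply le_antisymm (Subgroup.map_mono h2)
      rintro _ ⟨k, hk, rfl⟩
      have hk' : k ∈ ι.range := hr ▸ hk
      obtain ⟨y, rfl⟩ := hk'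
      have hy : πY y ∈ H.map πY := by rw [hHmap]; trivial
      obtain ⟨h, hh, hhy⟩ := hy
      have h4 : h⁻¹ * y ∈ OY := by
        rw [← QuotientGroup.ker_mk' OY, MonoidHom.mem_ker]
        show πY (h⁻¹ * y) = 1
        rw [map_mul, map_inv, hhy, inv_mul_cancel]
      have h5 : ι (h⁻¹ * y) ∈ O := (hmemOY _).mp h4
      refine ⟨ι h, Subgroup.mem_map_of_mem ι hh, ?_⟩
      have h6 : π (ι (h⁻¹ * y)) = 1 := by
        rw [← MonoidHom.mem_ker, QuotientGroup.ker_mk']; exact h5
      rw [map_mul, map_inv, map_mul, map_inv, inv_mul_eq_one] at h6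
      exact h6
    have h4 : H.map ι = K := hK.2.2 _ h1 h2 h3
    rw [eq_top_iff]
    intro y _
    have : ι y ∈ H.map ι := h4 ▸ hmemK y
    obtain ⟨h, hh, hhy⟩ := this
    rw [← hι hhy]; exact hh

end Self

end Cfsg.Agent.Helper34
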