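import Cfsg.Prelude.Def_PLocal
import Cfsg.Agent.Lib.Helper11.Replacement6

/-!
# Thompson normal p-complement: the (abelian-version) Thompson subgroup and the centre,
inside an ambient group; transport along homomorphisms injective on the subgroup.
-/

set_option autoImplicit false
set_option linter.unusedSectionVars false

namespace Cfsg.Agent.Helper34.TNC

open Cfsg

variable {G : Type*} [Group G]

/-- abelian subgroups of `T` of largest order -/
def MaxAb (T : Subgroup G) : Set (Subgroup G) :=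
  {A | A ≤ T ∧ IsMulCommutative A ∧
    ∀ Y : Subgroup G, Y ≤ T → IsMulCommutative Y → Nat.card Y ≤ Nat.card A}

/-- the centre of `T`, inside `G` -/
def ZS (T : Subgroup G) : Subgroup G := T ⊓ Subgroup.centralizer (T : Set G)

theorem jA_eq [Finite G] (T : Subgroup G) : Cfsg.thompsonSubgroupAOf T = sSup (MaxAb T) := by
  have h3 : Set.image (fun A : Subgroup ↥T => A.map T.subtype) (Cfsg.maxAbelianSubgroups ↥T) =
      MaxAb T := by
    ext X
    exact Cfsg.Agent.Helper11.Repl.mem_image_maxAbelian_iff T X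
  unfold Cfsg.thompsonSubgroupAOf Cfsg.thompsonSubgroupA
  rw [← h3, (Subgroup.gc_map_comap T.subtype).l_sSup, sSup_image]

theorem maxAb_nonempty [Finite G] (T : Subgroup G) : (MaxAb T).Nonempty := by
  have hfin : {A : Subgroup G | A ≤ T ∧ IsMulCommutative A}.Finite := Set.toFinite _
  have hne : {A : Subgroup G | A ≤ T ∧ IsMulCommutative A}.Nonempty :=
    ⟨⊥, bot_le, inferInstance⟩
  obtain ⟨A, hA, hmax⟩ := Set.exists_max_image _ (fun A : Subgroup G => Nat.card A) hfin hne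
  exact ⟨A, hA.1, hA.2, fun Y hY hYc => hmax Y ⟨hY, hYc⟩⟩

theorem jA_le [Finite G] (T : Subgroup G) : Cfsg.thompsonSubgroupAOf T ≤ T := by
  rw [jA_eq]
  exact sSup_le (fun A hA => hA.1)

theorem le_jA [Finite G] {T A : Subgroup G} (hA : A ∈ MaxAb T) :
    A ≤ Cfsg.thompsonSubgroupAOf T := by
  rw [jA_eq]; exact le_sSup hA

theorem jA_ne_bot [Finite G] {T : Subgroup G} (hT : T ≠ ⊥) : Cfsg.thompsonSubgroupAOf T ≠ ⊥ := by
  obtain ⟨A, hA⟩ := maxAb_nonempty T
  obtain ⟨x, hxT, hx1⟩ := (Subgroup.ne_bot_iff_exists_ne_one (H := T)).mp hT |>.imp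
    (fun x hx => hx) |> fun ⟨x, hx⟩ => (⟨(x : G), x.2, fun h => hx (Subtype.ext h)⟩ : ∃ x : G, x ∈ T ∧ x ≠ 1)
  intro hbot
  have hAb : A = ⊥ := by
    rw [eq_bot_iff, ← hbot]; exact le_jA hA
  have h1 := hA.2.2 (Subgroup.zpowers x) (by rw [Subgroup.zpowers_le]; exact hxT) inferInstance
  rw [hAb, Subgroup.card_bot, Nat.card_zpowers] at h1
  have h2 : orderOf x ≠ 0 := (orderOf_pos x).ne'
  have h3 : orderOf x ≠ 1 := fun h => hx1 (orderOf_eq_one_iff.mp h)
  omega

section Map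

variable {G' : Type*} [Group G'] (f : G →* G') (T : Subgroup G)
  (hinj : ∀ x ∈ T, f x = 1 → x = 1)

include hinj

theorem eq_of_map_eq {x y : G} (hx : x ∈ T) (hy : y ∈ T) (h : f x = f y) : x = y := by
  have h1 : f (x * y⁻¹) = 1 := by rw [map_mul, map_inv, h, mul_inv_cancel]
  have h2 := hinj _ (T.mul_mem hx (T.inv_mem hy)) h1
  exact mul_inv_eq_one.mp h2

theorem card_map_of_injOn [Finite G] {Y : Subgroup G} (hY : Y ≤ T) :
    Nat.card (Y.map f) = Nat.card Y := by
  symm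
  apply Nat.card_congr
  refine Equiv.ofBijective (f.subgroupMap Y) ⟨?_, f.subgroupMap_surjective Y⟩
  intro a b hab
  have h1 : f (a : G) = f (b : G) := congrArg Subtype.val hab
  exact Subtype.ext (eq_of_map_eq f T hinj (hY a.2) (hY b.2) h1)

theorem isMulCommutative_comap_inf {Y' : Subgroup G'} (hY' : IsMulCommutative Y') :
    IsMulCommutative ↥(Y'.comap f ⊓ T) := by
  refine ⟨⟨fun a b => ?_⟩⟩
  apply Subtype.ext
  have ha := Subgroup.mem_inf.mp a.2
  have hb := Subgroup.mem_inf.mp b.2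
  apply eq_of_map_eq f T hinj (T.mul_mem ha.2 hb.2) (T.mul_mem hb.2 ha.2)
  rw [map_mul, map_mul]
  have := hY'.is_comm.comm (⟨f a, ha.1⟩ : Y') ⟨f b, hb.1⟩
  exact congrArg Subtype.val this

theorem map_comap_inf_eq {Y' : Subgroup G'} (hY' : Y' ≤ T.map f) : (Y'.comap f ⊓ T).map f = Y' := by
  ext y
  constructor
  · rintro ⟨x, hx, rfl⟩
    exact (Subgroup.mem_inf.mp hx).1
  · intro hy
    obtain ⟨x, hxT, rfl⟩ := hY' hy
    exact ⟨x, Subgroup.mem_inf.mpr ⟨hy, hxT⟩, rfl⟩

theorem maxAb_map [Finite G] [Finite G'] {A : Subgroup G} (hA : A ∈ MaxAb T) :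
    A.map f ∈ MaxAb (T.map f) := by
  obtain ⟨hAT, hAc, hAmax⟩ := hA
  refine ⟨Subgroup.map_mono hAT, ?_, ?_⟩
  · have := hAc; infer_instance
  · intro Y' hY' hY'c
    have h1 := hAmax (Y'.comap f ⊓ T) inf_le_right (isMulCommutative_comap_inf f T hinj hY'c)
    rw [← card_map_of_injOn f T hinj inf_le_right, map_comap_inf_eq f T hinj hY'] at h1
    rw [card_map_of_injOn f T hinj hAT]
    exact h1

theorem exists_maxAb_of_map [Finite G] [Finite G'] {B : Subgroup G'} (hB : B ∈ MaxAb (T.map f)) :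
    ∃ A ∈ MaxAb T, A.map f = B := by
  obtain ⟨hBT, hBc, hBmax⟩ := hB
  refine ⟨B.comap f ⊓ T, ⟨inf_le_right, isMulCommutative_comap_inf f T hinj hBc, ?_⟩,
    map_comap_inf_eq f T hinj hBT⟩
  intro Y hY hYc
  have h1 := hBmax (Y.map f) (Subgroup.map_mono hY) (by have := hYc; infer_instance)
  rw [card_map_of_injOn f T hinj hY] at h1
  rw [← card_map_of_injOn f T hinj (inf_le_right : B.comap f ⊓ T ≤ T),
    map_comap_inf_eq f T hinj hBT]
  exact h1

/-- `J(f(T)) = f(J(T))` when `f` is injective on `T` -/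
theorem jA_map [Finite G] [Finite G'] :
    Cfsg.thompsonSubgroupAOf (T.map f) = (Cfsg.thompsonSubgroupAOf T).map f := by
  rw [jA_eq, jA_eq]
  apply le_antisymm
  · apply sSup_le
    intro B hB
    obtain ⟨A, hA, rfl⟩ := exists_maxAb_of_map f T hinj hB
    exact Subgroup.map_mono (le_sSup hA)
  · rw [(Subgroup.gc_map_comap f).l_sSup]
    apply iSup₂_le
    intro A hA
    exact le_sSup (maxAb_map f T hinj hA)

/-- `Z(f(T)) = f(Z(T))` when `f` is injective on `T` -/
theorem zs_map : ZS (T.map f) = (ZS T).map f := by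
  ext y
  unfold ZS
  constructor
  · intro hy
    obtain ⟨hy1, hy2⟩ := Subgroup.mem_inf.mp hy
    obtain ⟨x, hxT, rfl⟩ := hy1
    refine ⟨x, Subgroup.mem_inf.mpr ⟨hxT, ?_⟩, rfl⟩
    rw [Subgroup.mem_centralizer_iff]
    intro t ht
    apply eq_of_map_eq f T hinj (T.mul_mem ht hxT) (T.mul_mem hxT ht)
    rw [map_mul, map_mul]
    exact (Subgroup.mem_centralizer_iff.mp hy2) (f t) ⟨t, ht, rfl⟩
  · rintro ⟨x, hx, rfl⟩
    obtain ⟨hx1, hx2⟩ := Subgroup.mem_inf.mp hx
    refine Subgroup.mem_inf.mpr ⟨⟨x, hx1, rfl⟩, ?_⟩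
    rw [Subgroup.mem_centralizer_iff]
    rintro _ ⟨t, ht, rfl⟩
    rw [← map_mul, ← map_mul, (Subgroup.mem_centralizer_iff.mp hx2) t ht]

end Map

theorem mem_normalizer_of_map_conj_eq {X : Subgroup G} {g : G}
    (h : X.map (MulAut.conj g).toMonoidHom = X) : g ∈ Subgroup.normalizer (X : Set G) := by
  rw [Subgroup.mem_normalizer_iff]
  intro x
  constructor
  · intro hx
    rw [← h]
    exact ⟨x, hx, by simp⟩
  · intro hx
    rw [← h] at hx
    obtain ⟨y, hy, hyx⟩ := hx
    have : y = x := by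
      have h1 : g * y * g⁻¹ = g * x * g⁻¹ := by simpa using hyx
      have h2 : y = g⁻¹ * (g * y * g⁻¹) * g := by group
      rw [h2, h1]; group
    rwa [← this]

theorem map_conj_eq_of_mem_normalizer {X : Subgroup G} {g : G}
    (hg : g ∈ Subgroup.normalizer (X : Set G)) : X.map (MulAut.conj g).toMonoidHom = X := by
  ext y
  constructor
  · rintro ⟨x, hx, rfl⟩
    have := (Subgroup.mem_normalizer_iff.mp hg x).mp hx
    simpa using this
  · intro hy
    refine ⟨g⁻¹ * y * g, ?_, by simp [mul_assoc]⟩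
    have hg' := Subgroup.inv_mem _ hg
    have := (Subgroup.mem_normalizer_iff.mp hg' y).mp hy
    simpa using this

theorem normalizer_le_normalizer_jA [Finite G] (T : Subgroup G) :
    Subgroup.normalizer (T : Set G) ≤ Subgroup.normalizer (Cfsg.thompsonSubgroupAOf T : Set G) := by
  intro g hg
  apply mem_normalizer_of_map_conj_eq
  have h1 := jA_map (MulAut.conj g).toMonoidHom T
    (fun x _ hx => by
      have : (MulAut.conj g) x = 1 := hx
      exact (map_eq_one_iff (MulAut.conj g) (MulAut.conj g).injective).mp this)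
  rw [map_conj_eq_of_mem_normalizer hg] at h1
  exact h1.symm

theorem normalizer_le_normalizer_zs (T : Subgroup G) :
    Subgroup.normalizer (T : Set G) ≤ Subgroup.normalizer (ZS T : Set G) := by
  intro g hg
  apply mem_normalizer_of_map_conj_eq
  have h1 := zs_map (MulAut.conj g).toMonoidHom T
    (fun x _ hx => by
      have : (MulAut.conj g) x = 1 := hx
      exact (map_eq_one_iff (MulAut.conj g) (MulAut.conj g).injective).mp this)
  rw [map_conj_eq_of_mem_normalizer hg] at h1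
  exact h1.symm

/-- if `J(S) ≤ H ≤ S` then `J(H) = J(S)` -/
theorem jA_eq_of_le [Finite G] {H S : Subgroup G} (hHS : H ≤ S)
    (hJ : Cfsg.thompsonSubgroupAOf S ≤ H) :
    Cfsg.thompsonSubgroupAOf H = Cfsg.thompsonSubgroupAOf S := by
  obtain ⟨A₀, hA₀⟩ := maxAb_nonempty S
  have hA₀H : A₀ ≤ H := (le_jA hA₀).trans hJ
  have hset : MaxAb H = MaxAb S := by
    ext A
    constructor
    · rintro ⟨hAH, hAc, hAmax⟩
      refine ⟨hAH.trans hHS, hAc, fun Y hY hYc => ?_⟩
      exact (hA₀.2.2 Y hY hYc).trans (hAmax A₀ hA₀H hA₀.2.1)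
    · intro hA
      exact ⟨(le_jA hA).trans hJ, hA.2.1, fun Y hY hYc => hA.2.2 Y (hY.trans hHS) hYc⟩
  rw [jA_eq, jA_eq, hset]

theorem isPGroup_jA [Finite G] {p : ℕ} {T : Subgroup G} (hT : IsPGroup p T) :
    IsPGroup p (Cfsg.thompsonSubgroupAOf T) := hT.to_le (jA_le T)

theorem zs_le (T : Subgroup G) : ZS T ≤ T := inf_le_left

/-- the centre of a nontrivial finite `p`-group is nontrivial -/
theorem zs_ne_bot [Finite G] {p : ℕ} [Fact p.Prime] {T : Subgroup G} (hT : IsPGroup p T)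
    (hTb : T ≠ ⊥) : ZS T ≠ ⊥ := by
  have hnt : Nontrivial ↥T := (Subgroup.nontrivial_iff_ne_bot T).mpr hTb
  have hc : Nontrivial (Subgroup.center ↥T) := hT.center_nontrivial
  obtain ⟨⟨z, hz⟩, hz1⟩ := exists_ne (1 : Subgroup.center ↥T)
  intro hbot
  have hzZ : (z : G) ∈ ZS T := by
    refine Subgroup.mem_inf.mpr ⟨z.2, ?_⟩
    rw [Subgroup.mem_centralizer_iff]
    intro t ht
    have := (Subgroup.mem_center_iff.mp hz) ⟨t, ht⟩
    exact congrArg Subtype.val this
  rw [hbot, Subgroup.mem_bot] at hzZ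
  apply hz1
  apply Subtype.ext
  apply Subtype.ext
  exact hzZ

end Cfsg.Agent.Helper34.TNC
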