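import Mathlib.GroupTheory.Sylow
import Mathlib.GroupTheory.Perm.Cycle.Type
import Mathlib.GroupTheory.GroupAction.Quotient
import Mathlib.GroupTheory.Index
import Cfsg.Prelude.Def_LocalEven

/-!
# A four-group with `S₃` induced on it yields a section `S₄`
-/

set_option autoImplicit false
set_option linter.unusedSectionVars false

namespace Cfsg.Agent.Helper34.TNC

universe v w x

/-- A span `G ←i A f→ H` with `i` injective and `f` surjective shows that `H` is involved in `G`. -/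
theorem involves_of_span' {H : Type v} [Group H] {G : Type w} [Group G] {A : Type x} [Group A]
    (i : A →* G) (f : A →* H) (hi : Function.Injective i) (hf : Function.Surjective f) :
    Cfsg.Involves H G := by
  let K : Subgroup G := i.range
  let e : A ≃* K := MonoidHom.ofInjective hi
  let f' : K →* H := f.comp e.symm.toMonoidHom
  have hf' : Function.Surjective f' := hf.comp e.symm.surjective
  let R : Subgroup G := f'.ker.map K.subtype
  have hR : R.subgroupOf K = f'.ker := by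
    ext z
    rw [Subgroup.mem_subgroupOf]
    constructor
    · rintro ⟨y, hy, hyz⟩
      have : y = z := Subtype.ext hyz
      rwa [← this]
    · intro hz
      exact ⟨z, hz, rfl⟩
  have hn : (R.subgroupOf K).Normal := by rw [hR]; infer_instance
  refine ⟨K, R, hn, ⟨?_⟩⟩
  exact (QuotientGroup.quotientMulEquivOfEq hR).trans
    (QuotientGroup.quotientKerEquivOfSurjective f' hf')

theorem span_of_involves' {H : Type v} [Group H] {G : Type w} [Group G] (h : Cfsg.Involves H G) :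
    ∃ (K : Subgroup G) (f : K →* H), Function.Surjective f := by
  obtain ⟨K, R, hn, ⟨e⟩⟩ := h
  refine ⟨K, e.toMonoidHom.comp (QuotientGroup.mk' (R.subgroupOf K)), ?_⟩
  exact e.surjective.comp (QuotientGroup.mk'_surjective _)

/-- involvement passes along injective homomorphisms -/
theorem involves_of_injective' {H : Type v} [Group H] {G : Type w} [Group G] {G' : Type x}
    [Group G'] (h : Cfsg.Involves H G) (j : G →* G') (hj : Function.Injective j) :
    Cfsg.Involves H G' := by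
  obtain ⟨K, f, hf⟩ := span_of_involves' h
  exact involves_of_span' (j.comp K.subtype) f (hj.comp K.subtype_injective) hf

/-- involvement passes to preimages under surjections -/
theorem involves_of_surjective' {H : Type v} [Group H] {G : Type w} [Group G] {G' : Type x}
    [Group G'] (h : Cfsg.Involves H G') (j : G →* G') (hj : Function.Surjective j) :
    Cfsg.Involves H G := by
  obtain ⟨K, f, hf⟩ := span_of_involves' h
  refine involves_of_span' (K.comap j).subtype (f.comp (j.subgroupComap K))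
    (Subgroup.subtype_injective _) ?_
  exact hf.comp (j.subgroupComap_surjective_of_surjective K hj)


section FourGroup

variable {Γ : Type*} [Group Γ]

/-- the sign character of the action on a normal subgroup -/
noncomputable def permHom (U : Subgroup Γ) [U.Normal] : Γ →* Equiv.Perm U :=
  (MulAut.toPerm U).comp MulAut.conjNormal

theorem permHom_apply (U : Subgroup Γ) [U.Normal] (x : Γ) (u : U) :
    ((permHom U x u : U) : Γ) = x * u * x⁻¹ := rfl

theorem involves_S4_normal [Finite Γ] (U : Subgroup Γ) [U.Normal]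
    (hU4 : Nat.card U = 4) (g t : Γ)
    (hg : ∀ u ∈ U, g * u * g⁻¹ = u → u = 1)
    (ht : ∃ u ∈ U, t * u * t⁻¹ ≠ u)
    (ht2 : ∀ u ∈ U, (t * t) * u * (t * t)⁻¹ = u) :
    Cfsg.Involves (Equiv.Perm (Fin 4)) Γ := by
  classical
  have : Fintype U := Fintype.ofFinite U
  have hcardU : Fintype.card U = 4 := by rw [← Nat.card_eq_fintype_card]; exact hU4
  set τ : Γ →* Equiv.Perm U := permHom U with hτ
  set ε : Γ →* ℤˣ := Equiv.Perm.sign.comp τ with hε
  -- the action of g is a three-cycle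
  have hsupp : (τ g).support = Finset.univ.erase 1 := by
    ext u
    rw [Equiv.Perm.mem_support, Finset.mem_erase]
    simp only [Finset.mem_univ, and_true]
    constructor
    · intro h1 h2
      apply h1
      rw [h2]
      apply Subtype.ext
      rw [permHom_apply]
      simp
    · intro h1 h2
      apply h1
      have h3 : g * u * g⁻¹ = u := by
        have := congrArg Subtype.val h2
        rwa [permHom_apply] at this
      exact Subtype.ext (hg u u.2 h3)
  have h3c : (τ g).IsThreeCycle := by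
    rw [← card_support_eq_three_iff, hsupp, Finset.card_erase_of_mem (Finset.mem_univ _),
      Finset.card_univ, hcardU]
  have hεg : ε g = 1 := h3c.sign
  have hordg : orderOf (τ g) = 3 := h3c.orderOf
  -- the action of t is a transposition
  have hτt1 : τ t ≠ 1 := by
    obtain ⟨u, hu, hne⟩ := ht
    intro h1
    apply hne
    have : τ t ⟨u, hu⟩ = ⟨u, hu⟩ := by rw [h1]; rfl
    have := congrArg Subtype.val this
    rwa [permHom_apply] at this
  have hτt2 : τ t ^ 2 = 1 := by
    rw [pow_two, ← map_mul]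
    ext u
    rw [permHom_apply, Equiv.Perm.one_apply]
    exact ht2 u u.2
  have hswap : (τ t).IsSwap := by
    rw [← Equiv.Perm.card_support_eq_two]
    have h1 : (τ t).support ⊆ Finset.univ.erase 1 := by
      intro u hu
      rw [Equiv.Perm.mem_support] at hu
      rw [Finset.mem_erase]
      refine ⟨?_, Finset.mem_univ _⟩
      rintro rfl
      apply hu
      apply Subtype.ext
      rw [permHom_apply]
      simp
    have h2 : (τ t).support.card ≤ 3 := by
      have := Finset.card_le_card h1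
      rwa [Finset.card_erase_of_mem (Finset.mem_univ _), Finset.card_univ, hcardU] at this
    have h3 : (τ t).support.card ≠ 0 := by
      rw [Ne, Equiv.Perm.card_support_eq_zero]; exact hτt1
    have h4 := Equiv.Perm.card_support_ne_one (τ t)
    have h5 : (τ t).support.card ≠ 3 := by
      intro h
      have h6 : (τ t).IsThreeCycle := card_support_eq_three_iff.mp h
      have h7 := orderOf_dvd_of_pow_eq_one hτt2
      rw [h6.orderOf] at h7
      omega
    omega
  have hεt : ε t = -1 := hswap.sign_eq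
  have : Fact (Nat.Prime 3) := ⟨Nat.prime_three⟩
  have : Fact (Nat.Prime 2) := ⟨Nat.prime_two⟩
  -- the 3-part of g
  have hog : orderOf g ≠ 0 := (orderOf_pos g).ne'
  obtain ⟨a, r, hr3, hgar⟩ := Nat.exists_eq_pow_mul_and_not_dvd hog 3 (by norm_num)
  have hr0 : r ≠ 0 := by
    rintro rfl
    exact hr3 (dvd_zero 3)
  set g₃ : Γ := g ^ r with hg₃
  have hog₃ : orderOf g₃ = 3 ^ a := by
    rw [hg₃, orderOf_pow_of_dvd hr0 ⟨3 ^ a, by rw [hgar]; ring⟩, hgar,
      Nat.mul_div_cancel _ (Nat.pos_of_ne_zero hr0)]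
  have hcop : Nat.Coprime 3 r := (Nat.Prime.coprime_iff_not_dvd Nat.prime_three).mpr hr3
  have hτg₃ : τ g₃ = τ g ^ r := map_pow τ g r
  have hordg₃ : orderOf (τ g₃) = 3 := by
    rw [hτg₃, Nat.Coprime.orderOf_pow (by rw [hordg]; exact hcop), hordg]
  -- g is a power of g₃ modulo the kernel
  obtain ⟨m, hm⟩ : ∃ m : ℕ, τ g₃ ^ m = τ g := by
    obtain ⟨m, -, hm⟩ := Nat.exists_mul_mod_eq_one_of_coprime hcop.symm (by norm_num)
    refine ⟨m, ?_⟩
    rw [hτg₃, ← pow_mul, ← pow_mod_orderOf, hordg, hm, pow_one]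
  have hg₃fix : ∀ u ∈ U, g₃ * u * g₃⁻¹ = u → u = 1 := by
    intro u hu h
    apply hg u hu
    have h1 : τ g₃ ⟨u, hu⟩ = ⟨u, hu⟩ := Subtype.ext h
    have h2 : ∀ i : ℕ, (τ g₃ ^ i) ⟨u, hu⟩ = ⟨u, hu⟩ := by
      intro i
      induction i with
      | zero => rfl
      | succ i ih => rw [pow_succ, Equiv.Perm.mul_apply, h1, ih]
    have h3 := h2 m
    rw [hm] at h3
    have := congrArg Subtype.val h3
    rwa [permHom_apply] at this
  -- a Sylow 3-subgroup containing g₃
  have hP₀ : IsPGroup 3 (Subgroup.zpowers g₃) := by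
    apply IsPGroup.of_card (n := a)
    rw [Nat.card_zpowers, hog₃]
  obtain ⟨Y, hY⟩ := hP₀.exists_le_sylow
  have hg₃Y : g₃ ∈ (Y : Subgroup Γ) := hY (Subgroup.mem_zpowers g₃)
  have hYε : (Y : Subgroup Γ) ≤ ε.ker := by
    intro y hy
    rw [MonoidHom.mem_ker]
    obtain ⟨k, hk⟩ := Y.isPGroup' ⟨y, hy⟩
    have h1 : y ^ 3 ^ k = 1 := congrArg Subtype.val hk
    have h2 : ε y ^ 3 ^ k = 1 := by rw [← map_pow, h1, map_one]
    rcases Int.units_eq_one_or (ε y) with h | h
    · exact h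
    · rw [h, Odd.neg_one_pow (Odd.pow (by decide))] at h2
      exact absurd h2 (by decide)
  set M₀ : Subgroup Γ := Subgroup.normalizer ((Y : Subgroup Γ) : Set Γ) with hM₀
  have hfrat : M₀ ⊔ ε.ker = ⊤ := Sylow.normalizer_sup_eq_top' Y hYε
  have hYM₀ : (Y : Subgroup Γ) ≤ M₀ := Subgroup.le_normalizer
  obtain ⟨m₀, hm₀M, hm₀ε⟩ : ∃ m₀ ∈ M₀, ε m₀ = -1 := by
    by_contra hcon
    push Not at hcon
    have h1 : M₀ ≤ ε.ker := by
      intro x hx
      rw [MonoidHom.mem_ker]
      rcases Int.units_eq_one_or (ε x) with h | h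
      · exact h
      · exact absurd h (hcon x hx)
    have h2 : ε.ker = ⊤ := by rw [← hfrat]; exact (sup_eq_right.mpr h1).symm
    have h3 : t ∈ ε.ker := by rw [h2]; trivial
    rw [MonoidHom.mem_ker, hεt] at h3
    exact absurd h3 (by decide)
  -- U ∩ M₀ = 1
  have hU2 : IsPGroup 2 U := IsPGroup.of_card (n := 2) (by rw [hU4]; norm_num)
  have hUM₀ : U ⊓ M₀ = ⊥ := by
    rw [eq_bot_iff]
    rintro u ⟨huU, huM⟩
    rw [Subgroup.mem_bot]
    apply hg₃fix u huU
    have hc1 : u * g₃ * u⁻¹ * g₃⁻¹ ∈ (Y : Subgroup Γ) := by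
      have := (Subgroup.mem_normalizer_iff.mp huM g₃).mp hg₃Y
      exact Subgroup.mul_mem _ this (Subgroup.inv_mem _ hg₃Y)
    have hc2 : u * g₃ * u⁻¹ * g₃⁻¹ ∈ U := by
      have h1 : g₃ * u⁻¹ * g₃⁻¹ ∈ U := ‹U.Normal›.conj_mem _ (U.inv_mem huU) _
      have h2 : u * g₃ * u⁻¹ * g₃⁻¹ = u * (g₃ * u⁻¹ * g₃⁻¹) := by group
      rw [h2]
      exact U.mul_mem huU h1
    have hc : u * g₃ * u⁻¹ * g₃⁻¹ = 1 := by
      set c := u * g₃ * u⁻¹ * g₃⁻¹
      obtain ⟨k, hk⟩ := Y.isPGroup' ⟨c, hc1⟩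
      have h1 : c ^ 3 ^ k = 1 := congrArg Subtype.val hk
      obtain ⟨j, hj⟩ := hU2 ⟨c, hc2⟩
      have h2 : c ^ 2 ^ j = 1 := congrArg Subtype.val hj
      have h3 : orderOf c ∣ 3 ^ k := orderOf_dvd_of_pow_eq_one h1
      have h4 : orderOf c ∣ 2 ^ j := orderOf_dvd_of_pow_eq_one h2
      have h5 : Nat.Coprime (3 ^ k) (2 ^ j) := Nat.Coprime.pow _ _ (by norm_num)
      exact orderOf_eq_one_iff.mp (Nat.eq_one_of_dvd_coprimes h5 h3 h4)
    calc g₃ * u * g₃⁻¹ = (u * g₃ * u⁻¹ * g₃⁻¹)⁻¹ * u := by group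
      _ = u := by rw [hc, inv_one, one_mul]
  -- K' = M₀ U
  set K' : Subgroup Γ := M₀ ⊔ U with hK'
  have hM₀K : M₀ ≤ K' := le_sup_left
  have hUK : U ≤ K' := le_sup_right
  have hidx4 : M₀.relIndex K' = 4 := by
    have h1 : U.relIndex K' = Nat.card M₀ := by
      rw [hK', Subgroup.relIndex_sup_right, ← Subgroup.inf_relIndex_right, hUM₀,
        Subgroup.relIndex_bot_left]
    have h2 : Nat.card U * U.relIndex K' = Nat.card K' := by
      have := Subgroup.relIndex_mul_relIndex ⊥ U K' bot_le hUK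
      rwa [Subgroup.relIndex_bot_left, Subgroup.relIndex_bot_left] at this
    have h3 : Nat.card M₀ * M₀.relIndex K' = Nat.card K' := by
      have := Subgroup.relIndex_mul_relIndex ⊥ M₀ K' bot_le hM₀K
      rwa [Subgroup.relIndex_bot_left, Subgroup.relIndex_bot_left] at this
    rw [h1, hU4] at h2
    have hpos : 0 < Nat.card M₀ := Nat.card_pos
    have : Nat.card M₀ * M₀.relIndex K' = Nat.card M₀ * 4 := by rw [h3, ← h2]; ring
    exact Nat.eq_of_mul_eq_mul_left hpos this
  -- 6 divides the order of the image of M₀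
  have h6 : 6 ∣ Nat.card (M₀.map τ) := by
    have h2 : 2 ∣ Nat.card (M₀.map τ) := by
      have hmem : τ m₀ ∈ M₀.map τ := ⟨m₀, hm₀M, rfl⟩
      have h1 : orderOf (τ m₀) ∣ Nat.card (M₀.map τ) := by
        have : orderOf (⟨τ m₀, hmem⟩ : M₀.map τ) ∣ Nat.card (M₀.map τ) := orderOf_dvd_natCard _
        rwa [← Subgroup.orderOf_coe] at this
      refine dvd_trans ?_ h1
      have h3 : (Equiv.Perm.sign (τ m₀)) ^ orderOf (τ m₀) = 1 := by
        rw [← map_pow, pow_orderOf_eq_one, map_one]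
      have h4 : Equiv.Perm.sign (τ m₀) = -1 := hm₀ε
      rw [h4] at h3
      exact even_iff_two_dvd.mp ((neg_one_pow_eq_one_iff_even (by decide)).mp h3)
    have h3 : 3 ∣ Nat.card (M₀.map τ) := by
      have hmem : τ g₃ ∈ M₀.map τ := ⟨g₃, hYM₀ hg₃Y, rfl⟩
      have h1 : orderOf (τ g₃) ∣ Nat.card (M₀.map τ) := by
        have : orderOf (⟨τ g₃, hmem⟩ : M₀.map τ) ∣ Nat.card (M₀.map τ) := orderOf_dvd_natCard _
        rwa [← Subgroup.orderOf_coe] at this
      rwa [hordg₃] at h1
    exact Nat.Coprime.mul_dvd_of_dvd_of_dvd (by norm_num) h2 h3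
  -- the action on the cosets of M₀ in K'
  set M₀' : Subgroup K' := M₀.subgroupOf K' with hM₀'
  set φ : K' →* Equiv.Perm (K' ⧸ M₀') := MulAction.toPermHom K' (K' ⧸ M₀') with hφ
  have hcardX : Nat.card (K' ⧸ M₀') = 4 := hidx4
  have hkerφ : φ.ker = M₀'.normalCore := (Subgroup.normalCore_eq_ker M₀').symm
  have hker_le : φ.ker ≤ (τ.ker ⊓ M₀).subgroupOf K' := by
    intro z hz
    rw [Subgroup.mem_subgroupOf]
    have hzM : (z : Γ) ∈ M₀ := by
      have : z ∈ M₀' := by
        rw [hkerφ] at hz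
        exact Subgroup.normalCore_le _ hz
      exact this
    refine ⟨?_, hzM⟩
    show (z : Γ) ∈ τ.ker
    rw [MonoidHom.mem_ker]
    ext u
    rw [Equiv.Perm.one_apply, permHom_apply]
    -- the commutator lies in U ∩ M₀
    have hc2 : (z : Γ) * u * (z : Γ)⁻¹ * (u : Γ)⁻¹ ∈ U :=
      U.mul_mem (‹U.Normal›.conj_mem _ u.2 _) (U.inv_mem u.2)
    have hc1 : (z : Γ) * u * (z : Γ)⁻¹ * (u : Γ)⁻¹ ∈ M₀ := by
      have hnorm : (φ.ker).Normal := inferInstance
      have h1 : (⟨u, hUK u.2⟩ : K') * z⁻¹ * (⟨u, hUK u.2⟩ : K')⁻¹ ∈ φ.ker :=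
        hnorm.conj_mem _ (Subgroup.inv_mem _ hz) _
      have h2 : z * ((⟨u, hUK u.2⟩ : K') * z⁻¹ * (⟨u, hUK u.2⟩ : K')⁻¹) ∈ φ.ker :=
        Subgroup.mul_mem _ hz h1
      rw [hkerφ] at h2
      have h3 := Subgroup.normalCore_le _ h2
      have h4 : ((z * ((⟨u, hUK u.2⟩ : K') * z⁻¹ * (⟨u, hUK u.2⟩ : K')⁻¹) : K') : Γ) ∈ M₀ := h3
      have h5 : ((z * ((⟨u, hUK u.2⟩ : K') * z⁻¹ * (⟨u, hUK u.2⟩ : K')⁻¹) : K') : Γ) =
          (z : Γ) * u * (z : Γ)⁻¹ * (u : Γ)⁻¹ := by
        simp only [Subgroup.coe_mul, Subgroup.coe_inv]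
        group
      rwa [h5] at h4
    have hc : (z : Γ) * u * (z : Γ)⁻¹ * (u : Γ)⁻¹ = 1 := by
      have : (z : Γ) * u * (z : Γ)⁻¹ * (u : Γ)⁻¹ ∈ U ⊓ M₀ := ⟨hc2, hc1⟩
      rwa [hUM₀, Subgroup.mem_bot] at this
    calc (z : Γ) * u * (z : Γ)⁻¹ = ((z : Γ) * u * (z : Γ)⁻¹ * (u : Γ)⁻¹) * u := by group
      _ = u := by rw [hc, one_mul]
  have h24 : 24 ∣ Nat.card φ.range := by
    rw [← Subgroup.index_ker]
    have hle : φ.ker ≤ M₀' := by rw [hkerφ]; exact Subgroup.normalCore_le _
    rw [← Subgroup.relIndex_mul_index hle]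
    have h1 : M₀'.index = 4 := hidx4
    rw [h1]
    have h2 : ((τ.ker ⊓ M₀).subgroupOf K').relIndex M₀' ∣ φ.ker.relIndex M₀' :=
      Subgroup.relIndex_dvd_of_le_left _ hker_le
    have h3 : ((τ.ker ⊓ M₀).subgroupOf K').relIndex M₀' = Nat.card (M₀.map τ) := by
      rw [hM₀', Subgroup.relIndex_subgroupOf hM₀K, Subgroup.inf_relIndex_right,
        Subgroup.relIndex_ker]
    rw [h3] at h2
    obtain ⟨c, hc⟩ := dvd_trans h6 h2
    rw [hc]
    exact ⟨c, by ring⟩
  have hcardP : Nat.card (Equiv.Perm (K' ⧸ M₀')) = 24 := by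
    rw [Nat.card_perm, hcardX]
    rfl
  have hsurj : Function.Surjective φ := by
    rw [← MonoidHom.range_eq_top]
    apply Subgroup.eq_top_of_card_eq
    have h1 : Nat.card φ.range ∣ 24 := by
      rw [← hcardP]; exact Subgroup.card_subgroup_dvd_card _
    rw [hcardP]
    exact Nat.dvd_antisymm h1 h24
  let e : (K' ⧸ M₀') ≃ Fin 4 := Finite.equivFinOfCardEq hcardX
  refine involves_of_span' K'.subtype ((Equiv.permCongrHom e).toMonoidHom.comp φ)
    K'.subtype_injective ?_
  exact (Equiv.permCongrHom e).surjective.comp hsurj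

/-- subgroup version -/
theorem involves_S4_of_fourGroup [Finite Γ] (U : Subgroup Γ)
    (hU4 : Nat.card U = 4) (g t : Γ)
    (hgN : g ∈ Subgroup.normalizer (U : Set Γ)) (htN : t ∈ Subgroup.normalizer (U : Set Γ))
    (hg : ∀ u ∈ U, g * u * g⁻¹ = u → u = 1)
    (ht : ∃ u ∈ U, t * u * t⁻¹ ≠ u)
    (ht2 : ∀ u ∈ U, (t * t) * u * (t * t)⁻¹ = u) :
    Cfsg.Involves (Equiv.Perm (Fin 4)) Γ := by
  set N : Subgroup Γ := Subgroup.normalizer (U : Set Γ) with hN
  have hUN : U ≤ N := Subgroup.le_normalizer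
  have hnorm : (U.subgroupOf N).Normal := Subgroup.normal_in_normalizer
  have hcard : Nat.card (U.subgroupOf N) = 4 := by
    rw [Nat.card_congr (Subgroup.subgroupOfEquivOfLe hUN).toEquiv, hU4]
  have key := involves_S4_normal (Γ := N) (U.subgroupOf N) hcard ⟨g, hgN⟩ ⟨t, htN⟩ ?_ ?_ ?_
  · exact involves_of_injective' key N.subtype N.subtype_injective
  · intro u hu h
    rw [Subgroup.mem_subgroupOf] at hu
    apply Subtype.ext
    apply hg u hu
    exact congrArg Subtype.val h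
  · obtain ⟨u, hu, hne⟩ := ht
    refine ⟨⟨u, hUN hu⟩, ?_, ?_⟩
    · rw [Subgroup.mem_subgroupOf]; exact hu
    · intro h
      exact hne (congrArg Subtype.val h)
  · intro u hu
    rw [Subgroup.mem_subgroupOf] at hu
    apply Subtype.ext
    exact ht2 u hu

end FourGroup

end Cfsg.Agent.Helper34.TNC
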