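import Cfsg.Agent.Lib.Helper34.BG10a
import Cfsg.Agent.Lib.Helper33.Syl

/-!
# Bender–Glauberman §10: σ(M), α(M) and the uniqueness theorem (as a hypothesis)
-/

set_option autoImplicit false
open Pointwise

namespace Cfsg.Agent.Helper34.BG

open Subgroup Cfsg
open Cfsg.Agent.Helper33 (map_conj_eq_smul mem_conj_smul conj_mem_conj_smul conj_smul_le_iff
  mem_normalizer_iff_smul_eq smul_eq_of_mem_normalizer card_conj_smul conj_smul_le_conj_smul
  IsSylIn isSylIn_of_sylow exists_isSylIn_ge exists_isSylIn)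

variable {G : Type*} [Group G]

/-- The Uniqueness Theorem (B–G Theorem 9.6), as a hypothesis on `G`. -/
def UniqHyp (G : Type*) [Group G] : Prop :=
  ∀ K : Subgroup G, K ≠ ⊤ → ¬ RankLE 1 K →
    (¬ RankLE 2 K ∨ ¬ RankLE 2 (centralizer (K : Set G))) → InUniqueMaximal K

theorem isElementaryAbelian_conj {p : ℕ} {A : Subgroup G} (hA : IsElementaryAbelian p A) (g : G) :
    IsElementaryAbelian p (MulAut.conj g • A) := by
  refine ⟨⟨⟨fun x y => ?_⟩⟩, fun a ha => ?_⟩
  · apply Subtype.ext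
    have hx := mem_conj_smul.mp x.2
    have hy := mem_conj_smul.mp y.2
    have h := commute_of_isElementaryAbelian hA hx hy
    have h2 : g * (g⁻¹ * x.1 * g * (g⁻¹ * y.1 * g)) * g⁻¹ =
        g * (g⁻¹ * y.1 * g * (g⁻¹ * x.1 * g)) * g⁻¹ := by rw [h]
    simpa [mul_assoc] using h2
  · have h := hA.2 _ (mem_conj_smul.mp ha)
    have h2 : (g⁻¹ * a * g) ^ p = g⁻¹ * a ^ p * g := by
      have := map_pow (MulAut.conj g⁻¹) a p
      exact Eq.symm (by simpa [MulAut.conj_apply] using this)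
    rw [h2] at h
    have h3 : a ^ p = g * (g⁻¹ * a ^ p * g) * g⁻¹ := by simp [mul_assoc]
    rw [h3, h]; simp

section fin

variable [Finite G]

theorem not_pRankLE_of_isSylIn {p k : ℕ} [Fact p.Prime] {T H : Subgroup G} (hT : IsSylIn p T H)
    (h : ¬ PRankLE p k ↥H) : ¬ PRankLE p k ↥T := by
  obtain ⟨E, hEH, hE, hc⟩ := exists_elemAb_of_not_pRankLE h
  obtain ⟨x, -, hx⟩ := hT.exists_conj_le (isElementaryAbelian_isPGroup hE) hEH
  exact not_pRankLE_of_elemAb hx (isElementaryAbelian_conj hE x) (by rw [card_conj_smul]; exact hc)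

theorem mem_sigma_of_isSylIn {p : ℕ} [hp : Fact p.Prime] {T M : Subgroup G} (hT : IsSylIn p T M)
    (hdvd : p ∣ Nat.card M) (hN : normalizer (T : Set G) ≤ M) : p ∈ sigma M := by
  refine ⟨hp.out, hdvd, hT.toSylow, ?_⟩
  rw [hT.coe_toSylow, map_subgroupOf_eq_of_le hT.le]
  exact hN

theorem not_normalizer_le_of_not_mem_sigma {p : ℕ} [hp : Fact p.Prime] {T M : Subgroup G}
    (hT : IsSylIn p T M) (hdvd : p ∣ Nat.card M) (hσ : p ∉ sigma M) :
    ¬ normalizer (T : Set G) ≤ M :=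
  fun h => hσ (mem_sigma_of_isSylIn hT hdvd h)

omit [Finite G] in
theorem normalizer_le_of_uniq (hG : IsMinSimpleOddOrder G) {X M : Subgroup G}
    (hX : InUniqueMaximal X) (hM : IsCoatom M) (hXM : X ≤ M) : normalizer (X : Set G) ≤ M := by
  intro g hg
  apply uniq_mem_of_conj_le hG hX hM hXM (g := g)
  rw [smul_eq_of_mem_normalizer hg]
  exact hXM

omit [Finite G] in
theorem ne_top_of_le_coatom {X M : Subgroup G} (hM : IsCoatom M) (hXM : X ≤ M) : X ≠ ⊤ := by
  rintro rfl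
  exact hM.1 (top_le_iff.mp hXM)

/-- a Sylow `p`-subgroup of `M` of rank at least 3 is a uniqueness subgroup. -/
theorem uniq_of_rank3_sylow (hU : UniqHyp G) {M : Subgroup G}
    (hM : IsCoatom M) {p : ℕ} [hp : Fact p.Prime] {T : Subgroup G} (hT : IsSylIn p T M)
    (h : ¬ PRankLE p 2 ↥M) : InUniqueMaximal T := by
  have h2 := not_pRankLE_of_isSylIn hT h
  obtain ⟨E, hET, hE, hc⟩ := exists_elemAb_of_not_pRankLE h2
  have hc1 : p ^ 1 < Nat.card E := lt_trans (Nat.pow_lt_pow_right hp.out.one_lt (by norm_num)) hc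
  exact hU T (ne_top_of_le_coatom hM hT.le) (not_rankLE_of_elemAb hp.out hET hE hc1)
    (Or.inl (not_rankLE_of_elemAb hp.out hET hE hc))

theorem dvd_card_of_not_pRankLE {p k : ℕ} [hp : Fact p.Prime] {M : Subgroup G}
    (h : ¬ PRankLE p k ↥M) : p ∣ Nat.card M := by
  obtain ⟨E, hEM, hE, hc⟩ := exists_elemAb_of_not_pRankLE h
  obtain ⟨j, hj⟩ := IsPGroup.iff_card.mp (isElementaryAbelian_isPGroup hE)
  have hj0 : j ≠ 0 := by
    rintro rfl
    rw [hj, pow_zero] at hc
    have := Nat.one_le_pow k p hp.out.pos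
    omega
  have h1 : p ∣ Nat.card E := by rw [hj]; exact dvd_pow_self p hj0
  exact h1.trans (Subgroup.card_dvd_of_le hEM)

/-- B–G 10.1/10.2: `α(M) ⊆ σ(M)`. -/
theorem alpha_subset_sigma (hG : IsMinSimpleOddOrder G) (hU : UniqHyp G) {M : Subgroup G}
    (hM : IsCoatom M) {p : ℕ} (hp : p ∈ alpha M) : p ∈ sigma M := by
  have : Fact p.Prime := ⟨hp.1⟩
  obtain ⟨T, hT⟩ := exists_isSylIn (p := p) M
  have hTU := uniq_of_rank3_sylow hU hM hT hp.2
  exact mem_sigma_of_isSylIn hT (dvd_card_of_not_pRankLE hp.2)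
    (normalizer_le_of_uniq hG hTU hM hT.le)

/-- B–G Lemma 10.5, maximality: for `p ∉ σ(M)`, an elementary abelian subgroup of `M` of order `p²` is
maximal among elementary abelian `p`-subgroups of `G`. -/
theorem bg10_5_max (hG : IsMinSimpleOddOrder G) (hU : UniqHyp G) {M : Subgroup G}
    (hM : IsCoatom M) {p : ℕ} [hp : Fact p.Prime] (hσ : p ∉ sigma M)
    {A : Subgroup G} (hAM : A ≤ M) (hAe : IsElementaryAbelian p A) (hAc : Nat.card A = p ^ 2)
    {B : Subgroup G} (hBe : IsElementaryAbelian p B) (hAB : A ≤ B) : B = A := by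
  by_contra hne
  have hlt : Nat.card A < Nat.card B := by
    by_contra hle
    exact hne (Subgroup.eq_of_le_of_card_ge hAB (not_lt.mp hle)).symm
  have hBC : B ≤ centralizer (A : Set G) := by
    intro b hb
    rw [mem_centralizer_iff]
    intro a ha
    exact commute_of_isElementaryAbelian hBe (hAB ha) hb
  have hA1 : ¬ RankLE 1 ↥A :=
    not_rankLE_of_elemAb hp.out le_rfl hAe
      (by rw [hAc]; exact Nat.pow_lt_pow_right hp.out.one_lt (by norm_num))
  have hAU : InUniqueMaximal A :=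
    hU A (ne_top_of_le_coatom hM hAM) hA1
      (Or.inr (not_rankLE_of_elemAb hp.out hBC hBe (by rw [← hAc]; exact hlt)))
  obtain ⟨T, hT, hAT⟩ := exists_isSylIn_ge (p := p) (isElementaryAbelian_isPGroup hAe) hAM
  have hdvd : p ∣ Nat.card M := by
    have h1 : p ∣ Nat.card A := by rw [hAc]; exact dvd_pow_self p (by norm_num)
    exact h1.trans (Subgroup.card_dvd_of_le hAM)
  apply not_normalizer_le_of_not_mem_sigma hT hdvd hσ
  intro g hg
  apply uniq_mem_of_conj_le hG hAU hM hAM (g := g)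
  calc MulAut.conj g • A ≤ MulAut.conj g • T := conj_smul_le_conj_smul hAT
    _ = T := smul_eq_of_mem_normalizer hg
    _ ≤ M := hT.le

/-- B–G Lemma 10.5: for `p ∉ σ(M)` with `r_p(M) ≥ 2`, `p` is not an ideal prime. -/
theorem bg10_5_not_ideal (hG : IsMinSimpleOddOrder G) (hU : UniqHyp G) {M : Subgroup G}
    (hM : IsCoatom M) {p : ℕ} [hp : Fact p.Prime] (hσ : p ∉ sigma M)
    (hr1 : ¬ PRankLE p 1 ↥M) : ¬ IsIdealPrime p G := by
  intro hI
  obtain ⟨A₁, hA₁M, hA₁e, hA₁c⟩ := exists_elemAb_of_not_pRankLE hr1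
  obtain ⟨A, hAA₁, hAe, hAc⟩ := exists_elemAb_card_eq hA₁e hA₁c
  obtain ⟨S, hAS⟩ := (isElementaryAbelian_isPGroup hAe).exists_le_sylow
  obtain ⟨B, -, hBe, hAB⟩ := hI.2.2 S A hAS hAe hAc
  exact (ne_of_gt hAB) (bg10_5_max hG hU hM hσ (hAA₁.trans hA₁M) hAe hAc hBe hAB.le)

end fin

end Cfsg.Agent.Helper34.BG
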