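import Cfsg.Agent.Lib.Helper34.BG10b
import Cfsg.Agent.S1443

/-!
# Bender–Glauberman Lemmas 10.3, 10.4, 10.5 (relative to the uniqueness theorem and Theorem 10.2)
-/

set_option autoImplicit false
open Pointwise

namespace Cfsg.Agent.Helper34.BG

open Subgroup Cfsg
open Cfsg.Agent.Helper33 (map_conj_eq_smul mem_conj_smul conj_mem_conj_smul conj_smul_le_iff
  mem_normalizer_iff_smul_eq smul_eq_of_mem_normalizer card_conj_smul conj_smul_le_conj_smul
  IsSylIn isSylIn_of_sylow exists_isSylIn_ge exists_isSylIn)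

variable {G : Type*} [Group G]

theorem isElementaryAbelian_sup {p : ℕ} {A B : Subgroup G} (hA : IsElementaryAbelian p A)
    (hB : IsElementaryAbelian p B) (hAB : ∀ a ∈ A, ∀ b ∈ B, a * b = b * a) :
    IsElementaryAbelian p (A ⊔ B) := by
  have e : A ⊔ B = Subgroup.closure ((A : Set G) ∪ (B : Set G)) := by
    rw [Subgroup.closure_union, Subgroup.closure_eq, Subgroup.closure_eq]
  have hc : ∀ g ∈ (A : Set G) ∪ (B : Set G), ∀ g' ∈ (A : Set G) ∪ (B : Set G), g * g' = g' * g := by
    rintro g (hg | hg) g' (hg' | hg')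
    · exact commute_of_isElementaryAbelian hA hg hg'
    · exact hAB g hg g' hg'
    · exact (hAB g' hg' g hg).symm
    · exact commute_of_isElementaryAbelian hB hg hg'
  have hcomm : IsMulCommutative ↥(Subgroup.closure ((A : Set G) ∪ (B : Set G))) :=
    Subgroup.isMulCommutative_closure hc
  rw [e]
  refine ⟨hcomm, fun a ha => ?_⟩
  induction ha using Subgroup.closure_induction with
  | mem x hx =>
    rcases hx with hx | hx
    · exact hA.2 x hx
    · exact hB.2 x hx
  | one => exact one_pow p
  | mul x y hx hy ihx ihy =>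
    have hxy : Commute x y := by
      have := hcomm.is_comm.comm ⟨x, hx⟩ ⟨y, hy⟩
      exact congrArg Subtype.val this
    rw [hxy.mul_pow, ihx, ihy, one_mul]
  | inv x hx ih => rw [inv_pow, ih, inv_one]

theorem isElementaryAbelian_zpowers {p : ℕ} {x : G} (hx : x ^ p = 1) :
    IsElementaryAbelian p (zpowers x) := by
  refine ⟨inferInstance, fun a ha => ?_⟩
  obtain ⟨k, rfl⟩ := mem_zpowers_iff.mp ha
  rw [← zpow_natCast, ← zpow_mul, mul_comm, zpow_mul, zpow_natCast, hx, one_zpow]

theorem isElementaryAbelian_of_card_prime [Finite G] {p : ℕ} [hp : Fact p.Prime] {X : Subgroup G}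
    (hX : Nat.card X = p) : IsElementaryAbelian p X := by
  have : IsCyclic X := isCyclic_of_prime_card hX
  obtain ⟨g, hg⟩ := IsCyclic.exists_generator (α := X)
  refine ⟨⟨⟨fun a b => ?_⟩⟩, fun a ha => ?_⟩
  · obtain ⟨i, rfl⟩ := mem_zpowers_iff.mp (hg a)
    obtain ⟨j, rfl⟩ := mem_zpowers_iff.mp (hg b)
    exact (Commute.zpow_zpow_self g i j).eq
  · have h1 : (⟨a, ha⟩ : X) ^ Nat.card X = 1 := pow_card_eq_one'
    rw [hX] at h1
    simpa using congrArg Subtype.val h1

section fin

variable [Finite G]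

/-- B–G Lemma 10.5, second half: `p ∉ σ(M)`, `|X| = p`, `N_G(X) ≤ M`. -/
theorem bg10_5_order_p (hG : IsMinSimpleOddOrder G) (hU : UniqHyp G) {M : Subgroup G}
    (hM : IsCoatom M) {p : ℕ} [hp : Fact p.Prime] (hσ : p ∉ sigma M) {X : Subgroup G}
    (hX : Nat.card X = p) (hNX : normalizer (X : Set G) ≤ M) :
    (PRankLE p 2 ↥M ∧ ¬ PRankLE p 1 ↥M) ∧
      ∃ A : Subgroup G, IsElementaryAbelian p A ∧ Nat.card A = p ^ 2 ∧ X ≤ A := by
  have hXM : X ≤ M := le_normalizer.trans hNX
  have hdvd : p ∣ Nat.card M := by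
    rw [← hX]; exact Subgroup.card_dvd_of_le hXM
  have hr2 : PRankLE p 2 ↥M := by
    by_contra h
    exact hσ (alpha_subset_sigma hG hU hM ⟨hp.out, h⟩)
  have hXe : IsElementaryAbelian p X := isElementaryAbelian_of_card_prime hX
  have hXp : IsPGroup p X := isElementaryAbelian_isPGroup hXe
  obtain ⟨T, hT, hXT⟩ := exists_isSylIn_ge (p := p) hXp hXM
  have hXcX : X ≤ centralizer (X : Set G) := by
    intro a ha
    rw [mem_centralizer_iff]
    intro b hb
    exact commute_of_isElementaryAbelian hXe hb ha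
  suffices h : ∃ A : Subgroup G, A ≤ T ∧ IsElementaryAbelian p A ∧ Nat.card A = p ^ 2 ∧ X ≤ A by
    obtain ⟨A, hAT, hAe, hAc, hXA⟩ := h
    refine ⟨⟨hr2, ?_⟩, A, hAe, hAc, hXA⟩
    exact not_pRankLE_of_elemAb (hAT.trans hT.le) hAe
      (by rw [hAc]; exact Nat.pow_lt_pow_right hp.out.one_lt (by norm_num))
  by_cases hC : PRankLE p 1 ↥(T ⊓ centralizer (X : Set G))
  · exfalso
    -- every central element of order p of T lies in X
    have key : ∀ z ∈ T, (∀ t ∈ T, t * z = z * t) → orderOf z = p → z ∈ X := by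
      intro z hzT hzc hzo
      have hzp : z ^ p = 1 := by rw [← hzo]; exact pow_orderOf_eq_one z
      have hYe := isElementaryAbelian_zpowers hzp
      have hXYe : IsElementaryAbelian p (X ⊔ zpowers z) := by
        apply isElementaryAbelian_sup hXe hYe
        intro a ha b hb
        obtain ⟨k, rfl⟩ := mem_zpowers_iff.mp hb
        exact (Commute.zpow_right (hzc a (hXT ha)) k).eq
      have hle : X ⊔ zpowers z ≤ T ⊓ centralizer (X : Set G) := by
        apply sup_le (le_inf hXT hXcX)
        rw [zpowers_le]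
        refine ⟨hzT, ?_⟩
        show z ∈ centralizer (X : Set G)
        rw [mem_centralizer_iff]
        intro a ha
        exact hzc a (hXT ha)
      have hcard : Nat.card ↥(X ⊔ zpowers z) ≤ p ^ 1 := by
        by_contra hlt
        exact not_pRankLE_of_elemAb hle hXYe (not_le.mp hlt) hC
      have heq : X = X ⊔ zpowers z :=
        Subgroup.eq_of_le_of_card_ge le_sup_left (by rw [hX]; simpa using hcard)
      rw [heq]
      exact (le_sup_right : zpowers z ≤ X ⊔ zpowers z) (mem_zpowers z)
    -- a central element of order p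
    have hT1 : Nontrivial ↥T := by
      have : Nontrivial ↥X := by
        apply (Finite.one_lt_card_iff_nontrivial).mp
        rw [hX]; exact hp.out.one_lt
      obtain ⟨a, b, hab⟩ := this
      exact ⟨⟨a.1, hXT a.2⟩, ⟨b.1, hXT b.2⟩, fun h => hab (Subtype.ext (congrArg (fun t : ↥T => (t : G)) h))⟩
    have hTp : IsPGroup p ↥T := hT.isPGroup
    have hZn : Nontrivial ↥(center ↥T) := hTp.center_nontrivial
    have hZp : IsPGroup p ↥(center ↥T) := hTp.to_subgroup _
    obtain ⟨j, hj⟩ := IsPGroup.iff_card.mp hZp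
    have hj0 : j ≠ 0 := by
      rintro rfl
      rw [pow_zero] at hj
      have := (Finite.one_lt_card_iff_nontrivial).mpr hZn
      omega
    obtain ⟨z₀, hz₀⟩ := exists_prime_orderOf_dvd_card' (G := ↥(center ↥T)) p
      (by rw [hj]; exact dvd_pow_self p hj0)
    set z : G := ((z₀ : ↥T) : G) with hz
    have hzT : z ∈ T := (z₀ : ↥T).2
    have hzc : ∀ t ∈ T, t * z = z * t := by
      intro t ht
      have h1 := (mem_center_iff.mp z₀.2) ⟨t, ht⟩
      exact congrArg Subtype.val h1
    have hzo : orderOf z = p := by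
      rw [hz, Subgroup.orderOf_coe, Subgroup.orderOf_coe]
      exact hz₀
    have hzX : z ∈ X := key z hzT hzc hzo
    have hz1 : z ≠ 1 := by
      intro h
      rw [h, orderOf_one] at hzo
      exact hp.out.one_lt.ne hzo
    have hXz : X = zpowers z := by
      symm
      apply Subgroup.eq_of_le_of_card_ge (zpowers_le.mpr hzX)
      rw [hX, Nat.card_zpowers, hzo]
    apply not_normalizer_le_of_not_mem_sigma hT hdvd hσ
    refine le_trans ?_ hNX
    intro g hg
    have hgz : g * z * g⁻¹ ∈ X := by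
      apply key
      · have := conj_mem_conj_smul (g := g) hzT
        rwa [smul_eq_of_mem_normalizer hg] at this
      · intro t ht
        have ht' : g⁻¹ * t * g ∈ T := by
          have h1 := conj_mem_conj_smul (g := g⁻¹) ht
          rw [smul_eq_of_mem_normalizer (inv_mem hg)] at h1
          simpa using h1
        have h2 := hzc _ ht'
        have h3 : g * (g⁻¹ * t * g * z) * g⁻¹ = g * (z * (g⁻¹ * t * g)) * g⁻¹ := by rw [h2]
        simpa [mul_assoc] using h3
      · rw [← hzo]
        have := MulEquiv.orderOf_eq (MulAut.conj g) z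
        simpa [MulAut.conj_apply] using this
    rw [mem_normalizer_iff_smul_eq]
    apply Subgroup.eq_of_le_of_card_ge
    · rw [conj_smul_le_iff]
      intro x hx
      rw [hXz] at hx
      obtain ⟨k, rfl⟩ := mem_zpowers_iff.mp hx
      have : g * z ^ k * g⁻¹ = (g * z * g⁻¹) ^ k := by
        simp
      rw [this]
      exact X.zpow_mem hgz k
    · rw [card_conj_smul]
  · obtain ⟨B, hBC, hBe, hBc⟩ := exists_elemAb_of_not_pRankLE hC
    have hXBe : IsElementaryAbelian p (X ⊔ B) := by
      apply isElementaryAbelian_sup hXe hBe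
      intro a ha b hb
      exact ((mem_centralizer_iff.mp (hBC hb).2) a ha)
    have hc : p ^ 1 < Nat.card ↥(X ⊔ B) :=
      lt_of_lt_of_le hBc (Subgroup.card_le_of_le le_sup_right)
    obtain ⟨A, hAXB, hAe, hAc, hXA⟩ :=
      exists_elemAb_card_eq_ge hXBe hc le_sup_left (j := 1) (by rw [hX, pow_one]) (by norm_num)
    exact ⟨A, hAXB.trans (sup_le hXT (hBC.trans inf_le_left)), hAe, hAc, hXA⟩

end fin

end Cfsg.Agent.Helper34.BG
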