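import Mathlib
import Cfsg.Prelude.Def_OddOrderLocal
import Cfsg.Agent.S1453
import Cfsg.Agent.Lib.Helper24.BlkBasic3
import Cfsg.Agent.Lib.Helper29.PGroupNorm
import Cfsg.Agent.Lib.Helper34.BG10c

/-!
# Narrow `p`-groups from a maximal elementary abelian subgroup of order `p ^ 2` (B-G 5.3(d))
and transport of `IsNarrow` along isomorphisms.
-/

set_option autoImplicit false
set_option linter.unusedSectionVars false

namespace Cfsg.Agent.Helper34.BG

open Cfsg Subgroup

/-- B-G 5.3(d): a `p`-group (`p` odd) of rank at least 3 with a maximal elementary abelian subgroup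
of order `p ^ 2` is narrow. -/
theorem isNarrow_of_max_elemAb {R : Type*} [Group R] [Finite R] (p : ℕ) [hpf : Fact p.Prime]
    (hp : p ≠ 2) (hR : IsPGroup p R) (hr : ¬ Cfsg.PRankLE p 2 R)
    (E : Subgroup R) (hE : Cfsg.IsElementaryAbelian p E) (hE2 : Nat.card E = p ^ 2)
    (hEmax : ∀ B : Subgroup R, Cfsg.IsElementaryAbelian p B → E ≤ B → B = E) :
    Cfsg.IsNarrow p R := by
  have hpp : p.Prime := hpf.out
  obtain ⟨h1, h2, -, h4, h5⟩ := Cfsg.Agent.S1453.result p hp hR hr E hE hE2 hEmax
  set T : Subgroup R := centralizer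
    ((closure {x : R | x ∈ Subgroup.upperCentralSeries R 2 ∧ x ^ p = 1} : Subgroup R) : Set R) with hT
  set Z : Subgroup R := closure {x : R | x ∈ center R ∧ x ^ p = 1} with hZ
  have hTn : T.Normal := inferInstance
  have hZcen : Z ≤ center R := by
    rw [hZ, closure_le]; exact fun x hx => hx.1
  have hZT : Z ≤ T := fun z hz => by
    rw [hT, mem_centralizer_iff]
    intro w _
    exact (mem_center_iff.mp (hZcen hz) w)
  have hZe : IsElementaryAbelian p Z := isElementaryAbelian_of_card_prime h2
  have hZE : Z ≤ E := by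
    have h := hEmax (E ⊔ Z) (isElementaryAbelian_sup hE hZe
      (fun a _ b hb => (mem_center_iff.mp (hZcen hb) a))) le_sup_left
    rw [← h]; exact le_sup_right
  obtain ⟨x, hxE, hxT⟩ := SetLike.not_le_iff_exists.mp h1
  have hxp : x ^ p = 1 := hE.2 x hxE
  have hx1 : x ≠ 1 := fun h => hxT (h ▸ one_mem T)
  have hox : orderOf x = p := orderOf_eq_prime hxp hx1
  have hR0 : Nat.card (zpowers x) = p := by rw [Nat.card_zpowers, hox]
  -- `E ⊓ T = Z`
  have hET : E ⊓ T = Z := by
    symm
    apply Subgroup.eq_of_le_of_card_ge (le_inf hZE hZT)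
    have hdvd : Nat.card ↥(E ⊓ T) ∣ p ^ 2 := hE2 ▸ Subgroup.card_dvd_of_le inf_le_left
    obtain ⟨k, hk2, hk⟩ := (Nat.dvd_prime_pow hpp).mp hdvd
    rw [h2, hk]
    have hk1 : k ≠ 2 := by
      rintro rfl
      have : E ⊓ T = E := Subgroup.eq_of_le_of_card_ge inf_le_left (by rw [hk, hE2])
      exact h1 (this ▸ inf_le_right)
    have : k ≤ 1 := by omega
    calc p ^ k ≤ p ^ 1 := Nat.pow_le_pow_right hpp.pos this
      _ = p := pow_one p
  -- `E = ⟨x⟩ ⊔ Z`
  have hxZ : zpowers x ⊔ Z = E := by
    have hle : zpowers x ⊔ Z ≤ E := sup_le (by rwa [zpowers_le]) hZE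
    apply Subgroup.eq_of_le_of_card_ge hle
    have hdvd : Nat.card ↥(zpowers x ⊔ Z) ∣ p ^ 2 := hE2 ▸ Subgroup.card_dvd_of_le hle
    obtain ⟨k, hk2, hk⟩ := (Nat.dvd_prime_pow hpp).mp hdvd
    rw [hE2, hk]
    have hk1 : ¬ k ≤ 1 := by
      intro hk1
      have hZeq : Z = zpowers x ⊔ Z := by
        apply Subgroup.eq_of_le_of_card_ge le_sup_right
        rw [h2, hk]
        calc p ^ k ≤ p ^ 1 := Nat.pow_le_pow_right hpp.pos hk1
          _ = p := pow_one p
      apply hxT
      apply hZT
      rw [hZeq]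
      exact le_sup_left (a := zpowers x) (mem_zpowers x)
    have : k = 2 := by omega
    rw [this]
  set R₁ : Subgroup R := T ⊓ centralizer ({x} : Set R) with hR₁
  have hcx : ∀ b ∈ R₁, b * x = x * b := fun b hb => by
    have := mem_centralizer_iff.mp hb.2 x rfl
    exact this.symm
  -- elements of order `p` of `R₁` lie in `Z`
  have hΩ : ∀ y ∈ R₁, y ^ p = 1 → y ∈ Z := by
    intro y hy hyp
    have hyx : Commute y x := hcx y hy
    have hEC : E ≤ centralizer ((zpowers y : Subgroup R) : Set R) := by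
      rw [← hxZ]
      refine sup_le ?_ (hZcen.trans (center_le_centralizer _))
      rw [zpowers_le, mem_centralizer_iff]
      intro b hb
      obtain ⟨k, rfl⟩ := mem_zpowers_iff.mp hb
      exact (hyx.zpow_left k)
    have hB := hEmax (E ⊔ zpowers y) (isElementaryAbelian_sup hE (isElementaryAbelian_zpowers hyp)
      (fun a ha b hb => ((mem_centralizer_iff.mp (hEC ha)) b hb).symm)) le_sup_left
    have hyE : y ∈ E := by
      rw [← hB]; exact le_sup_right (a := E) (mem_zpowers y)
    rw [← hET]
    exact ⟨hyE, hy.1⟩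
  have hcyc : IsCyclic ↥R₁ :=
    Cfsg.Agent.Helper24.Blk.isCyclic_of_order_p_in hp hR R₁ Z h2 hΩ
  refine Or.inr ⟨zpowers x, R₁, hR0, hcyc, ?_, ?_, ?_⟩
  · -- trivial intersection
    have hdvd : Nat.card ↥(zpowers x ⊓ R₁) ∣ p := hR0 ▸ Subgroup.card_dvd_of_le inf_le_left
    rcases (Nat.dvd_prime hpp).mp hdvd with h | h
    · exact Subgroup.card_eq_one.mp h
    · exfalso
      have : zpowers x ⊓ R₁ = zpowers x :=
        Subgroup.eq_of_le_of_card_ge inf_le_left (by rw [h, hR0])
      have hx' : x ∈ zpowers x ⊓ R₁ := by rw [this]; exact mem_zpowers x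
      exact hxT hx'.2.1
  · intro a ha b hb
    obtain ⟨k, rfl⟩ := mem_zpowers_iff.mp ha
    have : Commute b x := hcx b hb
    exact (this.zpow_right k).symm
  · apply le_antisymm
    · refine sup_le ?_ ?_
      · intro a ha
        rw [mem_centralizer_iff]
        intro b hb
        obtain ⟨k, rfl⟩ := mem_zpowers_iff.mp ha
        obtain ⟨l, rfl⟩ := mem_zpowers_iff.mp hb
        exact ((Commute.refl x).zpow_zpow l k)
      · intro b hb
        rw [mem_centralizer_iff]
        intro a ha
        obtain ⟨k, rfl⟩ := mem_zpowers_iff.mp ha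
        have : Commute b x := hcx b hb
        exact (this.zpow_right k).symm
    · intro y hy
      have hyx : x * y = y * x := mem_centralizer_iff.mp hy x (mem_zpowers x)
      have hcard : Nat.card (R ⧸ T) = p := by rw [← Subgroup.index_eq_card, h5]
      have hmx : (QuotientGroup.mk x : R ⧸ T) ≠ 1 := by
        intro h
        exact hxT ((QuotientGroup.eq_one_iff x).mp h)
      have hmem : (QuotientGroup.mk y : R ⧸ T) ∈ zpowers (QuotientGroup.mk x : R ⧸ T) := by
        rw [zpowers_eq_top_of_prime_card hcard hmx]; exact mem_top _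
      obtain ⟨k, hk⟩ := mem_zpowers_iff.mp hmem
      have hk' : (QuotientGroup.mk (x ^ k) : R ⧸ T) = QuotientGroup.mk y := by
        rw [QuotientGroup.mk_zpow]; exact hk
      have ht : (x ^ k)⁻¹ * y ∈ T := QuotientGroup.eq.mp hk'
      have hc : (x ^ k)⁻¹ * y ∈ centralizer ({x} : Set R) := by
        rw [mem_centralizer_iff]
        intro z hz
        rw [Set.mem_singleton_iff] at hz
        subst hz
        have h1 : Commute z ((z ^ k)⁻¹) := ((Commute.refl z).zpow_right k).inv_right
        have h2 : Commute z y := hyx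
        exact (h1.mul_right h2)
      have : y = x ^ k * ((x ^ k)⁻¹ * y) := by group
      rw [this]
      exact mul_mem_sup (zpow_mem (mem_zpowers x) k) ⟨ht, hc⟩

/-- `IsNarrow` is invariant under isomorphism. -/
theorem isNarrow_of_mulEquiv {p : ℕ} {A B : Type*} [Group A] [Group B] (e : A ≃* B)
    (h : Cfsg.IsNarrow p A) : Cfsg.IsNarrow p B := by
  rcases h with h | ⟨R₀, R₁, h0, h1, h2, h3, h4⟩
  · exact Or.inl (Cfsg.Agent.Helper29.pRankLE_of_mulEquiv e h)
  · refine Or.inr ⟨R₀.map e.toMonoidHom, R₁.map e.toMonoidHom, ?_, ?_, ?_, ?_, ?_⟩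
    · rw [← h0]
      exact Nat.card_congr (R₀.equivMapOfInjective e.toMonoidHom e.injective).toEquiv.symm
    · exact isCyclic_of_surjective (R₁.equivMapOfInjective e.toMonoidHom e.injective)
        (R₁.equivMapOfInjective e.toMonoidHom e.injective).surjective
    · rw [← Subgroup.map_inf _ _ _ e.injective, h2, Subgroup.map_bot]
    · rintro _ ⟨a, ha, rfl⟩ _ ⟨b, hb, rfl⟩
      change e a * e b = e b * e a
      rw [← map_mul, ← map_mul, h3 a ha b hb]
    · rw [← Subgroup.map_sup, h4]
      ext y
      constructor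
      · rintro ⟨a, ha, rfl⟩
        rw [mem_centralizer_iff]
        rintro _ ⟨b, hb, rfl⟩
        change e b * e a = e a * e b
        rw [← map_mul, ← map_mul, mem_centralizer_iff.mp ha b hb]
      · intro hy
        refine ⟨e.symm y, ?_, by simp⟩
        show e.symm y ∈ centralizer (R₀ : Set A)
        rw [mem_centralizer_iff]
        intro b hb
        apply e.injective
        rw [map_mul, map_mul, e.apply_symm_apply]
        exact mem_centralizer_iff.mp hy (e b) ⟨b, hb, rfl⟩

end Cfsg.Agent.Helper34.BG
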