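import Cfsg.Prelude.Def_Transfer
import Cfsg.Agent.Lib.Helper2.Frobenius
import Cfsg.Agent.Lib.Helper2.Tate
import Cfsg.Agent.Lib.Helper2.PComplement

/-!
# Thompson normal p-complement: transfer lemmas for `HasNormalPComplement` on subgroups

`PN p X` abbreviates "the subgroup `X` has a normal `p`-complement".
-/

set_option autoImplicit false
set_option linter.unusedSectionVars false

namespace Cfsg.Agent.Helper34.TNC

open Cfsg Cfsg.Agent.Helper2

variable {G : Type*} [Group G]

/-- the subgroup `X` has a normal `p`-complement -/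
def PN (p : ℕ) (X : Subgroup G) : Prop := Cfsg.HasNormalPComplement p ↥X

theorem hnpc_of_injective {A B : Type*} [Group A] [Group B] [Finite A] [Finite B] {p : ℕ}
    [Fact p.Prime] (f : A →* B) (hf : Function.Injective f)
    (h : Cfsg.HasNormalPComplement p B) : Cfsg.HasNormalPComplement p A := by
  have h1 : Cfsg.HasNormalPComplement p f.range := hasNormalPComplement_subgroup h f.range
  exact hasNormalPComplement_of_mulEquiv (MonoidHom.ofInjective hf).symm h1

theorem hnpc_of_surjective {A B : Type*} [Group A] [Group B] [Finite A] [Finite B] {p : ℕ}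
    [hp : Fact p.Prime] (f : A →* B) (hf : Function.Surjective f)
    (h : Cfsg.HasNormalPComplement p A) : Cfsg.HasNormalPComplement p B := by
  obtain ⟨P, K, hKn, hKc⟩ := h
  obtain ⟨a, ha⟩ := IsPGroup.iff_card.mp P.isPGroup'
  have hKcop : Nat.Coprime (Nat.card K) p := by
    rw [← hKc.index_eq_card]
    exact ((Nat.Prime.coprime_iff_not_dvd hp.out).mpr P.not_dvd_index).symm
  have hKidx : K.index = p ^ a := by rw [hKc.symm.index_eq_card, ha]
  have h1 : (K.map f).index ∣ p ^ a := by
    rw [← hKidx]; exact Subgroup.index_map_dvd K hf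
  obtain ⟨b, -, hb⟩ := (Nat.dvd_prime_pow hp.out).mp h1
  refine hasNormalPComplement_of_card_coprime_of_index_pow (K.map f) (hKn.map _ hf) ?_ b hb
  exact Nat.Coprime.coprime_dvd_left (Subgroup.card_map_dvd K f) hKcop

theorem PN.mono [Finite G] {p : ℕ} [Fact p.Prime] {X Y : Subgroup G} (hYX : Y ≤ X)
    (h : PN p X) : PN p Y :=
  hnpc_of_injective (Subgroup.inclusion hYX) (Subgroup.inclusion_injective hYX) h

theorem PN.map [Finite G] {G' : Type*} [Group G'] [Finite G'] {p : ℕ} [Fact p.Prime]
    {X : Subgroup G} (f : G →* G') (h : PN p X) : PN p (X.map f) :=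
  hnpc_of_surjective (f.subgroupMap X) (f.subgroupMap_surjective X) h

theorem pn_top_iff [Finite G] {p : ℕ} [Fact p.Prime] :
    PN p (⊤ : Subgroup G) ↔ Cfsg.HasNormalPComplement p G :=
  ⟨fun h => hasNormalPComplement_of_mulEquiv Subgroup.topEquiv h,
    fun h => hasNormalPComplement_of_mulEquiv Subgroup.topEquiv.symm h⟩

/-- transfer between a subgroup `X ≤ M` and `X.subgroupOf M` -/
theorem pn_subgroupOf_iff [Finite G] {p : ℕ} [Fact p.Prime] {X M : Subgroup G} (hXM : X ≤ M) :
    PN p (X.subgroupOf M) ↔ PN p X :=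
  ⟨fun h => hasNormalPComplement_of_mulEquiv (Subgroup.subgroupOfEquivOfLe hXM) h,
    fun h => hasNormalPComplement_of_mulEquiv (Subgroup.subgroupOfEquivOfLe hXM).symm h⟩

/-- an explicit witness for `PN`, containing every `p'`-element of `X` -/
theorem PN.exists_witness [Finite G] {p : ℕ} [hp : Fact p.Prime] {X : Subgroup G} (h : PN p X) :
    ∃ K : Subgroup G, K ≤ X ∧ X ≤ Subgroup.normalizer (K : Set G) ∧ (Nat.card K).Coprime p ∧
      (∃ k : ℕ, K.relIndex X = p ^ k) ∧
      ∀ x ∈ X, (orderOf x).Coprime p → x ∈ K := by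
  obtain ⟨P, N, hNn, hNc⟩ := h
  obtain ⟨a, ha⟩ := IsPGroup.iff_card.mp P.isPGroup'
  have hNcop : Nat.Coprime (Nat.card N) p := by
    rw [← hNc.index_eq_card]
    exact ((Nat.Prime.coprime_iff_not_dvd hp.out).mpr P.not_dvd_index).symm
  have hNidx : N.index = p ^ a := by rw [hNc.symm.index_eq_card, ha]
  refine ⟨N.map X.subtype, Subgroup.map_subtype_le N, ?_, ?_, ⟨a, ?_⟩, ?_⟩
  · intro x hx
    rw [Subgroup.mem_normalizer_iff]
    intro k
    constructor
    · rintro ⟨n, hn, rfl⟩
      exact ⟨⟨x, hx⟩ * n * ⟨x, hx⟩⁻¹, hNn.conj_mem n hn _, rfl⟩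
    · rintro ⟨n, hn, hnk⟩
      refine ⟨⟨x, hx⟩⁻¹ * n * ⟨x, hx⟩, ?_, ?_⟩
      · have := hNn.conj_mem n hn (⟨x, hx⟩⁻¹ : ↥X)
        simpa using this
      · simp only [Subgroup.subtype_apply, Subgroup.coe_mul, Subgroup.coe_inv]
        have hnk' : (n : G) = x * k * x⁻¹ := hnk
        rw [hnk']; group
  · rw [Subgroup.card_map_of_injective X.subtype_injective]; exact hNcop
  · have h1 : (N.map X.subtype).relIndex X = N.index := by
      rw [Subgroup.relIndex]
      have : (N.map X.subtype).subgroupOf X = N :=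
        Subgroup.comap_map_eq_self_of_injective X.subtype_injective N
      rw [this]
    rw [h1, hNidx]
  · intro x hx hxo
    have hxo' : (orderOf (⟨x, hx⟩ : ↥X)).Coprime p := by
      rwa [← Subgroup.orderOf_coe] 
    have := (mem_normalPComplement_iff P N hNc ⟨x, hx⟩).mpr hxo'
    exact ⟨⟨x, hx⟩, this, rfl⟩

/-- building `PN` from a witness -/
theorem pn_of_witness [Finite G] {p : ℕ} [hp : Fact p.Prime] {X K : Subgroup G} (hKX : K ≤ X)
    (hXK : X ≤ Subgroup.normalizer (K : Set G)) (hcop : (Nat.card K).Coprime p) (k : ℕ)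
    (hk : K.relIndex X = p ^ k) : PN p X := by
  have hn : (K.subgroupOf X).Normal := by
    constructor
    intro n hn g
    rw [Subgroup.mem_subgroupOf] at hn ⊢
    have := (Subgroup.mem_normalizer_iff.mp (hXK g.2) n).mp hn
    simpa using this
  refine hasNormalPComplement_of_card_coprime_of_index_pow (K.subgroupOf X) hn ?_ k hk
  have e : Nat.card (K.subgroupOf X) = Nat.card K :=
    Nat.card_congr (Subgroup.subgroupOfEquivOfLe hKX).toEquiv
  rw [e]; exact hcop

/-- a `p`-group has a normal `p`-complement -/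
theorem pn_of_isPGroup [Finite G] {p : ℕ} [hp : Fact p.Prime] {X : Subgroup G} (hX : IsPGroup p X) :
    PN p X := by
  obtain ⟨k, hk⟩ := IsPGroup.iff_card.mp hX
  refine pn_of_witness (K := ⊥) bot_le ?_ ?_ k ?_
  · intro x _
    rw [Subgroup.mem_normalizer_iff]
    intro h
    simp only [Subgroup.mem_bot]
    constructor
    · rintro rfl; group
    · intro h1
      have : h = x⁻¹ * (x * h * x⁻¹) * x := by group
      rw [this, h1]; group
  · simp
  · rw [Subgroup.relIndex_bot_left, hk]

/-- Frobenius: if `G` has no normal `p`-complement, some `p`-local subgroup has none -/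
theorem exists_local_not_pn {G : Type*} [Group G] [Finite G] {p : ℕ} [hp : Fact p.Prime]
    (h : ¬ PN p (⊤ : Subgroup G)) :
    ∃ K : Subgroup G, IsPGroup p K ∧ K ≠ ⊥ ∧ ¬ PN p (Subgroup.normalizer (K : Set G)) := by
  by_contra hcon
  push Not at hcon
  apply h
  rw [pn_top_iff]
  exact frobenius p (frobCond_of_local (fun Q hQ hQb => hcon Q hQ hQb))

/-- lifting a normal `p`-complement through a quotient by a normal `p'`-subgroup -/
theorem pn_top_of_quotient [Finite G] {p : ℕ} [hp : Fact p.Prime] (D : Subgroup G) [D.Normal]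
    (hD : (Nat.card D).Coprime p) (h : PN p (⊤ : Subgroup (G ⧸ D))) : PN p (⊤ : Subgroup G) := by
  rw [pn_top_iff] at h ⊢
  obtain ⟨P, N, hNn, hNc⟩ := h
  obtain ⟨a, ha⟩ := IsPGroup.iff_card.mp P.isPGroup'
  have hNcop : Nat.Coprime (Nat.card N) p := by
    rw [← hNc.index_eq_card]
    exact ((Nat.Prime.coprime_iff_not_dvd hp.out).mpr P.not_dvd_index).symm
  have hNidx : N.index = p ^ a := by rw [hNc.symm.index_eq_card, ha]
  refine hasNormalPComplement_of_card_coprime_of_index_pow (N.comap (QuotientGroup.mk' D))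
    (hNn.comap _) ?_ a ?_
  · have h1 : Nat.card (N.comap (QuotientGroup.mk' D)) = Nat.card D * Nat.card N := by
      have e1 := Subgroup.card_mul_index (N.comap (QuotientGroup.mk' D))
      rw [Subgroup.index_comap_of_surjective _ (QuotientGroup.mk'_surjective D)] at e1
      have e2 := Subgroup.card_mul_index N
      have e3 : Nat.card G = Nat.card (G ⧸ D) * Nat.card D :=
        Subgroup.card_eq_card_quotient_mul_card_subgroup D
      have hpos : 0 < N.index := Nat.pos_of_ne_zero Subgroup.index_ne_zero_of_finite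
      apply Nat.eq_of_mul_eq_mul_right hpos
      rw [e1, e3, ← e2]; ring
    rw [h1]
    exact Nat.Coprime.mul_left hD hNcop
  · rw [Subgroup.index_comap_of_surjective _ (QuotientGroup.mk'_surjective D)]; exact hNidx

end Cfsg.Agent.Helper34.TNC
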