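import Mathlib
import Cfsg.Prelude.Def_OddOrderLocal
import Cfsg.Agent.Lib.Helper34.TNC1
import Cfsg.Agent.Lib.Helper34.BG10a
import Cfsg.Agent.Lib.Helper33.Syl

/-!
# A nilpotent Hall subgroup from normal `p`-complements

If a subgroup `Y` of a finite group has a normal `p`-complement for every prime divisor `p` of its
order outside a set `π`, then the `π`-elements of `Y` form a characteristic Hall `π`-subgroup `K`
of `Y`, and `Y` has a nilpotent Hall `π'`-subgroup `H` (Schur-Zassenhaus).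
-/

set_option autoImplicit false
set_option linter.unusedSectionVars false
set_option linter.style.haveILetI false

namespace Cfsg.Agent.Helper34.BG

open Cfsg Subgroup Cfsg.Agent.Helper34.TNC Cfsg.Agent.Helper33

variable {G : Type*} [Group G] [Finite G]

theorem hall_of_npc (Y : Subgroup G) (π : Set ℕ)
    (h : ∀ p : ℕ, p.Prime → p ∣ Nat.card Y → p ∉ π → Cfsg.HasNormalPComplement p ↥Y) :
    ∃ K H : Subgroup G, K ≤ Y ∧ normalizer (Y : Set G) ≤ normalizer (K : Set G) ∧
      (∀ q : ℕ, q.Prime → q ∣ Nat.card K → q ∈ π) ∧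
      (∀ q : ℕ, q.Prime → q ∈ π → ¬ q ∣ K.relIndex Y) ∧
      H ≤ Y ∧ Group.IsNilpotent H ∧
      (∀ q : ℕ, q.Prime → q ∣ Nat.card H → q ∉ π) ∧
      (∀ q : ℕ, q.Prime → q ∉ π → ¬ q ∣ H.relIndex Y) := by
  classical
  let I := {p : ℕ // p.Prime ∧ p ∣ Nat.card Y ∧ p ∉ π}
  have hw : ∀ p : I, ∃ K : Subgroup G, K ≤ Y ∧ Y ≤ normalizer (K : Set G) ∧
      (Nat.card K).Coprime p.1 ∧ (∃ k : ℕ, K.relIndex Y = p.1 ^ k) ∧
      ∀ x ∈ Y, (orderOf x).Coprime p.1 → x ∈ K := by
    intro p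
    haveI : Fact p.1.Prime := ⟨p.2.1⟩
    exact PN.exists_witness (h p.1 p.2.1 p.2.2.1 p.2.2.2)
  choose Kp h1 h2 h3 h4 h5 using hw
  have hmemKp : ∀ (p : I) (x : G), x ∈ Kp p ↔ x ∈ Y ∧ (orderOf x).Coprime p.1 := by
    intro p x
    constructor
    · intro hx
      refine ⟨h1 p hx, ?_⟩
      have h6 : orderOf x ∣ Nat.card (Kp p) := by
        have h7 := orderOf_dvd_natCard (⟨x, hx⟩ : Kp p)
        rwa [Subgroup.orderOf_mk] at h7
      exact Nat.Coprime.coprime_dvd_left h6 (h3 p)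
    · rintro ⟨hxY, hxo⟩
      exact h5 p x hxY hxo
  set K : Subgroup G := Y ⊓ ⨅ p : I, Kp p with hK
  have hmemK : ∀ x : G, x ∈ K ↔ x ∈ Y ∧ ∀ p : I, (orderOf x).Coprime p.1 := by
    intro x
    rw [hK, mem_inf, mem_iInf]
    constructor
    · rintro ⟨hxY, hx⟩
      exact ⟨hxY, fun p => ((hmemKp p x).mp (hx p)).2⟩
    · rintro ⟨hxY, hx⟩
      exact ⟨hxY, fun p => (hmemKp p x).mpr ⟨hxY, hx p⟩⟩
  have hKY : K ≤ Y := inf_le_left
  have hKN : normalizer (Y : Set G) ≤ normalizer (K : Set G) := by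
    intro g hg
    rw [mem_normalizer_iff] at hg ⊢
    intro x
    rw [hmemK, hmemK]
    have ho : orderOf (g * x * g⁻¹) = orderOf x := by
      have h6 := orderOf_injective (MulAut.conj g).toMonoidHom (MulAut.conj g).injective x
      simpa using h6
    rw [ho, ← hg x]
  have hKπ : ∀ q : ℕ, q.Prime → q ∣ Nat.card K → q ∈ π := by
    intro q hq hqK
    by_contra hqπ
    have hqY : q ∣ Nat.card Y := hqK.trans (Subgroup.card_dvd_of_le hKY)
    let pq : I := ⟨q, hq, hqY, hqπ⟩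
    have hle : K ≤ Kp pq := inf_le_right.trans (iInf_le _ pq)
    have h6 : q ∣ Nat.card (Kp pq) := hqK.trans (Subgroup.card_dvd_of_le hle)
    have hc : (Nat.card (Kp pq)).Coprime q := h3 pq
    exact ((Nat.Prime.coprime_iff_not_dvd hq).mp hc.symm) h6
  have hKidx : ∀ q : ℕ, q.Prime → q ∈ π → ¬ q ∣ K.relIndex Y := by
    intro q hq hqπ
    haveI : Fact q.Prime := ⟨hq⟩
    obtain ⟨Q, hQ⟩ := exists_isSylIn (p := q) Y
    have hQK : Q ≤ K := by
      intro x hx
      rw [hmemK]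
      refine ⟨hQ.le hx, fun p => ?_⟩
      obtain ⟨k, hk⟩ := hQ.isPGroup ⟨x, hx⟩
      have hk' : x ^ q ^ k = 1 := by
        have := congrArg Subtype.val hk
        simpa using this
      have hd : orderOf x ∣ q ^ k := orderOf_dvd_of_pow_eq_one hk'
      have hne : q ≠ p.1 := fun e => p.2.2.2 (e ▸ hqπ)
      have hc : (q ^ k).Coprime p.1 := ((Nat.coprime_primes hq p.2.1).mpr hne).pow_left k
      exact Nat.Coprime.coprime_dvd_left hd hc
    intro hdvd
    apply hQ.not_dvd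
    rw [← Subgroup.relIndex_mul_relIndex Q K Y hQK hKY]
    exact dvd_mul_of_dvd_right hdvd _
  have hcop : (Nat.card K).Coprime (K.relIndex Y) :=
    Nat.coprime_of_dvd (fun q hq hqK hqi => hKidx q hq (hKπ q hq hqK) hqi)
  haveI hKn : (K.subgroupOf Y).Normal :=
    (Subgroup.normal_subgroupOf_iff_le_normalizer hKY).mpr (le_normalizer.trans hKN)
  have hcop' : (Nat.card (K.subgroupOf Y)).Coprime (K.subgroupOf Y).index := by
    rw [card_subgroupOf_of_le hKY]; exact hcop
  obtain ⟨H', hH'⟩ := Subgroup.exists_right_complement'_of_coprime hcop'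
  have hcardH' : Nat.card H' = K.relIndex Y := hH'.symm.index_eq_card.symm
  have hidxH' : H'.index = Nat.card K := by
    rw [hH'.index_eq_card, card_subgroupOf_of_le hKY]
  -- nilpotency of `H'`
  haveI hKpn : ∀ p : I, ((Kp p).subgroupOf Y).Normal :=
    fun p => (Subgroup.normal_subgroupOf_iff_le_normalizer (h1 p)).mpr (h2 p)
  haveI hQn : ∀ p : I, Group.IsNilpotent (↥Y ⧸ (Kp p).subgroupOf Y) := by
    intro p
    haveI : Fact p.1.Prime := ⟨p.2.1⟩
    obtain ⟨k, hk⟩ := h4 p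
    have h6 : Nat.card (↥Y ⧸ (Kp p).subgroupOf Y) = p.1 ^ k := by
      rw [← Subgroup.index_eq_card]; exact hk
    exact (IsPGroup.of_card h6).isNilpotent
  haveI hIfin : Finite I := by
    have hfin : {p : ℕ | p.Prime ∧ p ∣ Nat.card Y ∧ p ∉ π}.Finite := by
      apply (Nat.divisors (Nat.card Y)).finite_toSet.subset
      intro p hp
      simp only [Finset.mem_coe, Nat.mem_divisors]
      exact ⟨hp.2.1, Nat.card_pos.ne'⟩
    exact hfin.to_subtype
  let f : ↥H' →* ∀ p : I, ↥Y ⧸ (Kp p).subgroupOf Y :=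
    MonoidHom.pi (fun p => (QuotientGroup.mk' ((Kp p).subgroupOf Y)).comp H'.subtype)
  have hker : f.ker = ⊥ := by
    rw [eq_bot_iff]
    intro x hx
    rw [MonoidHom.mem_ker] at hx
    have hx' : ∀ p : I, (x : ↥Y) ∈ (Kp p).subgroupOf Y := by
      intro p
      have h6 := congrFun hx p
      exact (QuotientGroup.eq_one_iff _).mp h6
    have hxK : (x : ↥Y) ∈ K.subgroupOf Y := by
      rw [mem_subgroupOf, hK, mem_inf, mem_iInf]
      exact ⟨(x : ↥Y).2, fun p => mem_subgroupOf.mp (hx' p)⟩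
    have h6 : (x : ↥Y) ∈ K.subgroupOf Y ⊓ H' := ⟨hxK, x.2⟩
    rw [hH'.disjoint.eq_bot, mem_bot] at h6
    rw [mem_bot]
    exact Subtype.ext h6
  haveI hH'nil : Group.IsNilpotent H' :=
    Subgroup.isNilpotent_of_ker_le_center f (by rw [hker]; exact bot_le)
  refine ⟨K, H'.map Y.subtype, hKY, hKN, hKπ, hKidx, Subgroup.map_subtype_le H', ?_, ?_, ?_⟩
  · exact Group.nilpotent_of_mulEquiv (H'.equivMapOfInjective Y.subtype Y.subtype_injective)
  · intro q hq hqH hqπ
    rw [Subgroup.card_map_of_injective Y.subtype_injective, hcardH'] at hqH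
    exact hKidx q hq hqπ hqH
  · intro q hq hqπ hqi
    have h6 : (H'.map Y.subtype).relIndex Y = H'.index := by
      rw [Subgroup.relIndex]
      have : (H'.map Y.subtype).subgroupOf Y = H' :=
        Subgroup.comap_map_eq_self_of_injective Y.subtype_injective H'
      rw [this]
    rw [h6, hidxH'] at hqi
    exact hqπ (hKπ q hq hqi)

end Cfsg.Agent.Helper34.BG
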