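import Mathlib
import Cfsg.Prelude.Def_OddOrderLocal
import Cfsg.Agent.S1450
import Cfsg.Agent.S1455
import Cfsg.Agent.Lib.Helper24.NarrowSolv
import Cfsg.Agent.Lib.Helper62.PiCore
import Cfsg.Agent.Lib.Helper79.BG10.Alpha
import Cfsg.Agent.Lib.Helper34.BG10b
import Cfsg.Agent.Lib.Helper34.BG10f
import Cfsg.Agent.Lib.Helper34.BG10g

/-!
# B-G Lemma 10.8 / Corollary 10.9: `M_β`, nilpotent Hall `β'`-subgroups, normal `p`-complements

Everything is proved from the Uniqueness Theorem (hypothesis `UniqHyp`, statement S1403) and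
`p`-length one of `M` (statement S1410), with B-G 4.18 (S1450), 5.3 (S1453) and 5.5 (S1455).
-/

set_option autoImplicit false
set_option linter.unusedSectionVars false
set_option linter.style.haveILetI false

namespace Cfsg.Agent.Helper34.BG

open Cfsg Subgroup Cfsg.Agent.Helper34.TNC Cfsg.Agent.Helper33

variable {G : Type*} [Group G]

theorem isElementaryAbelian_map {p : ℕ} {H : Type*} [Group H] (f : H →* G) {B : Subgroup H}
    (hB : IsElementaryAbelian p B) : IsElementaryAbelian p (B.map f) := by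
  refine ⟨⟨⟨fun x y => ?_⟩⟩, fun a ha => ?_⟩
  · obtain ⟨a, ha, hax⟩ := x.2
    obtain ⟨b, hb, hby⟩ := y.2
    apply Subtype.ext
    show (x : G) * y = y * x
    rw [← hax, ← hby, ← map_mul, ← map_mul, commute_of_isElementaryAbelian hB ha hb]
  · obtain ⟨b, hb, rfl⟩ := ha
    rw [← map_pow, hB.2 b hb, map_one]

theorem isElementaryAbelian_subgroupOf {p : ℕ} {A : Subgroup G} (hA : IsElementaryAbelian p A)
    (P : Subgroup G) : IsElementaryAbelian p (A.subgroupOf P) := by
  refine ⟨⟨⟨fun x y => ?_⟩⟩, fun a ha => ?_⟩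
  · apply Subtype.ext
    apply Subtype.ext
    have := commute_of_isElementaryAbelian hA (mem_subgroupOf.mp x.2) (mem_subgroupOf.mp y.2)
    simpa using this
  · apply Subtype.ext
    have := hA.2 (a : G) (mem_subgroupOf.mp ha)
    simpa using this

/-- the derived subgroup of `↥M` and `⁅M, M⁆` are isomorphic -/
noncomputable def commEquiv (M : Subgroup G) : ↥(commutator ↥M) ≃* ↥⁅M, M⁆ :=
  ((commutator ↥M).equivMapOfInjective M.subtype M.subtype_injective).trans
    (MulEquiv.subgroupCongr M.map_subtype_commutator)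

theorem le_normalizer_commutator_self (M : Subgroup G) : M ≤ normalizer ((⁅M, M⁆ : Subgroup G) : Set G) := by
  have h1 : (⁅M, M⁆ : Subgroup G).subgroupOf M = commutator ↥M := by
    rw [← M.map_subtype_commutator]
    exact Subgroup.comap_map_eq_self_of_injective M.subtype_injective _
  have h2 : ((⁅M, M⁆ : Subgroup G).subgroupOf M).Normal := by rw [h1]; infer_instance
  exact (Subgroup.normal_subgroupOf_iff_le_normalizer M.commutator_le_self).mp h2

variable [Finite G]

/-- if `p` is not ideal (and `G` has `p`-rank at least 3), all Sylow `p`-subgroups are narrow -/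
theorem isNarrow_sylow_of_not_ideal {p : ℕ} [hp : Fact p.Prime] (hp2 : p ≠ 2)
    (hrG : ¬ PRankLE p 2 G) (hI : ¬ IsIdealPrime p G) (P' : Sylow p G) :
    IsNarrow p ↥(P' : Subgroup G) := by
  have hI' : ∃ (P : Sylow p G) (A : Subgroup G), A ≤ (P : Subgroup G) ∧
      IsElementaryAbelian p A ∧ Nat.card A = p ^ 2 ∧
      ∀ B : Subgroup G, B ≤ (P : Subgroup G) → IsElementaryAbelian p B → ¬ A < B := by
    by_contra hcon
    apply hI
    refine ⟨hp.out, hrG, fun P A hAP hA hAc => ?_⟩
    by_contra hB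
    apply hcon
    exact ⟨P, A, hAP, hA, hAc, fun B hBP hBe hlt => hB ⟨B, hBP, hBe, hlt⟩⟩
  obtain ⟨P, A, hAP, hA, hAc, hmax⟩ := hI'
  have hnP : IsNarrow p ↥(P : Subgroup G) := by
    apply isNarrow_of_max_elemAb p hp2 P.isPGroup' ?_ (A.subgroupOf P)
      (isElementaryAbelian_subgroupOf hA _) ?_ ?_
    · intro h
      exact hrG (Cfsg.Agent.Helper24.NarrowSolv.prankLE_of_sylow P h)
    · rw [card_subgroupOf_of_le hAP]; exact hAc
    · intro B hB hEB
      have hBe : IsElementaryAbelian p (B.map (P : Subgroup G).subtype) :=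
        isElementaryAbelian_map _ hB
      have hAB : A ≤ B.map (P : Subgroup G).subtype := by
        intro a ha
        exact ⟨⟨a, hAP ha⟩, hEB (mem_subgroupOf.mpr ha), rfl⟩
      have hnlt := hmax _ (map_subtype_le B) hBe
      have hEq : A = B.map (P : Subgroup G).subtype := by
        by_contra hne
        exact hnlt (lt_of_le_of_ne hAB hne)
      rw [hEq]
      exact (Subgroup.comap_map_eq_self_of_injective (P : Subgroup G).subtype_injective B).symm
  obtain ⟨g, rfl⟩ := MulAction.exists_smul_eq G P P'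
  exact isNarrow_of_mulEquiv (Subgroup.equivSMul (MulAut.conj g) (P : Subgroup G)) hnP

/-- B-G 10.9 for a single prime `p ∉ β(M)`. -/
theorem bg10_9 (hG : IsMinSimpleOddOrder G) (hU : UniqHyp G) {M : Subgroup G} (hM : IsCoatom M)
    (hPL : ∀ (p : ℕ) [Fact p.Prime], PLengthLE p 1 ↥M)
    (p : ℕ) (hp : p.Prime) (hpM : p ∣ Nat.card M) (hβ : p ∉ beta M) :
    HasNormalPComplement p ↥⁅M, M⁆ ∧
      ∀ q : ℕ, q.Prime → q ∣ (pPrimeCore p ↥M).index → q ≤ p := by
  haveI : Fact p.Prime := ⟨hp⟩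
  haveI : Group.IsSolvable ↥M := solvable_of_ne_top hG hM.1
  have hodd : Odd (Nat.card ↥M) := odd_card_subgroup hG M
  suffices h : (∀ q : ℕ, q.Prime → q ∣ (pPrimeCore p ↥M).index → q ≤ p) ∧
      HasNormalPComplement p ↥(commutator ↥M) from
    ⟨Cfsg.Agent.Helper2.hasNormalPComplement_of_mulEquiv (commEquiv M) h.2, h.1⟩
  by_cases hr : PRankLE p 2 ↥M
  · obtain ⟨c1, -, c3, -⟩ := Cfsg.Agent.S1450.result hodd p hpM hr
    exact ⟨c1, c3⟩
  · have hα : p ∈ alpha M := ⟨hp, hr⟩
    have hI : ¬ IsIdealPrime p G := fun h => hβ ⟨hα, h⟩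
    have hrG : ¬ PRankLE p 2 G := by
      obtain ⟨A, -, hA, hc⟩ := exists_elemAb_of_not_pRankLE hr
      exact not_pRankLE_top_of_elemAb hA hc
    have hp2 : p ≠ 2 := prime_ne_two hG M hpM
    have hσ : p ∈ sigma M := alpha_subset_sigma hG hU hM hα
    obtain ⟨S⟩ : Nonempty (Sylow p ↥M) := inferInstance
    have hS₀ : Cfsg.Agent.Helper16.IsSylowIn p M ((S : Subgroup ↥M).map M.subtype) := ⟨S, rfl⟩
    have hcard := (Cfsg.Agent.Helper79.BG10.isSylowIn_top_of_sigma hσ hS₀).card
    rw [Subgroup.card_top] at hcard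
    have hn1 : IsNarrow p ↥((Sylow.ofCard _ hcard : Sylow p G) : Subgroup G) :=
      isNarrow_sylow_of_not_ideal hp2 hrG hI _
    have hn2 : IsNarrow p ↥((S : Subgroup ↥M).map M.subtype) := hn1
    have hn3 : IsNarrow p ↥(S : Subgroup ↥M) :=
      isNarrow_of_mulEquiv
        ((S : Subgroup ↥M).equivMapOfInjective M.subtype M.subtype_injective).symm hn2
    obtain ⟨c1, -, c3, -⟩ := Cfsg.Agent.S1455.result hodd p hpM S hn3 (fun _ => hPL p)
    exact ⟨c1, c3⟩

end Cfsg.Agent.Helper34.BG
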