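import Mathlib
import Cfsg.Prelude.Def_OddOrderLocal
import Cfsg.Agent.Lib.Helper34.BG10h

/-!
# B-G Lemma 10.8 / Corollary 10.9, assembly (statement S1414)
-/

set_option autoImplicit false
set_option linter.unusedSectionVars false
set_option linter.style.haveILetI false

namespace Cfsg.Agent.Helper34.BG

open Cfsg Subgroup Cfsg.Agent.Helper34.TNC Cfsg.Agent.Helper33

variable {G : Type*} [Group G] [Finite G]

/-- for `q ∈ σ(M)`, `q` does not divide `|M : M'|` -/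
theorem not_dvd_relIndex_commutator_of_sigma (hG : IsMinSimpleOddOrder G) (hU : UniqHyp G)
    {M : Subgroup G} (hM : IsCoatom M) {q : ℕ} [Fact q.Prime] (hσ : q ∈ sigma M) :
    ¬ q ∣ (⁅M, M⁆ : Subgroup G).relIndex M := by
  obtain ⟨S⟩ : Nonempty (Sylow q ↥M) := inferInstance
  have hS₀ : Cfsg.Agent.Helper16.IsSylowIn q M ((S : Subgroup ↥M).map M.subtype) := ⟨S, rfl⟩
  have hle : (S : Subgroup ↥M).map M.subtype ≤ ⁅M, M⁆ :=
    Cfsg.Agent.Helper79.BG10.sylow_le_commutator hG hU hM hσ hS₀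
  have hS : IsSylIn q ((S : Subgroup ↥M).map M.subtype) M := isSylIn_of_sylow M S
  intro hdvd
  apply hS.not_dvd
  rw [← Subgroup.relIndex_mul_relIndex _ _ _ hle M.commutator_le_self]
  exact dvd_mul_of_dvd_right hdvd _

/-- B-G 10.2(c): `M_σ ≤ M'` -/
theorem sigmaCore_le_commutator (hG : IsMinSimpleOddOrder G) (hU : UniqHyp G)
    {M : Subgroup G} (hM : IsCoatom M) : sigmaCore M ≤ ⁅M, M⁆ := by
  have hπ : Cfsg.Agent.Helper62.IsPi (sigma M) (sigmaCore M) :=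
    Cfsg.Agent.Helper62.isPi_map_subtype _ M (Cfsg.Agent.Helper62.isPi_piCore (sigma M))
  have hσM : sigmaCore M ≤ M := Subgroup.map_subtype_le _
  rw [← Subgroup.relIndex_eq_one]
  by_contra hne
  obtain ⟨q, hq, hqd⟩ := Nat.exists_prime_and_dvd hne
  haveI : Fact q.Prime := ⟨hq⟩
  have h1 : q ∣ Nat.card (sigmaCore M) := hqd.trans (Subgroup.relIndex_dvd_card _ _)
  have hqσ : q ∈ sigma M := hπ q hq h1
  apply not_dvd_relIndex_commutator_of_sigma hG hU hM hqσ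
  -- `|M_σ : M_σ ∩ M'|` divides `|M : M'|` as `M'` is normal in `M`
  have hn : M ≤ normalizer ((⁅M, M⁆ : Subgroup G) : Set G) := le_normalizer_commutator_self M
  haveI hnorm : ((⁅M, M⁆ : Subgroup G).subgroupOf M).Normal :=
    (Subgroup.normal_subgroupOf_iff_le_normalizer M.commutator_le_self).mpr hn
  have h2 : ((⁅M, M⁆ : Subgroup G).subgroupOf M).relIndex ((sigmaCore M).subgroupOf M) ∣
      ((⁅M, M⁆ : Subgroup G).subgroupOf M).index := Subgroup.relIndex_dvd_index_of_normal _ _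
  rw [Subgroup.relIndex_subgroupOf hσM] at h2
  exact hqd.trans h2

/-- B-G Lemma 10.8 and Corollary 10.9 (the statement of S1414), from the Uniqueness Theorem and
`p`-length one of `M`. -/
theorem bg10_8 (hG : IsMinSimpleOddOrder G) (hU : UniqHyp G) (M : Subgroup G) (hM : IsCoatom M)
    (hPL : ∀ (p : ℕ) [Fact p.Prime], PLengthLE p 1 ↥M) :
    IsPiHallOf (beta M) (piCoreOf (beta M) M) M ∧ IsPiHall (beta M) (piCoreOf (beta M) M) ∧
      (∃ H : Subgroup G, IsPiHallOf {q | q.Prime ∧ q ∉ beta M} H ⁅M, M⁆ ∧ Group.IsNilpotent H) ∧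
      (∃ H : Subgroup G, IsPiHallOf {q | q.Prime ∧ q ∉ beta M} H (sigmaCore M) ∧
        Group.IsNilpotent H) ∧
      ∀ p : ℕ, p.Prime → p ∣ Nat.card M → p ∉ beta M →
        HasNormalPComplement p ↥⁅M, M⁆ ∧ HasNormalPComplement p ↥(sigmaCore M) ∧
        ∀ q : ℕ, q.Prime → q ∣ (pPrimeCore p ↥M).index → q ≤ p := by
  have hσM' : sigmaCore M ≤ ⁅M, M⁆ := sigmaCore_le_commutator hG hU hM
  have hM'M : (⁅M, M⁆ : Subgroup G) ≤ M := M.commutator_le_self
  -- part 5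
  have h5 : ∀ p : ℕ, p.Prime → p ∣ Nat.card M → p ∉ beta M →
      HasNormalPComplement p ↥⁅M, M⁆ ∧ HasNormalPComplement p ↥(sigmaCore M) ∧
      ∀ q : ℕ, q.Prime → q ∣ (pPrimeCore p ↥M).index → q ≤ p := by
    intro p hp hpM hβ
    haveI : Fact p.Prime := ⟨hp⟩
    obtain ⟨c1, c2⟩ := bg10_9 hG hU hM hPL p hp hpM hβ
    exact ⟨c1, PN.mono hσM' c1, c2⟩
  -- the Hall subgroups of `M'` and `M_σ`
  obtain ⟨K, H, hKY, hKN, hKπ, hKidx, hHY, hHnil, hHπ, hHidx⟩ :=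
    hall_of_npc (⁅M, M⁆ : Subgroup G) (beta M)
      (fun p hp hpd hβ => (h5 p hp (hpd.trans (Subgroup.card_dvd_of_le hM'M)) hβ).1)
  obtain ⟨-, H₂, -, -, -, -, hH₂Y, hH₂nil, hH₂π, hH₂idx⟩ :=
    hall_of_npc (sigmaCore M) (beta M)
      (fun p hp hpd hβ =>
        (h5 p hp (hpd.trans (Subgroup.card_dvd_of_le (hσM'.trans hM'M))) hβ).2.1)
  -- `K ≤ O_β(M)`
  have hKM : K ≤ M := hKY.trans hM'M
  have hMK : M ≤ normalizer (K : Set G) := (le_normalizer_commutator_self M).trans hKN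
  have hKβ : K ≤ piCoreOf (beta M) M := by
    have hn : (K.subgroupOf M).Normal :=
      (Subgroup.normal_subgroupOf_iff_le_normalizer hKM).mpr hMK
    have hpi : Cfsg.Agent.Helper62.IsPi (beta M) (K.subgroupOf M) :=
      Cfsg.Agent.Helper62.isPi_subgroupOf _ hKM hKπ
    have hle := Cfsg.Agent.Helper62.le_piCore (beta M) hn hpi
    intro x hx
    exact ⟨⟨x, hKM hx⟩, hle (mem_subgroupOf.mpr hx), rfl⟩
  have hβM : piCoreOf (beta M) M ≤ M := Subgroup.map_subtype_le _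
  have hβπ : ∀ p : ℕ, p.Prime → p ∣ Nat.card (piCoreOf (beta M) M) → p ∈ beta M :=
    Cfsg.Agent.Helper62.isPi_map_subtype _ M (Cfsg.Agent.Helper62.isPi_piCore (beta M))
  have hβidx : ∀ p : ℕ, p.Prime → p ∈ beta M → ¬ p ∣ (piCoreOf (beta M) M).relIndex M := by
    intro q hq hqβ hdvd
    haveI : Fact q.Prime := ⟨hq⟩
    have hqσ : q ∈ sigma M := alpha_subset_sigma hG hU hM hqβ.1
    have h1 : q ∣ K.relIndex M := by
      rw [← Subgroup.relIndex_mul_relIndex K _ M hKβ hβM]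
      exact dvd_mul_of_dvd_right hdvd _
    rw [← Subgroup.relIndex_mul_relIndex K _ M hKY hM'M] at h1
    rcases (Nat.Prime.dvd_mul hq).mp h1 with h2 | h2
    · exact hKidx q hq hqβ h2
    · exact not_dvd_relIndex_commutator_of_sigma hG hU hM hqσ h2
  refine ⟨⟨hβM, hβπ, hβidx⟩, ⟨hβπ, ?_⟩, ⟨H, ⟨hHY, fun q hq hqH => ⟨hq, hHπ q hq hqH⟩,
    fun q hq hqπ => hHidx q hq hqπ.2⟩, hHnil⟩, ⟨H₂, ⟨hH₂Y, fun q hq hqH => ⟨hq, hH₂π q hq hqH⟩,
    fun q hq hqπ => hH₂idx q hq hqπ.2⟩, hH₂nil⟩, h5⟩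
  intro q hq hqβ hdvd
  haveI : Fact q.Prime := ⟨hq⟩
  have hqσ : q ∈ sigma M := alpha_subset_sigma hG hU hM hqβ.1
  rw [← Subgroup.relIndex_mul_index hβM] at hdvd
  rcases (Nat.Prime.dvd_mul hq).mp hdvd with h2 | h2
  · exact hβidx q hq hqβ h2
  · exact Cfsg.Agent.Helper79.BG10.not_dvd_index_of_sigma hqσ h2

end Cfsg.Agent.Helper34.BG
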