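import Cfsg.Agent.Lib.Helper34.BG10d

/-!
# Bender–Glauberman Lemma 10.4 (relative to the uniqueness theorem and Theorem 10.2)
-/

set_option autoImplicit false
open Pointwise

namespace Cfsg.Agent.Helper34.BG

open Subgroup Cfsg
open Cfsg.Agent.Helper33 (map_conj_eq_smul mem_conj_smul conj_mem_conj_smul conj_smul_le_iff
  mem_normalizer_iff_smul_eq smul_eq_of_mem_normalizer card_conj_smul conj_smul_le_conj_smul
  IsSylIn isSylIn_of_sylow exists_isSylIn_ge exists_isSylIn)

variable {G : Type*} [Group G]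

theorem mem_center_map {M : Subgroup G} (P : Subgroup M) {x : G} (hx : x ∈ P.map M.subtype)
    (hc : ∀ t ∈ P.map M.subtype, t * x = x * t) :
    x ∈ ((center ↥P).map P.subtype).map M.subtype := by
  obtain ⟨m, hm, rfl⟩ := mem_map.mp hx
  refine mem_map.mpr ⟨m, mem_map.mpr ⟨⟨m, hm⟩, ?_, rfl⟩, rfl⟩
  rw [mem_center_iff]
  intro g
  apply Subtype.ext
  apply Subtype.ext
  have := hc ((g : M) : G) (mem_map.mpr ⟨g.1, g.2, rfl⟩)
  simpa using this

theorem centralizer_zpowers_eq (x : G) :
    centralizer ((zpowers x : Subgroup G) : Set G) = centralizer ({x} : Set G) := by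
  rw [zpowers_eq_closure, centralizer_closure]

section fin

variable [Finite G]

/-- rank at most one and odd order give a Z-group. -/
theorem isZGroup_of_rankLE_one {L : Subgroup G} (hodd : Odd (Nat.card L)) (h : RankLE 1 ↥L) :
    IsZGroup ↥L := by
  refine ⟨fun q hq Q => ?_⟩
  have : Fact q.Prime := ⟨hq⟩
  by_cases hq2 : q = 2
  · subst hq2
    obtain ⟨n, hn⟩ := IsPGroup.iff_card.mp Q.isPGroup'
    have hdvd : Nat.card (Q : Subgroup L) ∣ Nat.card L := Subgroup.card_subgroup_dvd_card _
    have hoddQ : Odd (Nat.card (Q : Subgroup L)) := Odd.of_dvd_nat hodd hdvd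
    have hn0 : n = 0 := by
      by_contra hn0
      rw [hn] at hoddQ
      exact (Nat.not_even_iff_odd.mpr hoddQ) ((Nat.even_pow' hn0).mpr even_two)
    rw [hn0, pow_zero] at hn
    have : Subsingleton ↥(Q : Subgroup L) := (Nat.card_eq_one_iff_unique.mp hn).1
    exact isCyclic_of_subsingleton
  · exact isCyclic_of_pRankLE_one hq2 Q.isPGroup' (pRankLE_subgroup_type (h q hq) _)

/-- B–G Lemma 10.4. -/
theorem bg10_4 (hG : IsMinSimpleOddOrder G) (hU : UniqHyp G) {M : Subgroup G} (hM : IsCoatom M)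
    (hHall : IsPiHallOf (alpha M) (alphaCore M) M) {p : ℕ} [hp : Fact p.Prime]
    (hpM : p ∣ Nat.card M) (hσ : p ∉ sigma M) {T : Subgroup G} (hT : IsSylIn p T M) :
    ∃ x ∈ T, (∀ t ∈ T, t * x = x * t) ∧ orderOf x = p ∧
      IsZGroup ↥(alphaCore M ⊓ centralizer ({x} : Set G)) ∧
      ¬ (centralizer ({x} : Set G) ≤ M ∧
        ∀ L : Subgroup G, IsCoatom L → centralizer ({x} : Set G) ≤ L → L = M) := by
  by_contra hcon
  push Not at hcon
  -- every central element of order p is a uniqueness element for M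
  have hall : ∀ x ∈ T, (∀ t ∈ T, t * x = x * t) → orderOf x = p →
      (centralizer ({x} : Set G) ≤ M ∧
        ∀ L : Subgroup G, IsCoatom L → centralizer ({x} : Set G) ≤ L → L = M) := by
    intro x hxT hxc hxo
    by_cases hZ : IsZGroup ↥(alphaCore M ⊓ centralizer ({x} : Set G))
    · exact hcon x hxT hxc hxo hZ
    · have hx1 : x ≠ 1 := by
        intro h
        rw [h, orderOf_one] at hxo
        exact hp.out.one_lt.ne hxo
      have hr : ¬ RankLE 1 ↥(alphaCore M ⊓ centralizer ((zpowers x : Subgroup G) : Set G)) := by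
        rw [centralizer_zpowers_eq]
        intro h
        exact hZ (isZGroup_of_rankLE_one (odd_card_subgroup hG _) h)
      have hXα : ∀ r : ℕ, r.Prime → r ∣ Nat.card (zpowers x) → r ∉ alpha M := by
        intro r hr hdvd hrα
        rw [Nat.card_zpowers, hxo] at hdvd
        have : r = p := (Nat.prime_dvd_prime_iff_eq hr hp.out).mp hdvd
        subst this
        exact hσ (alpha_subset_sigma hG hU hM hrα)
      have h3 := bg10_3 hG hU hM hHall (zpowers_le.mpr (hT.le hxT)) hXα hr
      rw [centralizer_zpowers_eq] at h3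
      have hne := centralizer_singleton_ne_top hG hx1
      refine ⟨uniq_le_of_le h3 hM inf_le_left inf_le_right hne, fun L hL hCL => ?_⟩
      exact uniq_eq_of_le h3 hM inf_le_left hL (inf_le_right.trans hCL)
  -- T is nontrivial
  have hT1 : Nontrivial ↥T := by
    have h1 := Cfsg.Agent.Helper52.card_mul_relIndex_eq hT.le
    have h2 : p ∣ Nat.card T := by
      rw [← h1] at hpM
      rcases (Nat.Prime.dvd_mul hp.out).mp hpM with h | h
      · exact h
      · exact absurd h hT.not_dvd
    apply (Finite.one_lt_card_iff_nontrivial).mp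
    exact lt_of_lt_of_le hp.out.one_lt (Nat.le_of_dvd Nat.card_pos h2)
  obtain ⟨z, hzT, hzc, hzo⟩ := exists_central_order_p hT.isPGroup hT1
  have hUz := hall z hzT hzc hzo
  have hCzU : InUniqueMaximal (centralizer ({z} : Set G)) :=
    inUniqueMaximal_of_forall hM hUz.1 hUz.2
  apply not_normalizer_le_of_not_mem_sigma hT hpM hσ
  intro g hg
  have hgzT : g * z * g⁻¹ ∈ T := by
    have := conj_mem_conj_smul (g := g) hzT
    rwa [smul_eq_of_mem_normalizer hg] at this
  have hgzc : ∀ t ∈ T, t * (g * z * g⁻¹) = g * z * g⁻¹ * t := by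
    intro t ht
    have ht' : g⁻¹ * t * g ∈ T := by
      have h1 := conj_mem_conj_smul (g := g⁻¹) ht
      rw [smul_eq_of_mem_normalizer (inv_mem hg)] at h1
      simpa using h1
    have h2 := hzc _ ht'
    have h3 : g * (g⁻¹ * t * g * z) * g⁻¹ = g * (z * (g⁻¹ * t * g)) * g⁻¹ := by rw [h2]
    simpa [mul_assoc] using h3
  have hgzo : orderOf (g * z * g⁻¹) = p := by
    rw [← hzo]
    have := MulEquiv.orderOf_eq (MulAut.conj g) z
    simpa [MulAut.conj_apply] using this
  have hUgz := hall _ hgzT hgzc hgzo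
  apply uniq_mem_of_conj_le hG hCzU hM hUz.1 (g := g)
  refine le_trans ?_ hUgz.1
  rw [conj_smul_le_iff]
  intro c hc
  rw [mem_centralizer_singleton_iff] at hc ⊢
  have h3 : g * (c * z) * g⁻¹ = g * (z * c) * g⁻¹ := by rw [hc]
  simpa [mul_assoc] using h3

end fin

end Cfsg.Agent.Helper34.BG
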