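import Mathlib
import Cfsg.Agent.Lib.Helper93.RU0

/-!
# RU piece B3 (helper34): the upper Jordan block `u = 1 + N` is a regular unipotent element.
-/

set_option autoImplicit false

namespace Cfsg.Agent.Helper34.RU

open Matrix Cfsg.Agent.Helper93.RU

variable {F : Type*} [Field F] {m : ℕ}

theorem h34_Nmat_apply (i j : Fin (m + 3)) :
    Nmat m F i j = if i.val + 1 = j.val then 1 else 0 := rfl

theorem h34_det_one_add_Nmat : (1 + Nmat m F).det = 1 := by
  have hT : (1 + Nmat m F).BlockTriangular id := by
    intro i j hji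
    have hji' : j < i := hji
    have h1 : (1 : Matrix (Fin (m + 3)) (Fin (m + 3)) F) i j = 0 :=
      Matrix.one_apply_ne (ne_of_gt hji')
    have h2 : Nmat m F i j = 0 := by
      rw [h34_Nmat_apply, if_neg]
      have : j.val < i.val := hji'
      omega
    rw [Matrix.add_apply, h1, h2, add_zero]
  rw [Matrix.det_of_isUpperTriangular hT]
  apply Finset.prod_eq_one
  intro i _
  rw [Matrix.add_apply, Matrix.one_apply_eq, h34_Nmat_apply, if_neg (by omega), add_zero]

theorem h34_uEl_val : (uEl m F).1 = 1 + Nmat m F := by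
  have h := h34_det_one_add_Nmat (F := F) (m := m)
  have h2 : uEl m F = ⟨1 + Nmat m F, h⟩ := dif_pos h
  rw [h2]

theorem h34_Nmat_pow_apply (k : ℕ) (i j : Fin (m + 3)) :
    (Nmat m F ^ k) i j = if i.val + k = j.val then 1 else 0 := by
  induction k generalizing i j with
  | zero =>
    rw [pow_zero, Matrix.one_apply]
    by_cases h : i = j
    · subst h; simp
    · rw [if_neg h, if_neg]
      intro h'
      exact h (Fin.ext (by omega))
  | succ k ih =>
    rw [pow_succ, Matrix.mul_apply]
    by_cases h : i.val + (k + 1) = j.val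
    · rw [if_pos h]
      have hl : i.val + k < m + 3 := by have := j.isLt; omega
      rw [Finset.sum_eq_single (⟨i.val + k, hl⟩ : Fin (m + 3))]
      · rw [ih, h34_Nmat_apply, if_pos rfl, if_pos (by simp only []; omega), mul_one]
      · intro l _ hne
        rw [ih, if_neg, zero_mul]
        intro h'
        exact hne (Fin.ext h'.symm)
      · intro hh
        exact absurd (Finset.mem_univ _) hh
    · rw [if_neg h]
      apply Finset.sum_eq_zero
      intro l _
      rw [ih, h34_Nmat_apply]
      by_cases h1 : i.val + k = l.val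
      · rw [if_pos h1, if_neg (by omega), mul_zero]
      · rw [if_neg h1, zero_mul]

theorem uEl_regular : IsNilpotent ((uEl m F).1 - 1) ∧ ((uEl m F).1 - 1) ^ (m + 2) ≠ 0 := by
  have h1 : (uEl m F).1 - 1 = Nmat m F := by
    rw [h34_uEl_val]; simp
  rw [h1]
  constructor
  · refine ⟨m + 3, ?_⟩
    ext i j
    rw [h34_Nmat_pow_apply, if_neg (by have := j.isLt; omega)]
    rfl
  · intro h0
    have h2 := congrFun (congrFun h0 (0 : Fin (m + 3))) (Fin.last (m + 2))
    rw [h34_Nmat_pow_apply] at h2
    simp at h2

end Cfsg.Agent.Helper34.RU
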