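import Mathlib
import Cfsg.Agent.Lib.Helper12.SUOT_T14

/-!
# SUOT piece T7b (helper34, for helper12's sub-server, S2282): `H v (u (u v)) ≠ 0`.
With `y = A(al^q)⁻¹ b_(n-1)`: `v = A(al^q) b_(n-1)`, `u v = A(al) b_(n-1)`, `u (u v) = A(al) (A(al) y)`,
`H v (u (u v)) = H b_(n-1) (A(al)^3 y) = (c_3 (al - al^q)^3)^q` where `c_i` are the coordinates of `y`,
`c_(n-1) = 1`, `c_i = -al^q c_(i+1)`.
-/

set_option autoImplicit false
set_option linter.unusedSectionVars false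
set_option linter.unusedVariables false

namespace Cfsg.Agent.Helper34.SUOT

open Matrix Cfsg Cfsg.Agent.Helper13 Cfsg.Agent.Helper87.PsuA Cfsg.Agent.Helper12.SUOT

variable {F : Type*} [Field F] [Fintype F] {q n : ℕ}

/-- coordinates of `A(al) x` away from the last one -/
theorem h34_co_Am_succ (hF : Fintype.card F = q ^ 2) {b : Fin n → Fin n → F} (hb : HB q b)
    (al : F) (x : Fin n → F) (i j : Fin n) (hij : i.val + 1 = j.val) :
    co q b (Am q b al *ᵥ x) i = co q b x i + al * co q b x j := by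
  rw [Am_mulVec, co_add, co_smul, co_Nm_succ hF hb x i j hij]

/-- the last coordinate of `A(al) x` -/
theorem h34_co_Am_last (hF : Fintype.card F = q ^ 2) {b : Fin n → Fin n → F} (hb : HB q b)
    (al : F) (x : Fin n → F) (i : Fin n) (hi : i.val + 1 = n) :
    co q b (Am q b al *ᵥ x) i = co q b x i := by
  rw [Am_mulVec, co_add, co_smul, co_Nm_last hF hb x i hi, mul_zero, add_zero]

/-- all coordinates of `y = A(be)⁻¹ b_(n-1)` are nonzero (`be ≠ 0`) -/
theorem h34_co_y_ne_zero (hF : Fintype.card F = q ^ 2) {b : Fin n → Fin n → F} (hb : HB q b)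
    (be : F) (hbe : be ≠ 0) (e : Fin n) (he : e.val + 1 = n) (y : Fin n → F)
    (hy : Am q b be *ᵥ y = b e) :
    ∀ (k : ℕ) (i : Fin n), i.val + k + 1 = n → co q b y i ≠ 0 := by
  intro k
  induction k with
  | zero =>
    intro i hi
    have h1 := h34_co_Am_last hF hb be y i (by omega)
    rw [hy, co_b hb, if_pos (Fin.ext (by omega))] at h1
    rw [← h1]; exact one_ne_zero
  | succ k ih =>
    intro i hi
    have hlt : i.val + 1 < n := by omega
    have h1 := h34_co_Am_succ hF hb be y i ⟨i.val + 1, hlt⟩ rfl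
    rw [hy, co_b hb, if_neg (fun h => by have := congrArg Fin.val h; omega)] at h1
    have h2 := ih ⟨i.val + 1, hlt⟩ (by simp only []; omega)
    intro h0
    rw [h0, zero_add] at h1
    exact mul_ne_zero hbe h2 h1.symm

/-- (T7b) the hard one: `H v (u² v) = ((al - al^q)^3 * y_3)^q ≠ 0`, `y = A(al^q)⁻¹ b_(n-1)` -/
theorem frame_v_uuv (hF : Fintype.card F = q ^ 2) {b : Fin n → Fin n → F} (hb : HB q b)
    (hn : 5 ≤ n) (al : F) (hal : al ^ q ≠ al) (hal0 : al ≠ 0) :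
    Cfsg.hermForm n F q (vV q b al hn)
      (actv (uEl q b al) (actv (uEl q b al) (vV q b al hn))) ≠ 0 := by
  have hNe : Nm q b *ᵥ b (Fin.rev ⟨0, by omega⟩) = b (Fin.rev ⟨1, by omega⟩) :=
    Nm_b_succ hF hb _ _ (by simp only [Fin.val_rev]; omega)
  have hv : vV q b al hn = Am q b (al ^ q) *ᵥ b (Fin.rev ⟨0, by omega⟩) := by
    rw [Am_mulVec, hNe]; rfl
  obtain ⟨y, hy⟩ : ∃ y : Fin n → F, Am q b (al ^ q) *ᵥ y = b (Fin.rev ⟨0, by omega⟩) :=
    ⟨(Am q b (al ^ q))⁻¹ *ᵥ b (Fin.rev ⟨0, by omega⟩), by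
      rw [Matrix.mulVec_mulVec, Am_mul_inv hF hb, Matrix.one_mulVec]⟩
  have huv : actv (uEl q b al) (vV q b al hn) = Am q b al *ᵥ b (Fin.rev ⟨0, by omega⟩) := by
    rw [hv, uEl_eq hF hb, uMat_key hF hb]
  have huuv : actv (uEl q b al) (actv (uEl q b al) (vV q b al hn)) =
      Am q b al *ᵥ (Am q b al *ᵥ y) := by
    rw [huv, ← hy, Matrix.mulVec_mulVec, Am_comm, ← Matrix.mulVec_mulVec, uEl_eq hF hb,
      uMat_key hF hb]
  rw [huuv, hv, Am_adj hF hb, frob_frob hF, H_b_right hF, Fin.rev_rev]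
  apply pow_ne_zero
  -- the four coordinates
  have hq0 : al ^ q ≠ 0 := pow_ne_zero _ hal0
  have hc3 : co q b y ⟨3, by omega⟩ ≠ 0 :=
    h34_co_y_ne_zero hF hb (al ^ q) hq0 (Fin.rev ⟨0, by omega⟩)
      (by simp only [Fin.val_rev]; omega) y hy (n - 4) ⟨3, by omega⟩ (by simp only []; omega)
  have hrel : ∀ (i j : Fin n), i.val + 1 = j.val → i.val < 3 →
      co q b y i + al ^ q * co q b y j = 0 := by
    intro i j hij hi
    have h1 := h34_co_Am_succ hF hb (al ^ q) y i j hij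
    rw [hy, co_b hb, if_neg (fun h => by
      have := congrArg Fin.val h; simp only [Fin.val_rev] at this; omega)] at h1
    exact h1.symm
  have h0 := hrel ⟨0, by omega⟩ ⟨1, by omega⟩ rfl (by simp)
  have h1 := hrel ⟨1, by omega⟩ ⟨2, by omega⟩ rfl (by simp)
  have h2 := hrel ⟨2, by omega⟩ ⟨3, by omega⟩ rfl (by simp)
  have hval : co q b (Am q b al *ᵥ (Am q b al *ᵥ (Am q b al *ᵥ y))) ⟨0, by omega⟩ =
      co q b y ⟨3, by omega⟩ * (al - al ^ q) ^ 3 := by
    have hA01 : ∀ x : Fin n → F, co q b (Am q b al *ᵥ x) ⟨0, by omega⟩ =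
        co q b x ⟨0, by omega⟩ + al * co q b x ⟨1, by omega⟩ :=
      fun x => h34_co_Am_succ hF hb al x ⟨0, by omega⟩ ⟨1, by omega⟩ rfl
    have hA12 : ∀ x : Fin n → F, co q b (Am q b al *ᵥ x) ⟨1, by omega⟩ =
        co q b x ⟨1, by omega⟩ + al * co q b x ⟨2, by omega⟩ :=
      fun x => h34_co_Am_succ hF hb al x ⟨1, by omega⟩ ⟨2, by omega⟩ rfl
    have hA23 : ∀ x : Fin n → F, co q b (Am q b al *ᵥ x) ⟨2, by omega⟩ =
        co q b x ⟨2, by omega⟩ + al * co q b x ⟨3, by omega⟩ :=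
      fun x => h34_co_Am_succ hF hb al x ⟨2, by omega⟩ ⟨3, by omega⟩ rfl
    rw [hA01, hA01, hA01, hA12, hA12, hA12, hA23]
    linear_combination h0 + (3 * al - al ^ q) * h1 +
      (3 * al ^ 2 - 3 * al * al ^ q + (al ^ q) ^ 2) * h2
  rw [hval]
  exact mul_ne_zero hc3 (pow_ne_zero _ (sub_ne_zero.2 (Ne.symm hal)))

end Cfsg.Agent.Helper34.SUOT
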