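import Mathlib
import Cfsg.Agent.Lib.Helper34.PPrimeCore

/-!
# Centralizer of an element of order four when the Sylow 2-subgroup is quaternion of order 8
-/

set_option autoImplicit false

namespace Cfsg.Agent.Helper34.BSQ8GT

universe u

theorem q8_cent (x y : QuaternionGroup 2) (hx4 : x ^ 4 = 1) (hx2 : x ^ 2 ≠ 1)
    (hc : y * x = x * y) : y = 1 ∨ y = x ∨ y = x ^ 2 ∨ y = x ^ 3 := by
  revert x y
  decide

theorem q8_conj_inv (x : QuaternionGroup 2) (hx4 : x ^ 4 = 1) (hx2 : x ^ 2 ≠ 1) :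
    ∃ g : QuaternionGroup 2, g * x * g⁻¹ = x⁻¹ := by
  revert x
  decide

variable {G : Type u} [Group G]

theorem pow_four_of_orderOf {u : G} (hu : orderOf u = 4) : u ^ 4 = 1 := by
  rw [← hu]; exact pow_orderOf_eq_one u

theorem sq_ne_one_of_orderOf {u : G} (hu : orderOf u = 4) : u ^ 2 ≠ 1 := by
  intro h
  have := orderOf_dvd_of_pow_eq_one h
  rw [hu] at this
  omega

/-- in a copy of `Q8`, the centralizer of an element of order four is the cyclic group it
generates -/
theorem mem_zpowers_of_commute {T : Subgroup G} (e : T ≃* QuaternionGroup 2) {u y : G}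
    (huT : u ∈ T) (hyT : y ∈ T) (hu : orderOf u = 4) (hc : y * u = u * y) :
    y ∈ Subgroup.zpowers u := by
  have h4 : (e ⟨u, huT⟩) ^ 4 = 1 := by
    rw [← map_pow]
    have : (⟨u, huT⟩ : T) ^ 4 = 1 := Subtype.ext (by simpa using pow_four_of_orderOf hu)
    rw [this, map_one]
  have h2 : (e ⟨u, huT⟩) ^ 2 ≠ 1 := by
    intro h
    rw [← map_pow] at h
    have h1 : (⟨u, huT⟩ : T) ^ 2 = 1 := e.injective (by rw [h, map_one])
    apply sq_ne_one_of_orderOf hu
    have := congrArg Subtype.val h1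
    simpa using this
  have hc' : e ⟨y, hyT⟩ * e ⟨u, huT⟩ = e ⟨u, huT⟩ * e ⟨y, hyT⟩ := by
    rw [← map_mul, ← map_mul]
    congr 1
    exact Subtype.ext hc
  have key : ∀ k : ℕ, e ⟨y, hyT⟩ = (e ⟨u, huT⟩) ^ k → y ∈ Subgroup.zpowers u := by
    intro k hk
    rw [← map_pow] at hk
    have h1 : (⟨y, hyT⟩ : T) = (⟨u, huT⟩ : T) ^ k := e.injective hk
    have h2 : y = u ^ k := by
      have := congrArg Subtype.val h1
      simpa using this
    rw [h2]
    exact Subgroup.npow_mem_zpowers u k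
  rcases q8_cent _ _ h4 h2 hc' with h | h | h | h
  · exact key 0 (by rw [h, pow_zero])
  · exact key 1 (by rw [h, pow_one])
  · exact key 2 h
  · exact key 3 h

theorem exists_conj_inv {T : Subgroup G} (e : T ≃* QuaternionGroup 2) {u : G}
    (huT : u ∈ T) (hu : orderOf u = 4) : ∃ g : G, g * u * g⁻¹ = u⁻¹ := by
  have h4 : (e ⟨u, huT⟩) ^ 4 = 1 := by
    rw [← map_pow]
    have : (⟨u, huT⟩ : T) ^ 4 = 1 := Subtype.ext (by simpa using pow_four_of_orderOf hu)
    rw [this, map_one]
  have h2 : (e ⟨u, huT⟩) ^ 2 ≠ 1 := by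
    intro h
    rw [← map_pow] at h
    have h1 : (⟨u, huT⟩ : T) ^ 2 = 1 := e.injective (by rw [h, map_one])
    apply sq_ne_one_of_orderOf hu
    have := congrArg Subtype.val h1
    simpa using this
  obtain ⟨g, hg⟩ := q8_conj_inv _ h4 h2
  obtain ⟨g', rfl⟩ := e.surjective g
  rw [← map_inv, ← map_mul, ← map_mul, ← map_inv] at hg
  have h1 := e.injective hg
  refine ⟨(g' : G), ?_⟩
  have := congrArg Subtype.val h1
  simpa using this

variable [Finite G]

theorem q8_centralizer_order_four (S : Sylow 2 G)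
    (e : (S : Subgroup G) ≃* QuaternionGroup 2) (u : G) (huS : u ∈ (S : Subgroup G))
    (hu : orderOf u = 4) :
    (∃ k : ℕ, (Cfsg.pPrimeCore 2 (Subgroup.centralizer ({u} : Set G))).index = 2 ^ k) ∧
      (Nat.card (Subgroup.centralizer ({u} : Set G))).factorization 2 = 2 ∧ IsConj u u⁻¹ := by
  classical
  have : Fact (Nat.Prime 2) := ⟨Nat.prime_two⟩
  set C : Subgroup G := Subgroup.centralizer ({u} : Set G) with hC
  have huC : u ∈ C := by
    rw [hC, Subgroup.mem_centralizer_iff]
    intro h hh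
    rw [Set.mem_singleton_iff.mp hh]
  have hcomm : ∀ c ∈ C, c * u = u * c := by
    intro c hc
    rw [hC, Subgroup.mem_centralizer_iff] at hc
    exact (hc u (Set.mem_singleton u)).symm
  set uC : C := ⟨u, huC⟩ with huCdef
  have hordC : orderOf uC = 4 := by
    rw [← hu]
    exact (Subgroup.orderOf_coe uC).symm
  -- a Sylow 2-subgroup of `C` containing `u`
  have hZ2 : IsPGroup 2 (Subgroup.zpowers uC) := by
    apply IsPGroup.of_card (n := 2)
    rw [Nat.card_zpowers, hordC]
    norm_num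
  obtain ⟨P, hP⟩ := hZ2.exists_le_sylow
  -- its image lies in a Sylow 2-subgroup of `G`, which is a copy of `Q8`
  have hP2 : IsPGroup 2 ((P : Subgroup C).map C.subtype) := P.isPGroup'.map _
  obtain ⟨S', hS'⟩ := hP2.exists_le_sylow
  obtain ⟨g, hg⟩ := MulAction.exists_smul_eq G S S'
  have e' : (S' : Subgroup G) ≃* QuaternionGroup 2 := by
    rw [← hg]
    exact (Sylow.equivSMul S g).symm.trans e
  have huP : uC ∈ (P : Subgroup C) := hP (Subgroup.mem_zpowers uC)
  have huS' : u ∈ (S' : Subgroup G) := hS' ⟨uC, huP, rfl⟩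
  have hPle : ∀ x ∈ (P : Subgroup C), x ∈ Subgroup.zpowers uC := by
    intro x hx
    have hxS' : (x : G) ∈ (S' : Subgroup G) := hS' ⟨x, hx, rfl⟩
    have h1 := mem_zpowers_of_commute e' huS' hxS' hu (hcomm x x.2)
    obtain ⟨k, hk⟩ := Subgroup.mem_zpowers_iff.mp h1
    rw [Subgroup.mem_zpowers_iff]
    refine ⟨k, ?_⟩
    apply Subtype.ext
    rw [Subgroup.coe_zpow]
    exact hk
  have hPeq : (P : Subgroup C) = Subgroup.zpowers uC := le_antisymm hPle hP
  have hcardP : Nat.card (P : Subgroup C) = 4 := by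
    rw [hPeq, Nat.card_zpowers, hordC]
  -- the 2-part of `|C|`
  have hfact : (Nat.card C).factorization 2 = 2 := by
    have h1 := Sylow.card_eq_multiplicity P
    rw [hcardP] at h1
    have h2 : (2 : ℕ) ^ 2 = 2 ^ (Nat.card C).factorization 2 := by rw [← h1]; norm_num
    exact (Nat.pow_right_injective (le_refl 2) h2).symm
  -- Burnside: `P` is central in `C`
  have hcent : Subgroup.normalizer ((P : Subgroup C) : Set C) ≤
      Subgroup.centralizer ((P : Subgroup C) : Set C) := by
    intro c _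
    rw [Subgroup.mem_centralizer_iff]
    intro x hx
    have hx' := hPle x hx
    obtain ⟨k, rfl⟩ := Subgroup.mem_zpowers_iff.mp hx'
    have h1 : Commute uC c := by
      apply Subtype.ext
      exact (hcomm c c.2).symm
    exact (h1.zpow_left k).eq
  have hcompl := MonoidHom.ker_transferSylow_isComplement' P hcent
  have hodd := MonoidHom.not_dvd_card_ker_transferSylow P hcent
  set K : Subgroup C := (MonoidHom.transferSylow P hcent).ker with hK
  have hKn : K.Normal := MonoidHom.normal_ker _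
  have hKcop : (Nat.card K).Coprime 2 := by
    rw [Nat.coprime_comm]
    exact (Nat.Prime.coprime_iff_not_dvd Nat.prime_two).mpr hodd
  have hKle : K ≤ Cfsg.pPrimeCore 2 C := Cfsg.Agent.Helper34.le_pPrimeCore hKn hKcop
  have hidx : K.index = 4 := by
    have h1 := hcompl.symm.index_eq_card
    rw [h1, hcardP]
  refine ⟨?_, hfact, ?_⟩
  · have h1 : (Cfsg.pPrimeCore 2 C).index ∣ K.index := Subgroup.index_dvd_of_le hKle
    rw [hidx] at h1
    have h2 : (Cfsg.pPrimeCore 2 C).index ∣ 2 ^ 2 := by simpa using h1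
    obtain ⟨k, -, hk⟩ := (Nat.dvd_prime_pow Nat.prime_two).mp h2
    exact ⟨k, hk⟩
  · obtain ⟨g, hg⟩ := exists_conj_inv e huS hu
    exact isConj_iff.mpr ⟨g, hg⟩

end Cfsg.Agent.Helper34.BSQ8GT
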