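import Mathlib
import Cfsg.Agent.Lib.Helper17.S4017Defs
import Cfsg.Agent.Lib.Helper17.S4017FDefs

/-!
S4017F (SUB) for helper17's lemma server (row S4017): the inductive hypotheses `Hyp p q G` pass to a
subgroup of order divisible by `p` and `q`.
-/

set_option autoImplicit false

namespace Cfsg.Agent.Helper34.S4017F

open Subgroup Cfsg.Agent.Helper17.S4017

universe u

variable {G : Type u} [Group G] [Finite G] {p q : ℕ}

theorem hyp_subgroup (h : Hyp p q G) (H : Subgroup G) (hpH : p ∣ Nat.card H) (hqH : q ∣ Nat.card H) :
    Hyp p q H := by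
  have hq := h.hq
  refine ⟨h.hp, h.hq, h.hpq, h.hp2, hpH, hqH, ?_, ?_⟩
  · intro K hK hKq hqK
    have hcard : Nat.card (K.map H.subtype) = Nat.card K :=
      Subgroup.card_map_of_injective H.subtype_injective
    have hne : K.map H.subtype ≠ ⊤ := by
      intro htop
      apply hK
      rw [eq_top_iff]
      intro x _
      have hx : (x : G) ∈ K.map H.subtype := by rw [htop]; trivial
      obtain ⟨y, hy, hyx⟩ := hx
      have hyx' : y = x := Subtype.ext hyx
      exact hyx' ▸ hy
    have hnq : ¬ IsPGroup q (K.map H.subtype) := by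
      intro hq'
      apply hKq
      exact hq'.of_equiv (K.equivMapOfInjective H.subtype H.subtype_injective).symm
    have h1 := h.hmix _ hne hnq (hcard ▸ hqK)
    rwa [hcard] at h1
  · have hH0 : Nat.card H ≠ 0 := Nat.card_pos.ne'
    have hG0 : Nat.card G ≠ 0 := Nat.card_pos.ne'
    have hba : (Nat.card H).factorization q ≤ (Nat.card G).factorization q :=
      (Nat.factorization_le_iff_dvd hH0 hG0).mpr (Subgroup.card_subgroup_dvd_card H) q
    have hq1 : 1 ≤ q := hq.one_lt.le
    have hmono : q ^ (Nat.card H).factorization q ≤ q ^ (Nat.card G).factorization q :=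
      Nat.pow_le_pow_right hq1 hba
    have hpos : 1 ≤ q ^ (Nat.card H).factorization q := Nat.one_le_pow _ _ hq1
    rcases h.hlarge with h1 | ⟨h1, h2⟩
    · left; omega
    · rcases lt_or_eq_of_le hba with hlt | heq
      · left
        have : q ^ (Nat.card H).factorization q < q ^ (Nat.card G).factorization q :=
          Nat.pow_lt_pow_right hq.one_lt hlt
        omega
      · right
        refine ⟨by rw [heq]; exact h1, ?_⟩
        intro P hP g hg k hk
        have hP' : IsPGroup p (P.map H.subtype) := hP.map _
        have := h2 _ hP' (g : G) ⟨g, hg, rfl⟩ (k : G) ⟨k, hk, rfl⟩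
        exact Subtype.ext this

end Cfsg.Agent.Helper34.S4017F
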