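import Cfsg.Prelude.Def_Local

set_option autoImplicit false
open Cfsg
open scoped commutatorElement

namespace Cfsg.Agent.Helper34

section Quasisimple

variable {L : Type*} [Group L]

/-- A normal subgroup of a quasisimple group is the whole group or central. -/
theorem normal_eq_top_or_le_center (hL : Cfsg.IsQuasisimple L) (M : Subgroup L) [hM : M.Normal] :
    M = ⊤ ∨ M ≤ Subgroup.center L := by
  obtain ⟨hperf, hsimp⟩ := hL
  have hn : (M.map (QuotientGroup.mk' (Subgroup.center L))).Normal :=
    hM.map _ (QuotientGroup.mk'_surjective _)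
  rcases hn.eq_bot_or_eq_top with h | h
  · right
    have := (Subgroup.map_eq_bot_iff _).mp h
    rwa [QuotientGroup.ker_mk'] at this
  · left
    have h2 : M ⊔ Subgroup.center L = ⊤ := by
      have := Subgroup.comap_map_eq (QuotientGroup.mk' (Subgroup.center L)) M
      rw [h, Subgroup.comap_top, QuotientGroup.ker_mk'] at this
      exact this.symm
    have h3 : commutator L ≤ M :=
      Subgroup.Normal.commutator_le_of_self_sup_commutative_eq_top h2 inferInstance
    rw [hperf.commutator_eq_top] at h3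
    exact top_le_iff.mp h3

end Quasisimple

section ComponentNormal

variable {G : Type*} [Group G]

/-- Relative version: if `M ≤ L`, `L` normalizes `M` and `L` is quasisimple then `L ≤ M` or `[L, M] = 1`. -/
theorem le_or_commutator_eq_bot_of_quasisimple (L M : Subgroup G) (hL : Cfsg.IsQuasisimple ↥L)
    (hML : M ≤ L) (hnorm : L ≤ Subgroup.normalizer (M : Set G)) : L ≤ M ∨ ⁅L, M⁆ = ⊥ := by
  have hN : (M.subgroupOf L).Normal := Subgroup.normal_subgroupOf_of_le_normalizer hnorm
  rcases normal_eq_top_or_le_center hL (M.subgroupOf L) with h | h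
  · left
    exact Subgroup.subgroupOf_eq_top.mp h
  · right
    rw [Subgroup.commutator_eq_bot_iff_le_centralizer]
    intro l hl m hm
    have h1 : (⟨m, hML hm⟩ : L) ∈ Subgroup.center ↥L := h (Subgroup.mem_subgroupOf.mpr hm)
    have h2 := Subgroup.mem_center_iff.mp h1 ⟨l, hl⟩
    have h3 := congrArg Subtype.val h2
    simpa using h3.symm

/-- A subnormal quasisimple subgroup `L` and a normal subgroup `N`: either `L ≤ N` or `[L, N] = 1`. -/
theorem component_le_or_commutator_eq_bot (L N : Subgroup G) (hL : Cfsg.IsComponent L) [hN : N.Normal] :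
    L ≤ N ∨ ⁅L, N⁆ = ⊥ := by
  obtain ⟨hsub, hq⟩ := hL
  obtain ⟨n, f, hmono, hnormal, hf0, hfn⟩ := Subgroup.IsSubnormal.isSubnormal_iff.mp hsub
  have hperf : ⁅L, L⁆ = L := Subgroup.isPerfect_iff.mp hq.1
  have key : ∀ i : ℕ, ∀ M : Subgroup G, M ≤ f i → f i ≤ Subgroup.normalizer (M : Set G) →
      L ≤ M ∨ ⁅L, M⁆ = ⊥ := by
    intro i
    induction i with
    | zero =>
      intro M hM hn
      rw [hf0] at hM hn
      exact le_or_commutator_eq_bot_of_quasisimple L M hq hM hn
    | succ i ih =>
      intro M hM hn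
      have hLi : L ≤ f i := hf0 ▸ hmono (Nat.zero_le i)
      have hle : f i ≤ f (i + 1) := hmono (Nat.le_succ i)
      have hni : f (i + 1) ≤ Subgroup.normalizer ((f i : Subgroup G) : Set G) :=
        (Subgroup.normal_subgroupOf_iff_le_normalizer hle).mp (hnormal i)
      have h1 : f i ≤ Subgroup.normalizer ((M ⊓ f i : Subgroup G) : Set G) := by
        intro x hx
        have hxM : x ∈ Subgroup.normalizer (M : Set G) := hn (hle hx)
        rw [Subgroup.mem_normalizer_iff] at hxM ⊢
        intro y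
        rw [Subgroup.mem_inf, Subgroup.mem_inf, ← hxM y]
        constructor
        · rintro ⟨h1, h2⟩
          exact ⟨h1, (f i).mul_mem ((f i).mul_mem hx h2) ((f i).inv_mem hx)⟩
        · rintro ⟨h1, h2⟩
          refine ⟨h1, ?_⟩
          have : y = x⁻¹ * (x * y * x⁻¹) * x := by group
          rw [this]
          exact (f i).mul_mem ((f i).mul_mem ((f i).inv_mem hx) h2) hx
      rcases ih (M ⊓ f i) inf_le_right h1 with h | h
      · exact Or.inl (h.trans inf_le_left)
      · right
        have h2 : ⁅M, L⁆ ≤ M ⊓ f i := by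
          rw [Subgroup.commutator_le]
          intro m hm l hl
          have hl' : l ∈ f i := hLi hl
          refine Subgroup.mem_inf.mpr ⟨?_, ?_⟩
          · -- ⁅m, l⁆ = m * (l * m⁻¹ * l⁻¹)
            have hlM := (Subgroup.mem_normalizer_iff.mp (hn (hle hl'))) m⁻¹
            have : ⁅m, l⁆ = m * (l * m⁻¹ * l⁻¹) := by
              simp [commutatorElement_def, mul_assoc]
            rw [this]
            exact M.mul_mem hm (hlM.mp (M.inv_mem hm))
          · have hmN := (Subgroup.mem_normalizer_iff.mp (hni (hM hm))) l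
            have : ⁅m, l⁆ = (m * l * m⁻¹) * l⁻¹ := by
              simp [commutatorElement_def, mul_assoc]
            rw [this]
            exact (f i).mul_mem (hmN.mp hl') ((f i).inv_mem hl')
        have h3 : ⁅⁅M, L⁆, L⁆ = ⊥ := by
          rw [eq_bot_iff]
          calc ⁅⁅M, L⁆, L⁆ ≤ ⁅M ⊓ f i, L⁆ := Subgroup.commutator_mono h2 le_rfl
            _ = ⁅L, M ⊓ f i⁆ := Subgroup.commutator_comm _ _
            _ = ⊥ := h
        have h4 : ⁅⁅L, M⁆, L⁆ = ⊥ := by rwa [Subgroup.commutator_comm L M]
        have h5 := Subgroup.commutator_commutator_eq_bot_of_rotate h4 h3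
        rwa [hperf] at h5
  have := key n N (hfn ▸ le_top) (by rw [Subgroup.normalizer_eq_top]; exact le_top)
  exact this

end ComponentNormal

section PComponent

variable {X : Type*} [Group X]

/-- The quotient group image of a quasisimple group is nontrivial. -/
theorem IsQuasisimple_nontrivial {L : Type*} [Group L] (hL : Cfsg.IsQuasisimple L) : Nontrivial L := by
  have := hL.2
  have h : Nontrivial (L ⧸ Subgroup.center L) := IsSimpleGroup.toNontrivial
  exact (QuotientGroup.mk'_surjective (Subgroup.center L)).nontrivial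

/-- A `p`-component is perfect. -/
theorem IsPComponent.commutator_eq_self {p : ℕ} {K : Subgroup X} (hK : Cfsg.IsPComponent p K) :
    ⁅K, K⁆ = K := by
  obtain ⟨hsub, ⟨_, hq⟩, hmin⟩ := hK
  have h1 : (⁅K, K⁆ : Subgroup X).IsSubnormal := by
    rw [← Subgroup.map_subtype_commutator]
    exact (Subgroup.Normal.isSubnormal inferInstance).trans' hsub
  apply hmin _ h1 (Subgroup.commutator_le_self K)
  rw [Subgroup.map_commutator]
  exact Subgroup.isPerfect_iff.mp hq.1

/-- A `p`-component centralizing `O_{p'}(X)` is quasisimple. -/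
theorem IsPComponent.isQuasisimple_of_commutator_eq_bot {p : ℕ} {K : Subgroup X}
    (hK : Cfsg.IsPComponent p K) (hc : ⁅K, Cfsg.pPrimeCore p X⁆ = ⊥) : Cfsg.IsQuasisimple ↥K := by
  have hperf : ⁅K, K⁆ = K := IsPComponent.commutator_eq_self hK
  obtain ⟨hsub, ⟨_, hq⟩, hmin⟩ := hK
  set O := Cfsg.pPrimeCore p X with hO
  set π := QuotientGroup.mk' O with hπ
  set Kb : Subgroup (X ⧸ O) := K.map π with hKb
  -- the centralizer of `K̄` pulled back to `K`
  set Z1 : Subgroup X := K ⊓ (Subgroup.centralizer (Kb : Set (X ⧸ O))).comap π with hZ1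
  have hZ1K : ⁅Z1, K⁆ ≤ K ⊓ O := by
    rw [Subgroup.commutator_le]
    intro z hz k hk
    refine Subgroup.mem_inf.mpr ⟨?_, ?_⟩
    · exact K.mul_mem (K.mul_mem (K.mul_mem hz.1 hk) (K.inv_mem hz.1)) (K.inv_mem hk)
    · rw [← QuotientGroup.ker_mk' O, MonoidHom.mem_ker, map_commutatorElement,
        commutatorElement_eq_one_iff_mul_comm]
      have h2 : π z ∈ Subgroup.centralizer (Kb : Set (X ⧸ O)) := hz.2
      exact (Subgroup.mem_centralizer_iff.mp h2 (π k) (Subgroup.mem_map_of_mem _ hk)).symm
  have h3 : ⁅⁅Z1, K⁆, K⁆ = ⊥ := by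
    rw [eq_bot_iff]
    calc ⁅⁅Z1, K⁆, K⁆ ≤ ⁅K ⊓ O, K⁆ := Subgroup.commutator_mono hZ1K le_rfl
      _ ≤ ⁅O, K⁆ := Subgroup.commutator_mono inf_le_right le_rfl
      _ = ⁅K, O⁆ := Subgroup.commutator_comm _ _
      _ = ⊥ := hc
  have h4 : ⁅⁅K, Z1⁆, K⁆ = ⊥ := by rwa [Subgroup.commutator_comm K Z1]
  have h5 : ⁅K, Z1⁆ = ⊥ := by
    have := Subgroup.commutator_commutator_eq_bot_of_rotate h4 h3
    rwa [hperf] at this
  have h6 : K ≤ Subgroup.centralizer (Z1 : Set X) :=
    Subgroup.commutator_eq_bot_iff_le_centralizer.mp h5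
  refine ⟨Subgroup.isPerfect_iff.mpr hperf, ?_⟩
  -- the simple quotient
  let φ : ↥K →* ↥Kb := π.subgroupMap K
  have hφ : Function.Surjective φ := π.subgroupMap_surjective K
  let ψ : ↥K →* ↥Kb ⧸ Subgroup.center ↥Kb := (QuotientGroup.mk' (Subgroup.center ↥Kb)).comp φ
  have hψ : Function.Surjective ψ := (QuotientGroup.mk'_surjective _).comp hφ
  have hker : Subgroup.center ↥K = ψ.ker := by
    ext z
    rw [MonoidHom.mem_ker]
    show _ ↔ (QuotientGroup.mk' (Subgroup.center ↥Kb)) (φ z) = 1
    rw [QuotientGroup.mk'_apply, QuotientGroup.eq_one_iff]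
    constructor
    · intro hz
      rw [Subgroup.mem_center_iff]
      intro y
      obtain ⟨k, rfl⟩ := hφ y
      rw [← map_mul, ← map_mul, Subgroup.mem_center_iff.mp hz k]
    · intro hz
      have hzZ1 : (z : X) ∈ Z1 := by
        refine Subgroup.mem_inf.mpr ⟨z.2, ?_⟩
        rw [Subgroup.mem_comap, Subgroup.mem_centralizer_iff]
        intro y hy
        have := Subgroup.mem_center_iff.mp hz ⟨y, hy⟩
        exact congrArg Subtype.val this
      rw [Subgroup.mem_center_iff]
      intro k
      have := Subgroup.mem_centralizer_iff.mp (h6 k.2) z hzZ1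
      exact Subtype.ext this.symm
  have hs : IsSimpleGroup (↥Kb ⧸ Subgroup.center ↥Kb) := hq.2
  exact ((QuotientGroup.quotientMulEquivOfEq hker).trans
    (QuotientGroup.quotientKerEquivOfSurjective ψ hψ)).isSimpleGroup

/-- A `p`-component that is a component centralizes `O_{p'}(X)`. -/
theorem IsPComponent.commutator_eq_bot_of_isComponent {p : ℕ} {K : Subgroup X}
    (hK : Cfsg.IsPComponent p K) (hc : Cfsg.IsComponent K) : ⁅K, Cfsg.pPrimeCore p X⁆ = ⊥ := by
  rcases component_le_or_commutator_eq_bot K (Cfsg.pPrimeCore p X) hc with h | h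
  · exfalso
    have hq := hK.2.1.2
    have hbot : K.map (QuotientGroup.mk' (Cfsg.pPrimeCore p X)) = ⊥ := by
      rw [Subgroup.map_eq_bot_iff, QuotientGroup.ker_mk']
      exact h
    have hnt := IsQuasisimple_nontrivial hq
    rw [hbot] at hnt
    exact not_subsingleton _ (inferInstance : Subsingleton (⊥ : Subgroup (X ⧸ Cfsg.pPrimeCore p X)))
  · exact h

end PComponent

end Cfsg.Agent.Helper34
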