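import Cfsg.Agent.Lib.Helper34.PComponents
import Mathlib.GroupTheory.Perm.Cycle.Type

set_option autoImplicit false
open Cfsg
open scoped commutatorElement

namespace Cfsg.Agent.Helper34

section FixedPoint

variable {X : Type*} [Group X]

/-- Coprime action on a coset: if `y` is a `p`-element normalizing the finite `p'`-subgroup `O` and the coset
`k O` is `y`-invariant, then `k O` contains an element centralized by `y`. -/
theorem exists_fixed_in_coset {p : ℕ} [hp : Fact p.Prime] (O : Subgroup X) [Finite O]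
    (hO : ¬ p ∣ Nat.card O) {y k : X} {n : ℕ} (hy : y ^ p ^ n = 1)
    (hyO : y ∈ Subgroup.normalizer (O : Set X)) (hk : k⁻¹ * y * k * y⁻¹ ∈ O) :
    ∃ o ∈ O, y * (k * o) * y⁻¹ = k * o := by
  classical
  have hyO' : ∀ o : X, o ∈ O ↔ y * o * y⁻¹ ∈ O := fun o => Subgroup.mem_normalizer_iff.mp hyO o
  have hyO'' : ∀ o : X, o ∈ O → y⁻¹ * o * y ∈ O := by
    intro o ho
    rw [hyO']
    have : y * (y⁻¹ * o * y) * y⁻¹ = o := by group
    rw [this]; exact ho
  have hf : ∀ o : O, k⁻¹ * y * (k * o) * y⁻¹ ∈ O := by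
    intro o
    have : k⁻¹ * y * (k * o) * y⁻¹ = (k⁻¹ * y * k * y⁻¹) * (y * o * y⁻¹) := by group
    rw [this]
    exact O.mul_mem hk ((hyO' o).mp o.2)
  have hg : ∀ o : O, k⁻¹ * y⁻¹ * (k * o) * y ∈ O := by
    intro o
    have : k⁻¹ * y⁻¹ * (k * o) * y = (y⁻¹ * (k⁻¹ * y * k * y⁻¹)⁻¹ * y) * (y⁻¹ * o * y) := by group
    rw [this]
    exact O.mul_mem (hyO'' _ (O.inv_mem hk)) (hyO'' _ o.2)
  let σ : Equiv.Perm O :=
    { toFun := fun o => ⟨k⁻¹ * y * (k * o) * y⁻¹, hf o⟩
      invFun := fun o => ⟨k⁻¹ * y⁻¹ * (k * o) * y, hg o⟩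
      left_inv := by
        intro o
        apply Subtype.ext
        simp only
        group
      right_inv := by
        intro o
        apply Subtype.ext
        simp only
        group }
  have hσpow : ∀ (m : ℕ) (o : O), (((σ ^ m) o : O) : X) = k⁻¹ * y ^ m * (k * o) * (y ^ m)⁻¹ := by
    intro m
    induction m with
    | zero => intro o; simp
    | succ m ih =>
      intro o
      rw [pow_succ', Equiv.Perm.mul_apply]
      show k⁻¹ * y * (k * ((σ ^ m) o : O)) * y⁻¹ = _
      rw [ih o, pow_succ']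
      group
  have hσ : σ ^ p ^ n = 1 := by
    ext o
    rw [hσpow, hy]
    simp
  haveI : Fintype O := Fintype.ofFinite O
  have hcard : ¬ p ∣ Fintype.card O := by rwa [← Nat.card_eq_fintype_card]
  obtain ⟨o, ho⟩ := Equiv.Perm.exists_fixed_point_of_prime hcard hσ
  refine ⟨o, o.2, ?_⟩
  have h1 : k⁻¹ * y * (k * o) * y⁻¹ = (o : X) := congrArg Subtype.val ho
  calc y * (k * o) * y⁻¹ = k * (k⁻¹ * y * (k * o) * y⁻¹) := by group
    _ = k * o := by rw [h1]

end FixedPoint

section QuasisimpleQuotient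

/-- A nontrivial homomorphic image of a quasisimple group is quasisimple. -/
theorem isQuasisimple_of_surjective {Q R : Type*} [Group Q] [Group R] [Nontrivial R]
    (hQ : Cfsg.IsQuasisimple Q) (χ : Q →* R) (hχ : Function.Surjective χ) : Cfsg.IsQuasisimple R := by
  have := hQ.1
  have hperf : Group.IsPerfect R := Group.IsPerfect.ofSurjective hχ
  refine ⟨hperf, ?_⟩
  let ψ : Q →* R ⧸ Subgroup.center R := (QuotientGroup.mk' (Subgroup.center R)).comp χ
  have hψ : Function.Surjective ψ := (QuotientGroup.mk'_surjective _).comp hχ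
  have hcle : Subgroup.center Q ≤ ψ.ker := by
    intro q hq
    rw [MonoidHom.mem_ker]
    show (QuotientGroup.mk' (Subgroup.center R)) (χ q) = 1
    rw [QuotientGroup.mk'_apply, QuotientGroup.eq_one_iff, Subgroup.mem_center_iff]
    intro r
    obtain ⟨q', rfl⟩ := hχ r
    rw [← map_mul, ← map_mul, Subgroup.mem_center_iff.mp hq q']
  rcases normal_eq_top_or_le_center hQ ψ.ker with h | h
  · exfalso
    have hc : Subgroup.center R = ⊤ := by
      rw [eq_top_iff]
      intro r _
      obtain ⟨q, rfl⟩ := hχ r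
      have : q ∈ ψ.ker := h ▸ Subgroup.mem_top q
      rw [MonoidHom.mem_ker] at this
      have h2 : (QuotientGroup.mk' (Subgroup.center R)) (χ q) = 1 := this
      rwa [QuotientGroup.mk'_apply, QuotientGroup.eq_one_iff] at h2
    have h3 : commutator R = ⊥ := (commutator_eq_bot_iff_center_eq_top R).mpr hc
    rw [hperf.commutator_eq_top] at h3
    have : Subsingleton R := by
      refine ⟨fun a b => ?_⟩
      have ha : a ∈ (⊤ : Subgroup R) := Subgroup.mem_top a
      have hb : b ∈ (⊤ : Subgroup R) := Subgroup.mem_top b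
      rw [h3, Subgroup.mem_bot] at ha hb
      rw [ha, hb]
    exact not_subsingleton R this
  · have hker : Subgroup.center Q = ψ.ker := le_antisymm hcle h
    have hs : IsSimpleGroup (Q ⧸ Subgroup.center Q) := hQ.2
    exact ((QuotientGroup.quotientMulEquivOfEq hker).trans
      (QuotientGroup.quotientKerEquivOfSurjective ψ hψ)).symm.isSimpleGroup

end QuasisimpleQuotient

section PComponentGroup

variable {X : Type*} [Group X]

/-- For a `p`-component `K` of a finite group, `K / O_{p'}(K)` is quasisimple. -/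
theorem IsPComponent.isQuasisimple_quotient [Finite X] {p : ℕ} {K : Subgroup X}
    (hK : Cfsg.IsPComponent p K) : Cfsg.IsQuasisimple (↥K ⧸ Cfsg.pPrimeCore p ↥K) := by
  have hself : Cfsg.IsPComponent p (⊤ : Subgroup ↥K) :=
    IsPComponent.top_of_range_eq hK K.subtype K.subtype_injective K.range_subtype
  have h1 := hself.2.1.2
  rw [Subgroup.map_top_of_surjective _ (QuotientGroup.mk'_surjective _)] at h1
  exact isQuasisimple_of_mulEquiv Subgroup.topEquiv.symm h1

/-- If `G / O_{p'}(G)` is nontrivial (finite `G`), then `p` divides its order. -/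
theorem dvd_card_quotient_pPrimeCore {T : Type*} [Group T] [Finite T] {p : ℕ} [hp : Fact p.Prime]
    [Nontrivial (T ⧸ Cfsg.pPrimeCore p T)] : p ∣ Nat.card (T ⧸ Cfsg.pPrimeCore p T) := by
  by_contra hnd
  have hc : (Nat.card (T ⧸ Cfsg.pPrimeCore p T)).Coprime p :=
    ((Nat.Prime.coprime_iff_not_dvd hp.out).mpr hnd).symm
  have hcard : Nat.card (⊤ : Subgroup T) = Nat.card (Cfsg.pPrimeCore p T) *
      Nat.card (T ⧸ Cfsg.pPrimeCore p T) := by
    rw [Subgroup.card_top, ← Subgroup.index_eq_card, Subgroup.card_mul_index]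
  have htop : (⊤ : Subgroup T) ≤ Cfsg.pPrimeCore p T := by
    apply le_pPrimeCore inferInstance
    rw [hcard]
    exact Nat.Coprime.mul_left (card_pPrimeCore_coprime p) hc
  have : Subsingleton (T ⧸ Cfsg.pPrimeCore p T) := by
    rw [top_le_iff] at htop
    rw [htop]
    exact QuotientGroup.subsingleton_quotient_top
  exact not_subsingleton _ this

/-- If `T / O_{p'}(T)` is quasisimple then `T` has a `p`-component covering it. -/
theorem exists_isPComponent_of_quasisimple_quotient {T : Type*} [Group T] [Finite T] {p : ℕ}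
    (hR : Cfsg.IsQuasisimple (T ⧸ Cfsg.pPrimeCore p T)) :
    ∃ L : Subgroup T, Cfsg.IsPComponent p L ∧
      L.map (QuotientGroup.mk' (Cfsg.pPrimeCore p T)) = ⊤ := by
  classical
  set OT := Cfsg.pPrimeCore p T with hOT
  set S : Set (Subgroup T) := {L | L.IsSubnormal ∧ L.map (QuotientGroup.mk' OT) = ⊤} with hS
  have hne : S.Nonempty :=
    ⟨⊤, Subgroup.IsSubnormal.top, Subgroup.map_top_of_surjective _ (QuotientGroup.mk'_surjective OT)⟩
  obtain ⟨L, hL, hmin⟩ := Set.exists_min_image S (fun L => Nat.card L) (Set.toFinite S) hne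
  refine ⟨L, ⟨hL.1, ?_, ?_⟩, hL.2⟩
  · rw [hL.2]
    exact ⟨Subgroup.IsSubnormal.top, isQuasisimple_of_mulEquiv Subgroup.topEquiv hR⟩
  · intro H hH hHL hmap
    have hHS : H ∈ S := ⟨hH, hmap.trans hL.2⟩
    exact Subgroup.eq_of_le_of_card_ge hHL (hmin H hHS)

end PComponentGroup

end Cfsg.Agent.Helper34
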