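import Mathlib
import Cfsg.Agent.Lib.Helper93.U20

/-!
# U2 project (S2335), piece C1: `hb`, `hq` under congruence (helper93's lemma server)
-/

set_option autoImplicit false
set_option linter.unusedSectionVars false
set_option linter.unusedVariables false

namespace Cfsg.Agent.Helper34.U2

open Matrix Cfsg.Agent.Helper13 Cfsg.Agent.Helper93.U2

section CNT

variable {F : Type*} [Field F] [Fintype F] {q : ℕ} (hF : Fintype.card F = q ^ 2) {m : ℕ}

/-- `(x^q) ᵥ* t* = (t x)^q` -/
theorem h34_frob_vecMul_cT (t : Matrix (Fin m) (Fin m) F) (x : Fin m → F) :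
    (fun i => (x i) ^ q) ᵥ* cT hF t = fun j => ((t *ᵥ x) j) ^ q := by
  funext j
  have h1 : ((t *ᵥ x) j) ^ q = frobQ hF ((t *ᵥ x) j) := rfl
  rw [h1]
  simp only [vecMul, mulVec, dotProduct, cT_apply, map_sum, map_mul, frobQ_apply]
  apply Finset.sum_congr rfl
  intro i _
  ring

/-- piece C1 (1) -/
theorem hb_cong (t H : Matrix (Fin m) (Fin m) F) (x y : Fin m → F) :
    hb q (cT hF t * H * t) x y = hb q H (t *ᵥ x) (t *ᵥ y) := by
  unfold hb
  rw [← Matrix.mulVec_mulVec, ← Matrix.mulVec_mulVec, Matrix.dotProduct_mulVec,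
    h34_frob_vecMul_cT hF]

/-- piece C1 (2) -/
theorem hq_cong (t H : Matrix (Fin m) (Fin m) F) (x : Fin m → F) :
    hq q (cT hF t * H * t) x = hq q H (t *ᵥ x) :=
  hb_cong hF t H x x

end CNT

end Cfsg.Agent.Helper34.U2
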