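import Mathlib
import Cfsg.Agent.Lib.Helper93.U20

/-!
# U2 project (S2335), piece C4: any nonzero vector is moved to any other by two transvections
(helper93's lemma server)
-/

set_option autoImplicit false
set_option linter.unusedSectionVars false
set_option linter.unusedVariables false

namespace Cfsg.Agent.Helper34.U2

open Matrix Cfsg.Agent.Helper13 Cfsg.Agent.Helper93.U2

section CNT

variable {F : Type*} [Field F] [Fintype F] {q : ℕ} (hF : Fintype.card F = q ^ 2) {m : ℕ}

theorem h34_vecMulVec_mulVec (u φ v : Fin m → F) :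
    (vecMulVec u φ) *ᵥ v = (φ ⬝ᵥ v) • u := by
  funext a
  simp only [mulVec, vecMulVec_apply, dotProduct, Pi.smul_apply, smul_eq_mul,
    Finset.sum_mul]
  apply Finset.sum_congr rfl
  intro k _
  ring

theorem h34_vecMulVec_sq (u φ : Fin m → F) (h : φ ⬝ᵥ u = 0) :
    vecMulVec u φ * vecMulVec u φ = 0 := by
  ext a b
  rw [Matrix.mul_apply]
  simp only [vecMulVec_apply, Matrix.zero_apply]
  have : ∑ k, u a * φ k * (u k * φ b) = u a * φ b * (φ ⬝ᵥ u) := by
    simp only [dotProduct, Finset.mul_sum]
    apply Finset.sum_congr rfl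
    intro k _
    ring
  rw [this, h, mul_zero]

/-- one transvection moves `x` to `y` when some `2 × 2` minor of `(x, y)` is nonzero -/
theorem h34_transv (x y : Fin m → F) (i j : Fin m) (hD : x i * y j - x j * y i ≠ 0) :
    ∃ E : Matrix (Fin m) (Fin m) F, E * E = 0 ∧ (1 + E) *ᵥ x = y := by
  classical
  set D := x i * y j - x j * y i with hDdef
  have hij : i ≠ j := by
    rintro rfl
    apply hD
    rw [hDdef]
    ring
  set φ : Fin m → F := Pi.single i ((y j - x j) / D) + Pi.single j ((x i - y i) / D) with hφ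
  have hφv : ∀ v : Fin m → F, φ ⬝ᵥ v = (y j - x j) / D * v i + (x i - y i) / D * v j := by
    intro v
    rw [hφ, add_dotProduct, single_dotProduct, single_dotProduct]
  have hφx : φ ⬝ᵥ x = 1 := by
    rw [hφv]
    field_simp
    rw [hDdef]
    ring
  have hφy : φ ⬝ᵥ y = 1 := by
    rw [hφv]
    field_simp
    rw [hDdef]
    ring
  refine ⟨vecMulVec (y - x) φ, h34_vecMulVec_sq _ _ ?_, ?_⟩
  · rw [dotProduct_sub, hφx, hφy, sub_self]
  · rw [Matrix.add_mulVec, Matrix.one_mulVec, h34_vecMulVec_mulVec, hφx, one_smul]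
    abel

/-- piece C4 -/
theorem exists_transvections (hm : 2 ≤ m) (x y : Fin m → F) (hx : x ≠ 0) (hy : y ≠ 0) :
    ∃ E₁ E₂ : Matrix (Fin m) (Fin m) F, E₁ * E₁ = 0 ∧ E₂ * E₂ = 0 ∧
      (1 + E₂) *ᵥ ((1 + E₁) *ᵥ x) = y := by
  classical
  by_cases hminor : ∃ i j, x i * y j - x j * y i ≠ 0
  · obtain ⟨i, j, hD⟩ := hminor
    obtain ⟨E, hE, hEx⟩ := h34_transv x y i j hD
    refine ⟨0, E, by simp, hE, ?_⟩
    rw [add_zero, Matrix.one_mulVec, hEx]
  · push Not at hminor
    obtain ⟨i, hi⟩ : ∃ i, x i ≠ 0 := by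
      by_contra hcon
      push Not at hcon
      exact hx (funext hcon)
    -- `y = c • x`
    set c := y i / x i with hc
    have hyc : ∀ j, y j = c * x j := by
      intro j
      have := hminor i j
      rw [hc]
      field_simp
      linear_combination this
    have hc0 : c ≠ 0 := by
      intro h0
      apply hy
      funext j
      rw [hyc j, h0, zero_mul]
      rfl
    -- a second index
    obtain ⟨k, hk⟩ : ∃ k : Fin m, k ≠ i := by
      by_contra hcon
      push Not at hcon
      have : Fintype.card (Fin m) ≤ 1 := Fintype.card_le_one_iff.2 (fun a b => (hcon a).trans (hcon b).symm)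
      rw [Fintype.card_fin] at this
      omega
    set z : Fin m → F := x + Pi.single k 1 with hz
    have hzi : z i = x i := by
      rw [hz, Pi.add_apply, Pi.single_eq_of_ne hk.symm, add_zero]
    have hzk : z k = x k + 1 := by
      rw [hz, Pi.add_apply, Pi.single_eq_same]
    obtain ⟨E₁, hE₁, hE₁x⟩ := h34_transv x z i k (by
      rw [hzi, hzk]
      intro h0
      apply hi
      linear_combination h0)
    obtain ⟨E₂, hE₂, hE₂z⟩ := h34_transv z y i k (by
      rw [hzi, hzk, hyc k, hyc i]
      intro h0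
      apply hi
      have h1 : c * x i = 0 := by linear_combination -h0
      rcases mul_eq_zero.1 h1 with h2 | h2
      · exact absurd h2 hc0
      · exact h2)
    exact ⟨E₁, E₂, hE₁, hE₂, by rw [hE₁x, hE₂z]⟩

end CNT

end Cfsg.Agent.Helper34.U2
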