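import Mathlib
import Cfsg.Agent.Lib.Helper93.U20

/-!
# U2 project (S2335), piece C0: the kernel of a nonzero functional on `F^m` has `|F|^(m-1)` elements
(helper93's lemma server)
-/

set_option autoImplicit false
set_option linter.unusedSectionVars false
set_option linter.unusedVariables false

namespace Cfsg.Agent.Helper34.U2

open Matrix Cfsg.Agent.Helper13 Cfsg.Agent.Helper93.U2

section CNT

variable {F : Type*} [Field F] [Fintype F] {q : ℕ} (hF : Fintype.card F = q ^ 2) {m : ℕ}

/-- the functional `φ ↦ φ ⬝ᵥ x₀` -/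
def h34_dotL (x₀ : Fin m → F) : (Fin m → F) →ₗ[F] F where
  toFun φ := φ ⬝ᵥ x₀
  map_add' φ ψ := add_dotProduct φ ψ x₀
  map_smul' c φ := smul_dotProduct c φ x₀

include hF in
/-- piece C0; NOTE: needs `hF`, which the stub omitted -/
theorem ncard_dot_eq_zero (x₀ : Fin m → F) (hx₀ : x₀ ≠ 0) :
    {φ : Fin m → F | φ ⬝ᵥ x₀ = 0}.ncard = q ^ (2 * (m - 1)) := by
  classical
  have hset : {φ : Fin m → F | φ ⬝ᵥ x₀ = 0} = (LinearMap.ker (h34_dotL x₀) : Set (Fin m → F)) := by
    ext φ
    simp [h34_dotL]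
  -- the functional is surjective
  obtain ⟨i, hi⟩ : ∃ i, x₀ i ≠ 0 := by
    by_contra hcon
    push Not at hcon
    exact hx₀ (funext hcon)
  have hsurj : LinearMap.range (h34_dotL x₀) = ⊤ := by
    rw [LinearMap.range_eq_top]
    intro c
    refine ⟨Pi.single i (c / x₀ i), ?_⟩
    change Pi.single i (c / x₀ i) ⬝ᵥ x₀ = c
    rw [single_dotProduct]
    field_simp
  have hrk := LinearMap.finrank_range_add_finrank_ker (h34_dotL x₀)
  rw [hsurj, finrank_top, Module.finrank_self, Module.finrank_fin_fun] at hrk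
  have hker : Module.finrank F (LinearMap.ker (h34_dotL x₀)) = m - 1 := by omega
  have hcard : Nat.card (LinearMap.ker (h34_dotL x₀)) = Nat.card F ^ (m - 1) := by
    rw [← hker]
    exact Module.natCard_eq_pow_finrank
  rw [hset, ← _root_.Nat.card_coe_set_eq]
  change Nat.card ↥(LinearMap.ker (h34_dotL x₀)) = q ^ (2 * (m - 1))
  rw [hcard, Nat.card_eq_fintype_card, hF, ← pow_mul]

end CNT

end Cfsg.Agent.Helper34.U2
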