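import Mathlib
import Cfsg.Agent.Lib.Helper93.U20

/-!
# U2 project (S2335), piece C2: sesquilinearity of `hb` (helper93's lemma server)
-/

set_option autoImplicit false
set_option linter.unusedSectionVars false
set_option linter.unusedVariables false

namespace Cfsg.Agent.Helper34.U2

open Matrix Cfsg.Agent.Helper13 Cfsg.Agent.Helper93.U2

section CNT

variable {F : Type*} [Field F] [Fintype F] {q : ℕ} (hF : Fintype.card F = q ^ 2) {m : ℕ}

/-- piece C2 (1) -/
theorem hb_conj (H : Matrix (Fin m) (Fin m) F) (hH : cT hF H = H) (x y : Fin m → F) :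
    (hb q H x y) ^ q = hb q H y x := by
  have h1 : (hb q H x y) ^ q = frobQ hF (hb q H x y) := rfl
  rw [h1]
  unfold hb
  simp only [dotProduct, mulVec, map_sum, map_mul, frobQ_apply, frob_frob hF]
  have h2 : ∀ i j, H j i = (H i j) ^ q := by
    intro i j
    conv_lhs => rw [← hH]
    rfl
  simp only [Finset.mul_sum]
  rw [Finset.sum_comm]
  apply Finset.sum_congr rfl
  intro j _
  apply Finset.sum_congr rfl
  intro i _
  rw [h2 i j]
  ring

/-- piece C2 (2) -/
theorem hb_add_right (H : Matrix (Fin m) (Fin m) F) (x y z : Fin m → F) :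
    hb q H x (y + z) = hb q H x y + hb q H x z := by
  unfold hb
  rw [Matrix.mulVec_add, dotProduct_add]

/-- piece C2 (3) -/
theorem hb_smul_right (H : Matrix (Fin m) (Fin m) F) (c : F) (x y : Fin m → F) :
    hb q H x (c • y) = c * hb q H x y := by
  unfold hb
  rw [Matrix.mulVec_smul, dotProduct_smul, smul_eq_mul]

include hF in
/-- piece C2 (4); NOTE: needs `hF` (Frobenius additivity), which the stub omitted -/
theorem hb_add_left (H : Matrix (Fin m) (Fin m) F) (x y z : Fin m → F) :
    hb q H (x + y) z = hb q H x z + hb q H y z := by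
  unfold hb
  rw [← add_dotProduct]
  congr 1
  funext i
  exact frob_add hF (x i) (y i)

/-- piece C2 (5) -/
theorem hb_smul_left (H : Matrix (Fin m) (Fin m) F) (c : F) (x y : Fin m → F) :
    hb q H (c • x) y = c ^ q * hb q H x y := by
  unfold hb
  rw [← smul_eq_mul, ← smul_dotProduct]
  congr 1
  funext i
  simp [mul_pow]

end CNT

end Cfsg.Agent.Helper34.U2
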