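import Mathlib
import Cfsg.Prelude.Def_Transfer
import Cfsg.Agent.Lib.Helper24.CYCDefs

/-!
# CYC (R1): the hypotheses of S4016 pass to quotients by normal `p'`-subgroups (helper24's lemma server)
-/

set_option autoImplicit false
set_option linter.unusedSectionVars false

namespace Cfsg.Agent.Helper34.CYC

open Subgroup Cfsg.Agent.Helper24.CYC

universe u

variable {G : Type u} [Group G] [Finite G] {p : ℕ} [Fact p.Prime]

/-- (R1) the hypotheses pass to `G ⧸ M` for a normal `p'`-subgroup `M` -/
theorem hyp_quotient (h : Hyp p G) (M : Subgroup G) [M.Normal] (hM : ¬ p ∣ Nat.card M) : Hyp p (G ⧸ M) := by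
  obtain ⟨hcyc, hab⟩ := h
  have hp : p.Prime := Fact.out
  have hsurj : Function.Surjective (QuotientGroup.mk' M) := QuotientGroup.mk'_surjective M
  refine ⟨fun Q => ?_, fun K hK => ?_⟩
  · obtain ⟨P, rfl⟩ := Sylow.mapSurjective_surjective hsurj p Q
    have := hcyc P
    change IsCyclic ↥((P : Subgroup G).map (QuotientGroup.mk' M))
    exact isCyclic_of_surjective ((QuotientGroup.mk' M).subgroupMap (P : Subgroup G))
      ((QuotientGroup.mk' M).subgroupMap_surjective (P : Subgroup G))
  · -- the preimage of `K` is a `p'`-group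
    set L : Subgroup G := K.comap (QuotientGroup.mk' M) with hL
    have hLp : ¬ p ∣ Nat.card ↥L := by
      intro hdvd
      obtain ⟨x, hx⟩ := exists_prime_orderOf_dvd_card' p hdvd
      have hxG : orderOf (x : G) = p := by rw [Subgroup.orderOf_coe]; exact hx
      have hxK : (QuotientGroup.mk' M) (x : G) ∈ K := x.2
      have hd : orderOf ((QuotientGroup.mk' M) (x : G)) ∣ p := hxG ▸ orderOf_map_dvd _ _
      rcases (Nat.dvd_prime hp).1 hd with h1 | h1
      · -- `x ∈ M`
        have hxM : (x : G) ∈ M := by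
          have := orderOf_eq_one_iff.1 h1
          exact (QuotientGroup.eq_one_iff _).1 this
        apply hM
        have h2 : orderOf (⟨(x : G), hxM⟩ : ↥M) = p := by
          rw [← Subgroup.orderOf_coe]; exact hxG
        rw [← h2]
        exact orderOf_dvd_natCard _
      · apply hK
        have h2 : orderOf (⟨_, hxK⟩ : ↥K) = p := by
          rw [← Subgroup.orderOf_coe]; exact h1
        rw [← h2]
        exact orderOf_dvd_natCard _
    have hc := hab L hLp
    refine ⟨⟨fun a b => ?_⟩⟩
    obtain ⟨a', ha'⟩ := hsurj (a : G ⧸ M)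
    obtain ⟨b', hb'⟩ := hsurj (b : G ⧸ M)
    have haL : a' ∈ L := by rw [hL, Subgroup.mem_comap, ha']; exact a.2
    have hbL : b' ∈ L := by rw [hL, Subgroup.mem_comap, hb']; exact b.2
    have h1 := hc.is_comm.comm ⟨a', haL⟩ ⟨b', hbL⟩
    have h2 : a' * b' = b' * a' := congrArg (fun z : ↥L => (z : G)) h1
    apply Subtype.ext
    change (a : G ⧸ M) * (b : G ⧸ M) = (b : G ⧸ M) * (a : G ⧸ M)
    rw [← ha', ← hb', ← map_mul, ← map_mul, h2]

end Cfsg.Agent.Helper34.CYC
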