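import Mathlib
import Cfsg.Prelude.Def_Transfer
import Cfsg.Agent.Lib.Helper24.CYCDefs

/-!
# CYC (R2): the conclusion of S4016 for `↥H`, translated into statements inside `G` (helper24's lemma server)
-/

set_option autoImplicit false
set_option linter.unusedSectionVars false

namespace Cfsg.Agent.Helper34.CYC

open Subgroup Cfsg.Agent.Helper24.CYC

universe u

variable {G : Type u} [Group G] [Finite G] {p : ℕ} [Fact p.Prime]

/-- a normal subgroup of `↥H` maps to a subgroup of `G` normalised by `H` -/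
theorem h34_le_nrm_map (H : Subgroup G) (N : Subgroup ↥H) (hN : N.Normal) :
    H ≤ nrm (N.map H.subtype) := by
  have h1 := Subgroup.le_normalizer_map (H := N) H.subtype
  rw [Subgroup.normalizer_eq_top_iff.2 hN, ← MonoidHom.range_eq_map, Subgroup.range_subtype] at h1
  exact h1

/-- (R2) translate the conclusion for the group `↥H` into statements inside `G` -/
theorem pnilp_or_pclosed_of_concl (H : Subgroup G) (h : Concl p H) : PNilp p H ∨ PClosed p H := by
  have hp : p.Prime := Fact.out
  rcases h with ⟨P, N, hN, hc⟩ | hnorm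
  · left
    refine ⟨N.map H.subtype, Subgroup.map_subtype_le N, h34_le_nrm_map H N hN, ?_, ?_⟩
    · rw [Subgroup.card_map_of_injective H.subtype_injective, ← hc.index_eq_card]
      exact P.not_dvd_index
    · intro x hx hxp
      have hidx : N.index = Nat.card ↥(P : Subgroup ↥H) := hc.symm.index_eq_card
      have hcardP := P.card_eq_multiplicity
      have h1 : orderOf (QuotientGroup.mk' N ⟨x, hx⟩) ∣ orderOf (⟨x, hx⟩ : ↥H) :=
        orderOf_map_dvd _ _
      have h2 : orderOf (QuotientGroup.mk' N ⟨x, hx⟩) ∣ Nat.card (↥H ⧸ N) := orderOf_dvd_natCard _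
      have h3 : orderOf (⟨x, hx⟩ : ↥H) = orderOf x := Subgroup.orderOf_mk x hx
      rw [← Subgroup.index_eq_card, hidx, hcardP] at h2
      rw [h3] at h1
      have hcop : (orderOf (QuotientGroup.mk' N ⟨x, hx⟩)).Coprime
          (p ^ (Nat.card ↥H).factorization p) :=
        Nat.Coprime.coprime_dvd_left h1 (Nat.Coprime.pow_right _ hxp)
      have h4 := Nat.Coprime.eq_one_of_dvd hcop h2
      have h5 : QuotientGroup.mk' N ⟨x, hx⟩ = 1 := orderOf_eq_one_iff.1 h4
      have h6 : (⟨x, hx⟩ : ↥H) ∈ N := (QuotientGroup.eq_one_iff _).1 h5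
      exact ⟨⟨x, hx⟩, h6, rfl⟩
  · right
    obtain ⟨P⟩ : Nonempty (Sylow p ↥H) := inferInstance
    have hPn := hnorm P
    refine ⟨(P : Subgroup ↥H).map H.subtype, Subgroup.map_subtype_le _, h34_le_nrm_map H _ hPn,
      P.isPGroup'.map _, ?_⟩
    rintro x hx ⟨n, hn⟩
    have hz : IsPGroup p (Subgroup.zpowers (⟨x, hx⟩ : ↥H)) := by
      apply IsPGroup.of_card (n := n)
      rw [Nat.card_zpowers, Subgroup.orderOf_mk, hn]
    obtain ⟨Q, hQ⟩ := hz.exists_le_sylow
    have huniq := Sylow.unique_of_normal P hPn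
    have hQP : Q = P := Subsingleton.elim _ _
    exact ⟨⟨x, hx⟩, hQP ▸ hQ (Subgroup.mem_zpowers _), rfl⟩

end Cfsg.Agent.Helper34.CYC
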