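import Mathlib
import Cfsg.Prelude.Def_Transfer
import Cfsg.Agent.Lib.Helper24.CYCDefs
import Cfsg.Agent.Lib.Helper34.CYCR2

/-!
# CYC (R5): a proper nontrivial normal subgroup (helper24's lemma server for S4016)
-/

set_option autoImplicit false
set_option linter.unusedSectionVars false
set_option linter.unusedVariables false

namespace Cfsg.Agent.Helper34.CYC

open Subgroup Cfsg.Agent.Helper24.CYC

universe u

variable {G : Type u} [Group G] [Finite G] {p : ℕ} [Fact p.Prime]

theorem h34_orderOf_conj (g t : G) : orderOf (g * t * g⁻¹) = orderOf t := by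
  rw [← MulAut.conj_apply]
  exact (MulAut.conj g).orderOf_eq t

/-- (R5) a proper nontrivial normal subgroup `M` -/
theorem concl_of_normal (h : Hyp p G)
    (ih : ∀ (H : Type u) [Group H] [Finite H], Nat.card H < Nat.card G → Hyp p H → Concl p H)
    (hs : ∀ H : Subgroup G, Hyp p H)
    (h1 : ∀ M : Subgroup G, M.Normal → M ≠ ⊥ → ¬ p ∣ Nat.card M → Concl p G)
    (h2 : ∀ M : Subgroup G, M.Normal → M ≠ ⊥ → IsPGroup p M → Concl p G)
    (M : Subgroup G) [M.Normal] (hM1 : M ≠ ⊥) (hM2 : M ≠ ⊤) : Concl p G := by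
  have hp : p.Prime := Fact.out
  have hMn : M.Normal := inferInstance
  have hlt : Nat.card ↥M < Nat.card G :=
    lt_of_le_of_ne (Subgroup.card_le_card_group M)
      (fun hc => hM2 ((Subgroup.card_eq_iff_eq_top M).1 hc))
  have hcM : Concl p ↥M := ih ↥M hlt (hs M)
  rcases pnilp_or_pclosed_of_concl M hcM with ⟨T, hTM, _, hTp, hT⟩ | ⟨Q, hQM, _, hQp, hQ⟩
  · -- `T` = the `p'`-elements of `M`, normal in `G`
    have hTn : T.Normal := by
      constructor
      intro t ht g
      apply hT _ (hMn.conj_mem t (hTM ht) g)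
      rw [h34_orderOf_conj]
      have hdiv : orderOf t ∣ Nat.card ↥T := by
        rw [← Subgroup.orderOf_mk t ht]
        exact orderOf_dvd_natCard _
      exact Nat.Coprime.symm ((Nat.Prime.coprime_iff_not_dvd hp).2
        (fun hd => hTp (dvd_trans hd hdiv)))
    by_cases hT1 : T = ⊥
    · have hMp : IsPGroup p ↥M := by
        intro x
        obtain ⟨e, m, hm, hom⟩ :=
          Nat.exists_eq_pow_mul_and_not_dvd (orderOf_pos x).ne' p hp.ne_one
        refine ⟨e, ?_⟩
        have hpe : p ^ e ≠ 0 := pow_ne_zero _ hp.ne_zero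
        have ho : orderOf (x ^ p ^ e) = m := by
          rw [orderOf_pow_of_dvd hpe (Dvd.intro _ hom.symm), hom,
            Nat.mul_div_cancel_left _ (Nat.pos_of_ne_zero hpe)]
        have hxT : ((x ^ p ^ e : ↥M) : G) ∈ T := by
          apply hT _ (x ^ p ^ e).2
          rw [Subgroup.orderOf_coe, ho]
          exact Nat.Coprime.symm ((Nat.Prime.coprime_iff_not_dvd hp).2 hm)
        rw [hT1, Subgroup.mem_bot] at hxT
        exact Subtype.ext hxT
      exact h2 M hMn hM1 hMp
    · exact h1 T hTn hT1 hTp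
  · -- `Q` = the `p`-elements of `M`, normal in `G`
    have hQn : Q.Normal := by
      constructor
      intro q hq g
      apply hQ _ (hMn.conj_mem q (hQM hq) g)
      obtain ⟨k, hk⟩ := (IsPGroup.iff_orderOf.1 hQp) ⟨q, hq⟩
      exact ⟨k, by rw [h34_orderOf_conj, ← Subgroup.orderOf_mk q hq, hk]⟩
    by_cases hQ1 : Q = ⊥
    · have hMp : ¬ p ∣ Nat.card ↥M := by
        intro hd
        obtain ⟨x, hx⟩ := exists_prime_orderOf_dvd_card' p hd
        have hxQ : (x : G) ∈ Q := hQ _ x.2 ⟨1, by rw [Subgroup.orderOf_coe, hx, pow_one]⟩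
        rw [hQ1, Subgroup.mem_bot] at hxQ
        have hx1 : x = 1 := Subtype.ext hxQ
        rw [hx1, orderOf_one] at hx
        exact hp.one_lt.ne hx
      exact h1 M hMn hM1 hMp
    · exact h2 Q hQn hQ1 hQp

end Cfsg.Agent.Helper34.CYC
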