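import Mathlib
import Cfsg.Agent.Lib.Helper30.BG144cDefs
import Cfsg.Agent.Lib.Helper60.BG161C2a
import Cfsg.Agent.Lib.Helper25.BGNat2
import Cfsg.Agent.Lib.Helper97.BG144

/-! B-G Theorem 14.4(c) (row S1376), piece (A) `setupA` of helper30's lemma server. -/

set_option autoImplicit false
set_option linter.unusedVariables false
set_option linter.style.haveILetI false
set_option linter.unusedSectionVars false

namespace Cfsg.Agent.Helper34.BG144c

open Cfsg Subgroup
open Cfsg.Agent.Helper30.BG144c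
open Cfsg.Agent.Helper79.BG10 (cj mem_cj conj_mem_cj cj_mono card_cj isPGroup_cj cj_eq_self_of_mem
  cj_eq_self_of_mem_normalizer normalizer_cj)
open Cfsg.Agent.Helper84 (IsSylIn)

universe u

variable {G : Type u} [Group G] [Finite G]

/-- Conjugating a standard factorisation of `N` by an element of `N` gives a standard
factorisation of `N`. -/
theorem isSigmaDecomposition_cj_of_mem {N K U : Subgroup G} (h : IsSigmaDecomposition N K U)
    {n : G} (hn : n ∈ N) : IsSigmaDecomposition N (cj n K) (cj n U) := by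
  have hNN : cj n N = N := cj_eq_self_of_mem hn
  have hσ : cj n (sigmaCore N) = sigmaCore N :=
    cj_eq_self_of_mem_normalizer (Cfsg.Agent.Helper55.BGB.le_normalizer_sigmaCore N hn)
  refine ⟨?_, ⟨?_, ?_, ?_⟩, ?_, ?_⟩
  · haveI := h.cyclic
    exact isCyclic_of_surjective (K.equivMapOfInjective _ (MulAut.conj n).injective)
      (MulEquiv.surjective _)
  · have := cj_mono n h.hall.1
    rwa [hNN] at this
  · intro p hp hpd
    rw [card_cj] at hpd
    exact h.hall.2.1 p hp hpd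
  · intro p hp hpκ hpd
    apply h.hall.2.2 p hp hpκ
    have h1 : (cj n K).relIndex (cj n N) = K.relIndex N :=
      Subgroup.relIndex_map_map_of_injective _ _ (MulAut.conj n).injective
    rw [hNN] at h1
    rwa [← h1]
  · have h1 := Cfsg.Agent.Helper60.BG161.isComplIn_cj h.compl n
    have h2 : cj n (K ⊔ sigmaCore N) = cj n K ⊔ sigmaCore N := by
      show (K ⊔ sigmaCore N).map _ = _
      rw [Subgroup.map_sup]
      show cj n K ⊔ cj n (sigmaCore N) = _
      rw [hσ]
    rw [h2, hNN] at h1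
    exact h1
  · rw [normalizer_cj]
    exact cj_mono n h.normal

/-- (A) setupA. -/
theorem setupA (hG : IsMinSimpleOddOrder G) (r1350 : R1350 G) (r1351 : R1351 G) (r1352 : R1352 G)
    (r1375 : R1375 G) (r1424 : R1424 G)
    (M : Subgroup G) (hM : IsCoatom M) (x : G) (hx : x ∈ sigmaCore M) (hx1 : x ≠ 1)
    (hxM : ¬ centralizer ({x} : Set G) ≤ M) (N : Subgroup G) (hN : IsCoatom N)
    (hxN : centralizer ({x} : Set G) ≤ N) (hkN : (kappa N).Nonempty) :
    ∃ (x0 : G) (q : ℕ) (K U : Subgroup G), SetupA M N x0 q K U := by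
  classical
  haveI : IsSimpleGroup G := hG.2.1
  -- Step 1: the prime q and x0
  have hox : orderOf x ≠ 1 := fun h => hx1 (orderOf_eq_one_iff.mp h)
  obtain ⟨q, hq, hqx⟩ := Nat.exists_prime_and_dvd hox
  haveI : Fact q.Prime := ⟨hq⟩
  obtain ⟨x0, hx0def⟩ : ∃ x0 : G, x0 = x ^ (orderOf x / q) := ⟨_, rfl⟩
  have hx0o : orderOf x0 = q := by
    rw [hx0def]; exact orderOf_pow_orderOf_div (orderOf_pos x).ne' hqx
  have hx0 : x0 ∈ sigmaCore M := by rw [hx0def]; exact pow_mem hx _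
  have hx01 : x0 ≠ 1 := by
    intro h
    rw [h, orderOf_one] at hx0o
    exact hq.one_lt.ne hx0o
  have hCC : centralizer ({x} : Set G) ≤ centralizer ({x0} : Set G) := by
    intro c hc
    rw [mem_centralizer_singleton_iff] at hc ⊢
    rw [hx0def]
    exact (Commute.pow_right (hc : Commute c x) _).eq
  have hx0M : ¬ centralizer ({x0} : Set G) ≤ M := fun h => hxM (hCC.trans h)
  -- Step 2: the unique maximal subgroup over C(x0) is N
  obtain ⟨N0, ⟨hN0, hx0N0⟩, huniq0, -, -, hc5, hc6, hlast⟩ := r1375 M hM x0 hx0 hx01 hx0M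
  obtain ⟨N', -, huniq', -⟩ := r1375 M hM x hx hx1 hxM
  have hNN' : N = N' := huniq' N hN hxN
  have hN0N' : N0 = N' := huniq' N0 hN0 (hCC.trans hx0N0)
  have hN0N : N0 = N := hN0N'.trans hNN'.symm
  rw [hN0N] at hx0N0 huniq0 hc5 hc6 hlast
  clear hN0N hN0N' hN0 N0
  -- Step 3: R ≠ 1
  have hR : sigmaCore N ⊓ centralizer ({x0} : Set G) ≠ ⊥ := by
    intro hbot
    apply hx0M
    intro c hc
    obtain ⟨a, ha, b, hb, rfl⟩ := hc5.2.2.2 c hc
    rw [hbot, mem_bot] at hb
    rw [hb, mul_one]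
    exact ha.1
  -- Step 4: a standard factorisation of N
  obtain ⟨⟨K0, hK0⟩, hK0c⟩ := r1351 N hN
  have hK0cyc : IsCyclic K0 := hK0c K0 hK0
  obtain ⟨⟨U0, hKU0⟩, -⟩ := r1352 N hN K0 hK0cyc hK0
  have hK01 : K0 ≠ ⊥ := by
    obtain ⟨p, hp⟩ := hkN
    intro hbot
    have h1 : ¬ p ∣ K0.relIndex N := hK0.2.2 p hp.1 hp
    apply h1
    rw [hbot, Subgroup.relIndex_bot_left]
    exact hp.2.1
  obtain ⟨hU01, hx0A, hx0nσ⟩ := hlast K0 U0 hKU0
  have hx0Uσ : x0 ∈ U0 ⊔ sigmaCore N := hx0A.2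
  -- Step 6: q ∈ σ(M)
  have hHM := (r1350 M hM).1
  have hHN := (r1350 N hN).1
  have hqσM : q ∈ sigma M := by
    apply hHM.2.1 q hq
    rw [← hx0o]; exact Subgroup.orderOf_dvd_natCard _ hx0
  -- Step 7: N_G(<x0>) ≤ N
  have hx0N' : x0 ∈ N := hx0N0 (by rw [mem_centralizer_singleton_iff])
  have hx0M' : x0 ∈ M := Cfsg.Agent.Helper55.BGB.sigmaCore_le M hx0
  have hCX : centralizer ((zpowers x0 : Subgroup G) : Set G) = centralizer ({x0} : Set G) := by
    apply le_antisymm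
    · apply Subgroup.centralizer_le
      intro y hy
      rw [Set.mem_singleton_iff] at hy
      rw [hy]; exact mem_zpowers x0
    · intro c hc
      rw [mem_centralizer_singleton_iff] at hc
      rw [mem_centralizer_iff]
      intro y hy
      obtain ⟨k, rfl⟩ := mem_zpowers_iff.mp hy
      exact (Commute.zpow_right (hc : Commute c x0) k).eq.symm
  have hXN : zpowers x0 ≤ N := (zpowers_le).mpr hx0N'
  have hXM : zpowers x0 ≤ M := (zpowers_le).mpr hx0M'
  have hX1 : zpowers x0 ≠ ⊥ := zpowers_ne_bot.mpr hx01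
  have hXt : zpowers x0 ≠ ⊤ := fun h => hN.1 (top_le_iff.mp (h ▸ hXN))
  have hNX : normalizer ((zpowers x0 : Subgroup G) : Set G) ≤ N := by
    apply Cfsg.Agent.Helper55.BGB.normalizer_le_of_unique hX1 hXt
    intro L hL hCL
    rw [hCX] at hCL
    exact huniq0 L hL hCL
  have hNM : N ≠ M := fun h => hx0M (h ▸ hx0N0)
  have hXq : IsPGroup q (zpowers x0) := by
    apply IsPGroup.of_card (n := 1)
    rw [Nat.card_zpowers, hx0o, pow_one]
  -- Step 9: the Sylow subgroup S of M ⊓ N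
  have hXMN : zpowers x0 ≤ M ⊓ N := le_inf hXM hXN
  have hXq' : IsPGroup q ((zpowers x0).subgroupOf (M ⊓ N)) := hXq.comap_subtype
  obtain ⟨S, hS⟩ := hXq'.exists_le_sylow
  have hXS : zpowers x0 ≤ (S : Subgroup ↥(M ⊓ N)).map (M ⊓ N).subtype := by
    intro y hy
    exact ⟨⟨y, hXMN hy⟩, hS (by rw [mem_subgroupOf]; exact hy), rfl⟩
  obtain ⟨hnc, hNS, hrel⟩ := r1424 M hM q hqσM (zpowers x0) hXq hX1 hXM N hN hNM hNX S hXS
  obtain ⟨S', hS'def⟩ : ∃ S' : Subgroup G, S' = (S : Subgroup ↥(M ⊓ N)).map (M ⊓ N).subtype :=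
    ⟨_, rfl⟩
  rw [← hS'def] at hXS hNS hrel
  have hS'MN : S' ≤ M ⊓ N := by rw [hS'def]; exact Subgroup.map_subtype_le _
  have hS'q : IsPGroup q S' := by rw [hS'def]; exact S.isPGroup'.map _
  have hx0S' : x0 ∈ S' := hXS (mem_zpowers x0)
  -- Step 10: q ∉ σ(N), q ∉ κ(N)
  have hqσN : q ∉ sigma N := by
    intro h
    apply hx0nσ
    apply Cfsg.Agent.Helper97.BG144.mem_sigmaCore_of_pi hHN hx0N'
    intro p hp hpd
    rw [hx0o] at hpd
    rw [(Nat.prime_dvd_prime_iff_eq hp hq).mp hpd]; exact h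
  have hσU : sigmaCore N ⊓ U0 = ⊥ := by
    rw [eq_bot_iff]
    intro z hz
    have : z ∈ U0 ⊓ (K0 ⊔ sigmaCore N) := ⟨hz.2, mem_sup_right hz.1⟩
    rwa [hKU0.compl.2.2.1] at this
  have hcardH : Nat.card (U0 ⊔ sigmaCore N : Subgroup G)
      = Nat.card (sigmaCore N) * Nat.card U0 := by
    have h := Cfsg.Agent.Helper50.card_sup_mul_card_inf_of_le_normalizer (sigmaCore N) U0
      (hKU0.compl.1.trans (Cfsg.Agent.Helper55.BGB.le_normalizer_sigmaCore N))
    rw [hσU, Subgroup.card_bot, mul_one, sup_comm] at h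
    exact h
  have hqU0 : q ∣ Nat.card U0 := by
    have h1 : q ∣ Nat.card (U0 ⊔ sigmaCore N : Subgroup G) := by
      rw [← hx0o]; exact Subgroup.orderOf_dvd_natCard _ hx0Uσ
    rw [hcardH] at h1
    rcases (Nat.Prime.dvd_mul hq).mp h1 with h | h
    · exact absurd (hHN.2.1 q hq h) hqσN
    · exact h
  have hqκN : q ∉ kappa N := (Cfsg.Agent.Helper55.BGB.U_prime_not_mem hKU0 hHN hq hqU0).1
  -- Step 11: a Sylow q-subgroup of U0 is Sylow in N
  obtain ⟨R0, -, hR0⟩ := Cfsg.Agent.Helper84.exists_isSylIn_ge (p := q)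
    (H := (⊥ : Subgroup G)) (K := U0) bot_le IsPGroup.of_bot
  have hR0N : IsSylIn q R0 N := by
    refine ⟨hR0.1.trans hKU0.compl.1, hR0.2.1, ?_⟩
    rw [← Subgroup.relIndex_mul_relIndex R0 U0 N hR0.1 hKU0.compl.1]
    intro hd
    rcases (Nat.Prime.dvd_mul hq).mp hd with h | h
    · exact hR0.2.2 h
    · have h2 := Cfsg.Agent.Helper55.BGB.card_mul_relIndex hKU0.compl.1
      have h3 := Cfsg.Agent.Helper55.BGB.card_decomp hKU0
      have h4 : U0.relIndex N = Nat.card K0 * Nat.card (sigmaCore N) := by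
        apply Nat.eq_of_mul_eq_mul_left (Nat.card_pos : 0 < Nat.card U0)
        rw [h2, h3]
      rw [h4] at h
      rcases (Nat.Prime.dvd_mul hq).mp h with h | h
      · exact hqκN (hKU0.hall.2.1 q hq h)
      · exact hqσN (hHN.2.1 q hq h)
  have hS'N : IsSylIn q S' N := ⟨hS'MN.trans inf_le_right, hS'q, hrel⟩
  obtain ⟨n, hn, hconj⟩ := hR0N.exists_conj hS'N
  -- Step 12: the conjugated factorisation
  have hKU := isSigmaDecomposition_cj_of_mem hKU0 hn
  have hS'U : S' ≤ cj n U0 := by rw [hconj]; exact cj_mono n hR0.1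
  have hUN : cj n U0 ≤ N := hKU.compl.1
  refine ⟨x0, q, cj n K0, cj n U0, ?_⟩
  exact
    { hq := hq
      hx0 := hx0
      hx0o := hx0o
      hx0M := hx0M
      hx0N := hx0N0
      huniq := huniq0
      hcompl := hc6
      hR := hR
      hKU := hKU
      hK1 := fun h => hK01
        ((Subgroup.map_eq_bot_iff_of_injective _ (MulAut.conj n).injective).mp h)
      hU1 := (hlast _ _ hKU).1
      hx0U := hS'U hx0S'
      hNR := ⟨S', hS'U, hS'q, (hS'N.of_le hS'U hUN).2.2,
        by rw [← hx0o]; exact Subgroup.orderOf_dvd_natCard _ hx0S', hNS⟩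
      hnc := hnc }

end Cfsg.Agent.Helper34.BG144c
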