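import Cfsg.Agent.Lib.Helper34.TNC11
import Cfsg.Agent.Lib.Helper33.Syl
import Cfsg.Agent.Lib.Helper33.Basic
import Cfsg.Prelude.Def_Amalgam
import Cfsg.Prelude.Def_ConjugacyFunctors

/-!
# The Thompson subgroup `J` (abelian version) as a conjugacy functor; quadratic elements
-/

set_option autoImplicit false
set_option linter.unusedSectionVars false
set_option linter.unusedVariables false

namespace Cfsg.Agent.Helper34.WCJ

open Cfsg Cfsg.Agent.Helper34.TNC
open scoped commutatorElement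

universe u

variable {G : Type u} [Group G] [Finite G] {p : ℕ} [hp : Fact p.Prime]

theorem isConjugacyFunctor_jA :
    IsConjugacyFunctor p (fun P : Subgroup G => Cfsg.thompsonSubgroupAOf P) := by
  intro P hP
  refine ⟨jA_le P, fun hne => jA_ne_bot hne, fun g => ?_⟩
  exact jA_map (MulAut.conj g).toMonoidHom P
    (fun x _ hx => by
      have : (MulAut.conj g) x = 1 := hx
      exact (map_eq_one_iff (MulAut.conj g) (MulAut.conj g).injective).mp this)

theorem maxAb_comm {T A : Subgroup G} (hA : A ∈ MaxAb T) : ∀ a ∈ A, ∀ a' ∈ A, a * a' = a' * a := by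
  intro a ha a' ha'
  have := hA.2.1
  exact setLike_mul_comm ha ha'

/-- an abelian subgroup of `T` centralized by a member of `MaxAb T` lies in it -/
theorem le_of_maxAb_of_comm {T A Y : Subgroup G} (hA : A ∈ MaxAb T) (hYT : Y ≤ T)
    (hYc : ∀ y ∈ Y, ∀ y' ∈ Y, y * y' = y' * y) (hAY : ∀ a ∈ A, ∀ y ∈ Y, a * y = y * a) :
    Y ≤ A := by
  have hsupc : IsMulCommutative ↥(A ⊔ Y) := isMulCommutative_sup (maxAb_comm hA) hYc hAY
  have hcard := hA.2.2 (A ⊔ Y) (sup_le hA.1 hYT) hsupc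
  have heq : A = A ⊔ Y := Subgroup.eq_of_le_of_card_ge le_sup_left hcard
  exact le_sup_right.trans heq.ge

theorem zs_le_jA (P : Subgroup G) :
    P ⊓ Subgroup.centralizer (P : Set G) ≤ Cfsg.thompsonSubgroupAOf P := by
  obtain ⟨A, hA⟩ := maxAb_nonempty P
  refine le_trans ?_ (le_jA hA)
  apply le_of_maxAb_of_comm hA inf_le_left
  · intro y hy y' hy'
    exact (Subgroup.mem_centralizer_iff.mp hy'.2 y hy.1)
  · intro a ha y hy
    exact (Subgroup.mem_centralizer_iff.mp hy.2 a (hA.1 ha))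

/-- choosing a member of a family of largest abelian subgroups that is normalized by `V` -/
theorem exists_normalized (S : Subgroup G) (hS : IsPGroup p S) (V : Subgroup G) (hVS : V ≤ S)
    (hVc : ∀ v ∈ V, ∀ v' ∈ V, v * v' = v' * v) (hVn : S ≤ Subgroup.normalizer (V : Set G))
    (𝒮 : Set (Subgroup G)) (h𝒮 : 𝒮 ⊆ MaxAb S) (hne : 𝒮.Nonempty)
    (hcl : ∀ A ∈ 𝒮, ∀ B ∈ MaxAb S, B ≤ A ⊔ V →
      Nat.card (A ⊓ V : Subgroup G) < Nat.card (B ⊓ V : Subgroup G) → B ∈ 𝒮 ∨ V ≤ B) :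
    ∃ A ∈ 𝒮, V ≤ Subgroup.normalizer (A : Set G) := by
  classical
  obtain ⟨A, hA, hAmax⟩ := Set.exists_max_image 𝒮
    (fun A => Nat.card (A ⊓ V : Subgroup G)) (Set.toFinite _) hne
  refine ⟨A, hA, ?_⟩
  by_contra hVA
  have hAS := h𝒮 hA
  have hAVS : A ⊔ V ≤ S := sup_le hAS.1 hVS
  obtain ⟨B, hB, hlt, hBN⟩ := replacement_ambient (A ⊔ V) (hS.to_le hAVS) A V
    ⟨le_sup_left, hAS.2.1, fun Y hY hYc => hAS.2.2 Y (hY.trans hAVS) hYc⟩
    le_sup_right hVc (hAVS.trans hVn) hVA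
  have hBS : B ∈ MaxAb S :=
    ⟨hB.1.trans hAVS, hB.2.1, fun Y hY hYc =>
      (hAS.2.2 Y hY hYc).trans (hB.2.2 A le_sup_left hAS.2.1)⟩
  rcases hcl A hA B hBS hB.1 hlt with h | h
  · exact absurd (hAmax B h) (not_le.mpr hlt)
  · exact hVA (h.trans hBN)

/-- `O_p(H) ≤ T` for a Sylow `p`-subgroup `T` of `H` -/
theorem pCoreOf_le_of_sylow {H T : Subgroup G} (hTH : T ≤ H) (hT : IsPGroup p T)
    (hidx : ¬ p ∣ T.relIndex H) : pCoreOf p H ≤ T := by
  have hsyl : Cfsg.Agent.Helper33.IsSylIn p T H := ⟨hTH, hT, hidx⟩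
  have h1 := Cfsg.Agent.Helper33.pCore_le_sylow hsyl.toSylow
  rw [hsyl.coe_toSylow] at h1
  unfold pCoreOf
  intro x hx
  obtain ⟨y, hy, rfl⟩ := hx
  exact Subgroup.mem_subgroupOf.mp (h1 hy)

theorem le_normalizer_pCoreOf (H : Subgroup G) :
    H ≤ Subgroup.normalizer (pCoreOf p H : Set G) := by
  apply le_normalizer_of_conj_mem
  intro g hg x hx
  obtain ⟨y, hy, rfl⟩ := hx
  have hn : (pCore p ↥H).Normal := Cfsg.Agent.Helper33.pCore_normal p
  exact ⟨⟨g, hg⟩ * y * ⟨g, hg⟩⁻¹, hn.conj_mem y hy _, rfl⟩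

/-- **Thompson replacement**: if `J(T)` is not normal in `H` (`T` Sylow in `H`), some element of
`T` outside `O_p(H)` acts quadratically on `Z(O_p(H))`. -/
theorem exists_quadratic (H T : Subgroup G) (hTH : T ≤ H) (hT : IsPGroup p T)
    (hidx : ¬ p ∣ T.relIndex H)
    (hnot : ¬ H ≤ Subgroup.normalizer ((Cfsg.thompsonSubgroupAOf T : Subgroup G) : Set G)) :
    ∃ g : G, g ∈ T ∧ g ∉ pCoreOf p H ∧
      ⁅⁅pCoreOf p H ⊓ Subgroup.centralizer ((pCoreOf p H : Subgroup G) : Set G),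
        Subgroup.zpowers g⁆, Subgroup.zpowers g⁆ = ⊥ := by
  classical
  set Q := pCoreOf p H with hQ
  have hQT : Q ≤ T := pCoreOf_le_of_sylow hTH hT hidx
  have hHQ : H ≤ Subgroup.normalizer (Q : Set G) := le_normalizer_pCoreOf H
  set Z := Q ⊓ Subgroup.centralizer (Q : Set G) with hZ
  have hZc : ∀ v ∈ Z, ∀ v' ∈ Z, v * v' = v' * v := by
    intro v hv v' hv'
    exact (Subgroup.mem_centralizer_iff.mp hv'.2 v hv.1)
  have hTZ : T ≤ Subgroup.normalizer (Z : Set G) :=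
    (hTH.trans hHQ).trans (normalizer_le_normalizer_zs Q)
  let 𝒮 : Set (Subgroup G) := {A | A ∈ MaxAb T ∧ ¬ A ≤ Q}
  have hne : 𝒮.Nonempty := by
    by_contra hcon
    apply hnot
    have hall : ∀ A ∈ MaxAb T, A ≤ Q := by
      intro A hA
      by_contra hAQ
      exact hcon ⟨A, hA, hAQ⟩
    have hJ : Cfsg.thompsonSubgroupAOf T ≤ Q := by
      rw [jA_eq]; exact sSup_le hall
    have hJeq := jA_eq_of_le hQT hJ
    rw [← hJeq]
    exact hHQ.trans (normalizer_le_normalizer_jA Q)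
  obtain ⟨A, hA, hVA⟩ := exists_normalized T hT Z (inf_le_left.trans hQT) hZc hTZ 𝒮
    (fun A hA => hA.1) hne (by
      intro A hA B hB _ _
      by_cases hBQ : B ≤ Q
      · right
        apply le_of_maxAb_of_comm hB (inf_le_left.trans hQT) hZc
        intro b hb z hz
        exact (Subgroup.mem_centralizer_iff.mp hz.2 b (hBQ hb))
      · left
        exact ⟨hB, hBQ⟩)
  obtain ⟨g, hgA, hgQ⟩ := SetLike.not_le_iff_exists.mp hA.2
  refine ⟨g, hA.1.1 hgA, hgQ, ?_⟩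
  rw [eq_bot_iff]
  have h1 : ⁅Z, Subgroup.zpowers g⁆ ≤ A := by
    rw [Subgroup.commutator_le]
    intro z hz a ha
    have haA : a ∈ A := (Subgroup.zpowers_le.mpr hgA) ha
    have hzN := hVA hz
    have h2 : z * a * z⁻¹ ∈ A := (Subgroup.mem_normalizer_iff.mp hzN a).mp haA
    have h3 : ⁅z, a⁆ = (z * a * z⁻¹) * a⁻¹ := by rw [commutatorElement_def]
    rw [h3]
    exact A.mul_mem h2 (A.inv_mem haA)
  rw [Subgroup.commutator_le]
  intro y hy a ha
  have haA : a ∈ A := (Subgroup.zpowers_le.mpr hgA) ha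
  rw [Subgroup.mem_bot, commutatorElement_eq_one_iff_mul_comm]
  exact maxAb_comm hA.1 y (h1 hy) a haA

end Cfsg.Agent.Helper34.WCJ
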