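import Mathlib

/-!
# Brauer–Fowler counting (helper34)

For a finite group `G`, `invs G` is the finset of involutions and `pairsTo x` the finset of
involutions `s` with `s * x` an involution (so `(s, s * x)` runs over the pairs of involutions with
product `x`).  Main results:

* `sum_card_pairsTo` : `∑ x, #(pairsTo x) = m * m`
* `bf_inequality` : if no involution is central, no subgroup has index `2` and every proper subgroup
  has order `≤ c`, then `2 m² + 2 m + c (m + 1) ≤ c (2 m + |G|)`.
-/

set_option autoImplicit false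

namespace Cfsg.Agent.Helper34.BF

open Classical

variable {G : Type*} [Group G]

section Basic

theorem inv_mul_self {t : G} (h : orderOf t = 2) : t * t = 1 := by
  rw [← pow_two, ← h, pow_orderOf_eq_one]

theorem inv_eq_self {t : G} (h : orderOf t = 2) : t⁻¹ = t :=
  inv_eq_of_mul_eq_one_left (inv_mul_self h)

theorem ne_one_of_inv {t : G} (h : orderOf t = 2) : t ≠ 1 := by
  rintro rfl
  simp at h

theorem orderOf_eq_two {t : G} (h1 : t ≠ 1) (h2 : t * t = 1) : orderOf t = 2 :=
  orderOf_eq_prime (by rw [pow_two]; exact h2) h1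

/-- The extended centralizer `C*(x)`. -/
def extCent (x : G) : Subgroup G where
  carrier := {g | g * x * g⁻¹ = x ∨ g * x * g⁻¹ = x⁻¹}
  one_mem' := Or.inl (by simp)
  mul_mem' := by
    intro a b ha hb
    have e : a * b * x * (a * b)⁻¹ = a * (b * x * b⁻¹) * a⁻¹ := by group
    have e' : a * x⁻¹ * a⁻¹ = (a * x * a⁻¹)⁻¹ := by group
    show a * b * x * (a * b)⁻¹ = x ∨ a * b * x * (a * b)⁻¹ = x⁻¹
    rw [e]
    rcases hb with hb | hb <;> rcases ha with ha | ha
    · left; rw [hb, ha]
    · right; rw [hb, ha]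
    · right; rw [hb, e', ha]
    · left; rw [hb, e', ha, inv_inv]
  inv_mem' := by
    intro a ha
    show a⁻¹ * x * a⁻¹⁻¹ = x ∨ a⁻¹ * x * a⁻¹⁻¹ = x⁻¹
    rcases ha with ha | ha
    · left
      calc a⁻¹ * x * a⁻¹⁻¹ = a⁻¹ * (a * x * a⁻¹) * a := by rw [ha]; group
        _ = x := by group
    · right
      have h2 : a * x⁻¹ * a⁻¹ = x := by
        have e' : a * x⁻¹ * a⁻¹ = (a * x * a⁻¹)⁻¹ := by group
        rw [e', ha, inv_inv]
      calc a⁻¹ * x * a⁻¹⁻¹ = a⁻¹ * (a * x⁻¹ * a⁻¹) * a := by rw [h2]; group
        _ = x⁻¹ := by group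

theorem mem_extCent {x g : G} : g ∈ extCent x ↔ g * x * g⁻¹ = x ∨ g * x * g⁻¹ = x⁻¹ := Iff.rfl

end Basic

section Count

variable [Fintype G]

/-- The finset of involutions. -/
noncomputable def invs (G : Type*) [Group G] [Fintype G] : Finset G :=
  Finset.univ.filter (fun t => orderOf t = 2)

theorem mem_invs {t : G} : t ∈ invs G ↔ orderOf t = 2 := by
  simp [invs]

/-- Involutions `s` such that `s * x` is an involution. -/
noncomputable def pairsTo (x : G) : Finset G :=
  (invs G).filter (fun s => s * x ∈ invs G)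

theorem mem_pairsTo {x s : G} : s ∈ pairsTo x ↔ orderOf s = 2 ∧ orderOf (s * x) = 2 := by
  simp [pairsTo, mem_invs]

/-- `∑ x, a(x) = m²`. -/
theorem sum_card_pairsTo :
    ∑ x : G, (pairsTo x).card = (invs G).card * (invs G).card := by
  have h1 : ∀ x : G, (pairsTo x).card = ∑ s ∈ invs G, if s * x ∈ invs G then 1 else 0 := by
    intro x
    rw [pairsTo, Finset.card_filter]
  simp_rw [h1]
  rw [Finset.sum_comm]
  have h2 : ∀ s ∈ invs G, (∑ x : G, if s * x ∈ invs G then 1 else 0) = (invs G).card := by
    intro s _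
    rw [← Finset.card_filter]
    apply Finset.card_bij (fun x _ => s * x)
    · intro x hx
      simpa using hx
    · intro x _ y _ hxy
      exact mul_left_cancel hxy
    · intro y hy
      refine ⟨s⁻¹ * y, ?_, by group⟩
      simp only [Finset.mem_filter, Finset.mem_univ, true_and]
      have : s * (s⁻¹ * y) = y := by group
      rw [this]; exact hy
  rw [Finset.sum_congr rfl h2, Finset.sum_const, smul_eq_mul]

theorem pairsTo_one : pairsTo (1 : G) = invs G := by
  ext s
  simp [pairsTo]

/-- Elements of `pairsTo x` invert `x`. -/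
theorem inverts_of_mem_pairsTo {x s : G} (hs : s ∈ pairsTo x) : s * x * s⁻¹ = x⁻¹ := by
  obtain ⟨h1, h2⟩ := mem_pairsTo.mp hs
  have e1 := inv_mul_self h2
  rw [inv_eq_self h1]
  -- `s x s x = 1`
  calc s * x * s = (s * x * (s * x)) * x⁻¹ := by group
    _ = x⁻¹ := by rw [e1, one_mul]

/-- For an involution `x`: `a(x) + 2 ≤ |C(x)|`. -/
theorem card_pairsTo_add_two_le {x : G} (hx : orderOf x = 2) :
    (pairsTo x).card + 2 ≤ Nat.card (Subgroup.centralizer ({x} : Set G)) := by
  set C : Finset G := Finset.univ.filter (fun g => g ∈ Subgroup.centralizer ({x} : Set G)) with hC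
  have hcard : Nat.card (Subgroup.centralizer ({x} : Set G)) = C.card := by
    rw [Nat.card_eq_fintype_card, Fintype.card_subtype]
  rw [hcard]
  have hx1 : x ≠ 1 := ne_one_of_inv hx
  have hsub : insert 1 (insert x (pairsTo x)) ⊆ C := by
    intro g hg
    simp only [Finset.mem_insert] at hg
    simp only [hC, Finset.mem_filter, Finset.mem_univ, true_and]
    rcases hg with rfl | rfl | hg
    · exact Subgroup.one_mem _
    · rw [Subgroup.mem_centralizer_singleton_iff]
    · rw [Subgroup.mem_centralizer_singleton_iff]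
      have h := inverts_of_mem_pairsTo hg
      rw [inv_eq_self hx] at h
      calc g * x = (g * x * g⁻¹) * g := by group
        _ = x * g := by rw [h]
  have hx_not : x ∉ pairsTo x := by
    intro h
    have := (mem_pairsTo.mp h).2
    rw [inv_mul_self hx] at this
    simp at this
  have h1_not : (1 : G) ∉ insert x (pairsTo x) := by
    simp only [Finset.mem_insert, not_or]
    refine ⟨fun h => hx1 h.symm, fun h => ?_⟩
    have := (mem_pairsTo.mp h).1
    simp at this
  calc (pairsTo x).card + 2 = (insert 1 (insert x (pairsTo x))).card := by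
        rw [Finset.card_insert_of_notMem h1_not, Finset.card_insert_of_notMem hx_not]
    _ ≤ C.card := Finset.card_le_card hsub

/-- For `x` with `x² ≠ 1`: `2 a(x) ≤ |C*(x)|`. -/
theorem two_mul_card_pairsTo_le {x : G} (hx : x⁻¹ ≠ x) :
    2 * (pairsTo x).card ≤ Nat.card (extCent x) := by
  set E : Finset G := Finset.univ.filter (fun g => g ∈ extCent x) with hE
  have hcard : Nat.card (extCent x) = E.card := by
    rw [Nat.card_eq_fintype_card, Fintype.card_subtype]
  rw [hcard]
  rcases (pairsTo x).eq_empty_or_nonempty with h0 | ⟨s₀, hs₀⟩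
  · rw [h0]; simp
  have hs₀inv := inverts_of_mem_pairsTo hs₀
  -- `pairsTo x` and `s₀⁻¹ * pairsTo x` are disjoint subsets of `E`
  set B : Finset G := (pairsTo x).image (fun s => s₀⁻¹ * s) with hB
  have hBcard : B.card = (pairsTo x).card :=
    Finset.card_image_of_injective _ (fun a b h => mul_left_cancel h)
  have hBcent : ∀ b ∈ B, b * x * b⁻¹ = x := by
    intro b hb
    obtain ⟨s, hs, rfl⟩ := Finset.mem_image.mp hb
    have h1 := inverts_of_mem_pairsTo hs
    have h2 : s₀⁻¹ * x⁻¹ * s₀ = x := by
      calc s₀⁻¹ * x⁻¹ * s₀ = s₀⁻¹ * (s₀ * x * s₀⁻¹) * s₀ := by rw [hs₀inv]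
        _ = x := by group
    calc s₀⁻¹ * s * x * (s₀⁻¹ * s)⁻¹ = s₀⁻¹ * (s * x * s⁻¹) * s₀ := by group
      _ = x := by rw [h1, h2]
  have hdisj : Disjoint (pairsTo x) B := by
    rw [Finset.disjoint_left]
    intro s hs hsB
    have h1 := inverts_of_mem_pairsTo hs
    have h2 := hBcent s hsB
    exact hx (h1.symm.trans h2)
  have hsub : pairsTo x ∪ B ⊆ E := by
    intro g hg
    simp only [hE, Finset.mem_filter, Finset.mem_univ, true_and]
    rcases Finset.mem_union.mp hg with h | h
    · exact Or.inr (inverts_of_mem_pairsTo h)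
    · exact Or.inl (hBcent g h)
  calc 2 * (pairsTo x).card = (pairsTo x).card + B.card := by rw [hBcard]; ring
    _ = (pairsTo x ∪ B).card := (Finset.card_union_of_disjoint hdisj).symm
    _ ≤ E.card := Finset.card_le_card hsub

/-- If some involution pair has product `x` with `x² ≠ 1` and `C*(x) = G`, then `C(x)` has index `2`. -/
theorem index_centralizer_eq_two {x : G} (hx : x⁻¹ ≠ x) (hne : (pairsTo x).Nonempty)
    (htop : extCent x = ⊤) : (Subgroup.centralizer ({x} : Set G)).index = 2 := by
  obtain ⟨s₀, hs₀⟩ := hne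
  have hs₀inv := inverts_of_mem_pairsTo hs₀
  rw [Subgroup.index_eq_two_iff]
  refine ⟨s₀, fun b => ?_⟩
  have hb : b ∈ extCent x := by rw [htop]; exact Subgroup.mem_top b
  have key : ∀ g : G, g ∈ Subgroup.centralizer ({x} : Set G) ↔ g * x * g⁻¹ = x := by
    intro g
    rw [Subgroup.mem_centralizer_singleton_iff]
    constructor
    · intro h
      rw [h]; group
    · intro h
      calc g * x = (g * x * g⁻¹) * g := by group
        _ = x * g := by rw [h]
  rw [key, key]
  have e : b * s₀ * x * (b * s₀)⁻¹ = b * (s₀ * x * s₀⁻¹) * b⁻¹ := by group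
  have e' : b * x⁻¹ * b⁻¹ = (b * x * b⁻¹)⁻¹ := by group
  rw [e, hs₀inv, e']
  rcases hb with hb | hb
  · right
    refine ⟨hb, ?_⟩
    rw [hb]; exact hx
  · left
    refine ⟨by rw [hb, inv_inv], ?_⟩
    rw [hb]; exact fun h => hx h

end Count


section Main

variable [Fintype G]

/-- **Brauer–Fowler inequality.** If no involution is central, no subgroup has index `2` and every
proper subgroup has order at most `c`, then `2 m² + 2 m + c (m + 1) ≤ c (2 m + |G|)`, where `m` is the
number of involutions. -/
theorem bf_inequality (c : ℕ)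
    (hcent : ∀ t : G, orderOf t = 2 → t ∉ Subgroup.center G)
    (hH : ∀ H : Subgroup G, H ≠ ⊤ → H.index ≠ 2 ∧ Nat.card H ≤ c) :
    2 * (invs G).card * (invs G).card + 2 * (invs G).card + c * ((invs G).card + 1) ≤
      c * (2 * (invs G).card + Fintype.card G) := by
  set m := (invs G).card with hm
  -- (a)
  have ha : ∀ x ∈ invs G, 2 * (pairsTo x).card + 4 ≤ 2 * c := by
    intro x hx
    have hx2 := mem_invs.mp hx
    have hne : Subgroup.centralizer ({x} : Set G) ≠ ⊤ := by
      intro htop
      apply hcent x hx2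
      rw [Subgroup.mem_center_iff]
      intro g
      have : g ∈ Subgroup.centralizer ({x} : Set G) := by rw [htop]; exact Subgroup.mem_top g
      rw [Subgroup.mem_centralizer_singleton_iff] at this
      exact this
    have h1 := (hH _ hne).2
    have h2 := card_pairsTo_add_two_le hx2
    omega
  -- (b)
  have hb : ∀ x : G, x ∉ invs G → x ≠ 1 → 2 * (pairsTo x).card ≤ c := by
    intro x hx hx1
    have hxinv : x⁻¹ ≠ x := by
      intro h
      apply hx
      rw [mem_invs]
      apply orderOf_eq_two hx1
      calc x * x = x⁻¹ * x := by rw [h]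
        _ = 1 := by group
    rcases (pairsTo x).eq_empty_or_nonempty with h0 | hne
    · rw [h0]; simp
    have htop : extCent x ≠ ⊤ := by
      intro htop
      have hidx := index_centralizer_eq_two hxinv hne htop
      have hne' : Subgroup.centralizer ({x} : Set G) ≠ ⊤ := by
        intro h
        rw [h, Subgroup.index_top] at hidx
        norm_num at hidx
      exact (hH _ hne').1 hidx
    exact (two_mul_card_pairsTo_le hxinv).trans (hH _ htop).2
  -- the sum
  have hsum : ∑ x : G, 2 * (pairsTo x).card = 2 * m * m := by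
    rw [← Finset.mul_sum, sum_card_pairsTo, mul_assoc]
  have hsplit : ∑ x : G, 2 * (pairsTo x).card =
      ∑ x ∈ invs G, 2 * (pairsTo x).card + ∑ x ∈ (invs G)ᶜ, 2 * (pairsTo x).card :=
    (Finset.sum_add_sum_compl (invs G) _).symm
  have hS1 : ∑ x ∈ invs G, 2 * (pairsTo x).card + 4 * m ≤ 2 * c * m := by
    have : ∑ x ∈ invs G, (2 * (pairsTo x).card + 4) ≤ ∑ _x ∈ invs G, 2 * c :=
      Finset.sum_le_sum ha
    rw [Finset.sum_add_distrib, Finset.sum_const, Finset.sum_const, smul_eq_mul, smul_eq_mul] at this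
    rw [← hm] at this
    nlinarith
  have h1mem : (1 : G) ∈ (invs G)ᶜ := by
    rw [Finset.mem_compl, mem_invs]
    simp
  set R := ((invs G)ᶜ).erase 1 with hR
  have hRcard : R.card + m + 1 = Fintype.card G := by
    have h1 : R.card + 1 = ((invs G)ᶜ).card := Finset.card_erase_add_one h1mem
    have h2 : ((invs G)ᶜ).card + (invs G).card = Fintype.card G := by
      rw [add_comm]; exact Finset.card_add_card_compl (invs G)
    omega
  have hS2 : ∑ x ∈ (invs G)ᶜ, 2 * (pairsTo x).card ≤ 2 * m + R.card * c := by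
    rw [← Finset.add_sum_erase _ _ h1mem, pairsTo_one]
    have : ∑ x ∈ R, 2 * (pairsTo x).card ≤ ∑ _x ∈ R, c := by
      apply Finset.sum_le_sum
      intro x hx
      have hx' := Finset.mem_erase.mp hx
      exact hb x (Finset.mem_compl.mp hx'.2) hx'.1
    rw [Finset.sum_const, smul_eq_mul] at this
    have e1 : 2 * (invs G).card = 2 * m := by rw [hm]
    calc 2 * (invs G).card + ∑ x ∈ ((invs G)ᶜ).erase 1, 2 * (pairsTo x).card
        = 2 * m + ∑ x ∈ R, 2 * (pairsTo x).card := by rw [e1, hR]
      _ ≤ 2 * m + R.card * c := by omega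
  have htot : 2 * m * m + 2 * m ≤ 2 * c * m + R.card * c := by
    have := hsum
    rw [hsplit] at this
    omega
  calc 2 * m * m + 2 * m + c * (m + 1) ≤ 2 * c * m + R.card * c + c * (m + 1) := by omega
    _ = c * (2 * m + (R.card + m + 1)) := by ring
    _ = c * (2 * m + Fintype.card G) := by rw [hRcard]

end Main


end Cfsg.Agent.Helper34.BF
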