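import Cfsg.Agent.Lib.Helper34.BrauerFowler

/-!
# Brauer–Fowler counting, part 2 (helper34)

* `card_le_card_centralizer_mul_card_invs` : `|G| ≤ |C(t)| * m` for an involution `t`.
* `card_le_factorial_index_of_simple` : a simple group embeds in `Sym(G/H)` for `H ≠ ⊤`.
* `natCard_invs`, `one_le_card_invs`.
-/

set_option autoImplicit false

namespace Cfsg.Agent.Helper34.BF

open Classical

variable {G : Type*} [Group G]

/-- The number of involutions as the cardinality of `invs G`. -/
theorem natCard_invs' [Fintype G] :
    Nat.card {t : G // orderOf t = 2} = (invs G).card := by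
  rw [Nat.card_eq_fintype_card, Fintype.card_subtype]
  rfl

/-- `|G| ≤ |C(t)| * m`: the class of an involution consists of involutions. -/
theorem card_le_card_centralizer_mul_card_invs [Fintype G] {t : G} (ht : orderOf t = 2) :
    Fintype.card G ≤ Nat.card (Subgroup.centralizer ({t} : Set G)) * (invs G).card := by
  set C : Finset G := Finset.univ.filter (fun g => g ∈ Subgroup.centralizer ({t} : Set G)) with hC
  have hcard : Nat.card (Subgroup.centralizer ({t} : Set G)) = C.card := by
    rw [Nat.card_eq_fintype_card, Fintype.card_subtype]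
  rw [hcard, ← Finset.card_univ]
  apply Finset.card_le_mul_card_image_of_maps_to (f := fun x : G => x * t * x⁻¹)
  · intro x _
    rw [mem_invs, ← ht]
    have : x * t * x⁻¹ = MulAut.conj x t := by simp [MulAut.conj_apply]
    rw [this]
    exact orderOf_injective (MulAut.conj x).toMonoidHom (MulAut.conj x).injective t
  · intro b _
    rcases (Finset.univ.filter (fun a : G => a * t * a⁻¹ = b)).eq_empty_or_nonempty with h0 | ⟨x₀, hx₀⟩
    · rw [h0]; simp
    have hx₀' : x₀ * t * x₀⁻¹ = b := (Finset.mem_filter.mp hx₀).2
    apply Finset.card_le_card_of_injOn (fun x => x₀⁻¹ * x)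
    · intro x hx
      have hx' : x * t * x⁻¹ = b := (Finset.mem_filter.mp hx).2
      simp only [hC, Finset.coe_filter, Finset.mem_univ, true_and, Set.mem_setOf_eq]
      rw [Subgroup.mem_centralizer_singleton_iff]
      have e : x₀⁻¹ * (x * t * x⁻¹) * x₀ = t := by
        rw [hx', ← hx₀']; group
      calc x₀⁻¹ * x * t = (x₀⁻¹ * (x * t * x⁻¹) * x₀) * (x₀⁻¹ * x) := by group
        _ = t * (x₀⁻¹ * x) := by rw [e]
    · intro a _ b _ hab
      exact mul_left_cancel hab

/-- A finite simple group acts faithfully on the cosets of a proper subgroup. -/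
theorem card_le_factorial_index_of_simple [Finite G] [IsSimpleGroup G] (H : Subgroup G)
    (hH : H ≠ ⊤) : Nat.card G ≤ Nat.factorial H.index := by
  have hker : (MulAction.toPermHom G (G ⧸ H)).ker = ⊥ := by
    rw [← Subgroup.normalCore_eq_ker]
    rcases (H.normalCore_normal).eq_bot_or_eq_top with h | h
    · exact h
    · exfalso
      apply hH
      rw [eq_top_iff, ← h]
      exact H.normalCore_le
  have hinj : Function.Injective (MulAction.toPermHom G (G ⧸ H)) :=
    (MonoidHom.ker_eq_bot_iff _).mp hker
  have h1 : Nat.card G ≤ Nat.card (Equiv.Perm (G ⧸ H)) := Nat.card_le_card_of_injective _ hinj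
  rw [Nat.card_perm] at h1
  exact h1

end Cfsg.Agent.Helper34.BF
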