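import Mathlib
import Cfsg.Agent.Lib.Helper32.C3Defs
import Cfsg.Agent.Lib.Helper9.C3M3Defs

/-!
# C3M3 piece J2 (helper34): `|R| = 8` is impossible.

`Q` has index two in `R` and `b` normalizes `Q` and `R`, so every commutator `⁅r, b ^ k⁆`, `r ∈ R`,
lies in `Q`; hence `R = ⁅R, zpowers b⁆ ≤ Q` and `8 ≤ 4`.  (The element `z` is not needed.)
-/

set_option autoImplicit false

namespace Cfsg.Agent.Helper34.C3M3

open Cfsg.Agent.Helper32.C3 Cfsg.Agent.Helper9.C3M3

universe u v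

section Mono

variable {G : Type u} [Group G] [Finite G] {V : Type v} [AddCommGroup V] [Module (ZMod 3) V]
  [Finite V] (ρ : Representation (ZMod 3) G V) (R Q : Subgroup G) (b : G)
  (e : Module.Basis (Fin 4) (ZMod 3) V) (π : G →* Equiv.Perm (Fin 4))
  (s : G → Fin 4 → (ZMod 3)ˣ)

/-- an element conjugating the finite subgroup `Q` into itself normalizes it -/
theorem h34c_mem_normalizer_of_conj_mem (Q : Subgroup G) (g : G)
    (hg : ∀ s ∈ Q, g * s * g⁻¹ ∈ Q) : g ∈ Subgroup.normalizer (Q : Set G) := by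
  rw [Subgroup.mem_normalizer_iff]
  intro y
  refine ⟨hg y, fun hy => ?_⟩
  let f : Q → Q := fun s => ⟨g * s * g⁻¹, hg s s.2⟩
  have hinj : Function.Injective f := by
    intro s1 s2 h12
    have : g * s1 * g⁻¹ = g * s2 * g⁻¹ := congrArg Subtype.val h12
    apply Subtype.ext
    simpa using this
  have hsurj : Function.Surjective f := Finite.surjective_of_injective hinj
  obtain ⟨s, hs⟩ := hsurj ⟨g * y * g⁻¹, hy⟩
  have : g * s * g⁻¹ = g * y * g⁻¹ := congrArg Subtype.val hs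
  have hsy : (s : G) = y := by simpa using this
  rw [← hsy]; exact s.2

/-- if `Q ≤ R`, `|R| = 2 |Q|`, then the product of two elements of `R` outside `Q` lies in `Q` -/
theorem h34c_mul_mem_of_index_two (R Q : Subgroup G) (hQR : Q ≤ R)
    (hcard : Nat.card ↥R = 2 * Nat.card ↥Q) {x y : G} (hx : x ∈ R) (hy : y ∈ R)
    (hxQ : x ∉ Q) (hyQ : y ∉ Q) : x * y ∈ Q := by
  have hidx : (Q.subgroupOf R).index = 2 := by
    have h1 := Subgroup.card_mul_index (Q.subgroupOf R)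
    have h2 : Nat.card ↥(Q.subgroupOf R) = Nat.card ↥Q :=
      Nat.card_congr (Subgroup.subgroupOfEquivOfLe hQR).toEquiv
    rw [h2, hcard] at h1
    have hpos : 0 < Nat.card ↥Q := Nat.card_pos
    have h3 : Nat.card ↥Q * (Q.subgroupOf R).index = Nat.card ↥Q * 2 := by
      rw [h1]; ring
    exact Nat.eq_of_mul_eq_mul_left hpos h3
  have h4 := Subgroup.mul_mem_iff_of_index_two hidx (a := (⟨x, hx⟩ : ↥R)) (b := ⟨y, hy⟩)
  have h5 : (⟨x, hx⟩ : ↥R) * ⟨y, hy⟩ ∈ Q.subgroupOf R := by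
    rw [h4]
    constructor
    · intro hh; exact absurd (Subgroup.mem_subgroupOf.mp hh) hxQ
    · intro hh; exact absurd (Subgroup.mem_subgroupOf.mp hh) hyQ
  exact Subgroup.mem_subgroupOf.mp h5

open scoped commutatorElement in
theorem not_card_eight (h : Cfg ρ R Q b) (z : G) (hzR : z ∈ R) (hz : ρ z = -1)
    (hcard : Nat.card ↥R = 8) : False := by
  obtain ⟨hQ4, _, hbQ, _⟩ := h.four
  have hbN : b ∈ Subgroup.normalizer (Q : Set G) := h34c_mem_normalizer_of_conj_mem Q b hbQ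
  have hzN : Subgroup.zpowers b ≤ Subgroup.normalizer (Q : Set G) :=
    (Subgroup.zpowers_le).mpr hbN
  have hcard2 : Nat.card ↥R = 2 * Nat.card ↥Q := by rw [hcard, hQ4]
  have hle : ⁅R, Subgroup.zpowers b⁆ ≤ Q := by
    rw [Subgroup.commutator_le]
    intro r hr c hc
    have hcN := hzN hc
    rw [Subgroup.mem_normalizer_iff] at hcN
    have hcomm : ⁅r, c⁆ = r * (c * r⁻¹ * c⁻¹) := by
      rw [commutatorElement_def]; group
    rw [hcomm]
    by_cases hrQ : r ∈ Q
    · exact Q.mul_mem hrQ ((hcN r⁻¹).mp (Q.inv_mem hrQ))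
    · have h1 : r⁻¹ ∉ Q := fun hh => hrQ (by simpa using Q.inv_mem hh)
      have h2 : c * r⁻¹ * c⁻¹ ∉ Q := fun hh => h1 ((hcN r⁻¹).mpr hh)
      have h3 : c * r⁻¹ * c⁻¹ ∈ R := (h.Rn).conj_mem r⁻¹ (R.inv_mem hr) c
      exact h34c_mul_mem_of_index_two R Q h.QR hcard2 hr h3 hrQ h2
  rw [h.comm] at hle
  have h6 : Nat.card ↥R ≤ Nat.card ↥Q := Subgroup.card_le_of_le hle
  rw [hcard, hQ4] at h6
  omega

end Mono

end Cfsg.Agent.Helper34.C3M3
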