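import Mathlib
import Cfsg.Agent.Lib.Helper32.C3Defs
import Cfsg.Agent.Lib.Helper9.C3M3Defs

/-!
# C3M3 piece K2 (helper34): the centre of `R` is `{1, z}`.
-/

set_option autoImplicit false

namespace Cfsg.Agent.Helper34.C3M3

open Cfsg.Agent.Helper32.C3 Cfsg.Agent.Helper9.C3M3

universe u v

theorem h34c_v4_trans : ∀ i j : Fin 4, ∃ τ : Equiv.Perm (Fin 4), InV4 τ ∧ τ i = j := by decide

theorem h34c_third : ∀ i j : Fin 4, ∃ k : Fin 4, k ≠ i ∧ k ≠ j := by decide

theorem h34c_prod_two : ∀ i k : Fin 4, i ≠ k →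
    ∏ x, (if x = i ∨ x = k then (-1 : (ZMod 3)ˣ) else 1) = 1 := by decide

theorem h34c_units : ∀ c : (ZMod 3)ˣ, c = 1 ∨ c = -1 := by decide

theorem h34c_neg_one_ne : (-1 : (ZMod 3)ˣ) ≠ 1 := by decide

/-- a permutation of `Fin 4` fixing (in the sense `ε i = ε (τ i)`) all sign vectors of product one is `1` -/
theorem h34c_perm_eq_one (τ : Equiv.Perm (Fin 4))
    (h : ∀ ε : Fin 4 → (ZMod 3)ˣ, ∏ i, ε i = 1 → ∀ i, ε i = ε (τ i)) : τ = 1 := by
  by_contra hne
  obtain ⟨i, hi⟩ : ∃ i, τ i ≠ i := by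
    by_contra hcon
    apply hne
    ext j
    have : τ j = j := by
      by_contra hj
      exact hcon ⟨j, hj⟩
    rw [this]; rfl
  obtain ⟨k, hki, hkt⟩ := h34c_third i (τ i)
  have h1 := h (fun x => if x = i ∨ x = k then (-1 : (ZMod 3)ˣ) else 1)
    (h34c_prod_two i k (Ne.symm hki)) i
  simp only [true_or, if_true] at h1
  have h2 : ¬ (τ i = i ∨ τ i = k) := by
    rintro (h3 | h3)
    · exact hi h3
    · exact hkt h3.symm
  rw [if_neg h2] at h1
  exact h34c_neg_one_ne h1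

section Mono

variable {G : Type u} [Group G] [Finite G] {V : Type v} [AddCommGroup V] [Module (ZMod 3) V]
  [Finite V] (ρ : Representation (ZMod 3) G V) (R Q : Subgroup G) (b : G)
  (e : Module.Basis (Fin 4) (ZMod 3) V) (π : G →* Equiv.Perm (Fin 4))
  (s : G → Fin 4 → (ZMod 3)ˣ)

theorem center_facts (hsm : ∀ g h i, s (g * h) i = s h i * s g (π h i)) (hs1 : ∀ i, s 1 i = 1)
    (hinj : ∀ g h : G, π g = π h → (∀ i, s g i = s h i) → g = h)
    (hV4 : ∀ r ∈ R, InV4 (π r))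
    (hsurj : ∀ σ : Equiv.Perm (Fin 4), InV4 σ → ∃ r ∈ R, π r = σ)
    (hall : ∀ ε : Fin 4 → (ZMod 3)ˣ, ∏ i, ε i = 1 → ∃ d ∈ R ⊓ π.ker, ∀ i, s d i = ε i)
    (z : G) (hzπ : π z = 1) (hzs : ∀ i, s z i = -1) :
    ∀ r ∈ R, (∀ r' ∈ R, r * r' = r' * r) → r = 1 ∨ r = z := by
  intro r hr hcen
  -- Step 1: `π r = 1`
  have hπr : π r = 1 := by
    apply h34c_perm_eq_one
    intro ε hε i
    obtain ⟨d, hd, hsd⟩ := hall ε hε
    have hdR : d ∈ R := hd.1
    have hdπ : π d = 1 := MonoidHom.mem_ker.mp hd.2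
    have h1 := hcen d hdR
    have h2 : s (r * d) i = s (d * r) i := by rw [h1]
    rw [hsm, hsm, hdπ, hsd, hsd] at h2
    simp only [Equiv.Perm.coe_one, id_eq] at h2
    -- h2 : ε i * s r i = s r i * ε (π r i)
    rw [mul_comm (s r i)] at h2
    exact mul_right_cancel h2
  -- Step 2: `s r` is constant
  have hconst : ∀ i j, s r i = s r j := by
    intro i j
    obtain ⟨τ, hτ, hτij⟩ := h34c_v4_trans i j
    obtain ⟨r', hr', hπr'⟩ := hsurj τ hτ
    have h1 := hcen r' hr'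
    have h2 : s (r * r') i = s (r' * r) i := by rw [h1]
    rw [hsm, hsm, hπr, hπr', hτij] at h2
    simp only [Equiv.Perm.coe_one, id_eq] at h2
    -- h2 : s r' i * s r j = s r i * s r' i
    rw [mul_comm (s r i)] at h2
    exact (mul_left_cancel h2).symm
  rcases h34c_units (s r 0) with h0 | h0
  · left
    apply hinj r 1
    · rw [hπr, map_one]
    · intro i
      rw [hconst i 0, h0, hs1]
  · right
    apply hinj r z
    · rw [hπr, hzπ]
    · intro i
      rw [hconst i 0, h0, hzs]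

end Mono

end Cfsg.Agent.Helper34.C3M3
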