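import Mathlib
import Cfsg.Agent.Lib.Helper7.CWDefs

/-!
CW (F2) for helper7's lemma server (row S0406): Parseval for the coordinate map of an orthogonal frame.
-/

set_option autoImplicit false
open Matrix

namespace Cfsg.Agent.Helper34.CW
open Cfsg Cfsg.Agent.Helper7.CW

variable {Λ : AddSubgroup V}

/-- Over `ℤ`: if `A * C` is a nonzero scalar matrix then `C * A` is the same scalar matrix. -/
theorem h34_scalar_comm (A C : Matrix (Fin 24) (Fin 24) ℤ) (c : ℤ) (hc : c ≠ 0)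
    (h : A * C = c • (1 : Matrix (Fin 24) (Fin 24) ℤ)) :
    C * A = c • (1 : Matrix (Fin 24) (Fin 24) ℤ) := by
  have hdet : C.det ≠ 0 := by
    intro h0
    have h1 : (A * C).det = c ^ 24 := by
      rw [h, Matrix.det_smul, Matrix.det_one, mul_one, Fintype.card_fin]
    rw [Matrix.det_mul, h0, mul_zero] at h1
    exact (pow_ne_zero 24 hc) h1.symm
  have hreg : IsRegular C := Matrix.isRegular_of_isLeftRegular_det (IsRegular.of_ne_zero hdet).left
  apply hreg.right
  show (C * A) * C = (c • (1 : Matrix (Fin 24) (Fin 24) ℤ)) * C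
  rw [Matrix.mul_assoc, h, Matrix.mul_smul, Matrix.mul_one, Matrix.smul_mul, Matrix.one_mul]

theorem parseval (B : Matrix (Fin 24) (Fin 24) ℤ) (hsymm : B.IsSymm) (v : Fin 24 → V)
    (hv8 : ∀ i, (v i) ⬝ᵥ (B *ᵥ (v i)) = 8)
    (hv0 : ∀ i j, i ≠ j → (v i) ⬝ᵥ (B *ᵥ (v j)) = 0) (x : V) :
    ∑ i, (coord B v x i) ^ 2 = 8 * (x ⬝ᵥ (B *ᵥ x)) := by
  classical
  let M : Matrix (Fin 24) (Fin 24) ℤ := Matrix.of v
  have hMv : ∀ i k, M i k = v i k := fun i k => rfl
  -- (M * B) * Mᵀ = 8 • 1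
  have h1 : (M * B) * Mᵀ = (8 : ℤ) • (1 : Matrix (Fin 24) (Fin 24) ℤ) := by
    ext i j
    have hij : ((M * B) * Mᵀ) i j = (v i) ⬝ᵥ (B *ᵥ (v j)) := by
      simp only [Matrix.mul_apply, Matrix.transpose_apply, dotProduct, Matrix.mulVec, hMv]
      simp only [Finset.sum_mul, Finset.mul_sum]
      rw [Finset.sum_comm]
      refine Finset.sum_congr rfl fun k _ => Finset.sum_congr rfl fun l _ => by ring
    rw [hij]
    by_cases h : i = j
    · subst h; simp [hv8]
    · simp [hv0 i j h, Matrix.one_apply_ne h]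
  have h2 : Mᵀ * (M * B) = (8 : ℤ) • (1 : Matrix (Fin 24) (Fin 24) ℤ) :=
    h34_scalar_comm (M * B) Mᵀ 8 (by norm_num) h1
  -- coord = (M * B) *ᵥ x
  have hco : ∀ i, coord B v x i = ((M * B) *ᵥ x) i := by
    intro i
    rw [coord_apply]
    simp only [Matrix.mulVec, dotProduct, Matrix.mul_apply, hMv]
    simp only [Finset.sum_mul, Finset.mul_sum]
    refine Finset.sum_congr rfl fun k _ => Finset.sum_congr rfl fun l _ => ?_
    have hs : B l k = B k l := by
      have := congrFun (congrFun hsymm k) l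
      simpa [Matrix.transpose_apply] using this
    rw [hs]; ring
  calc ∑ i, (coord B v x i) ^ 2 = ((M * B) *ᵥ x) ⬝ᵥ ((M * B) *ᵥ x) := by
        simp only [dotProduct]
        refine Finset.sum_congr rfl fun i _ => ?_
        rw [hco i, pow_two]
    _ = x ⬝ᵥ ((M * B)ᵀ *ᵥ ((M * B) *ᵥ x)) := by
        rw [Matrix.dotProduct_mulVec, ← Matrix.mulVec_transpose, dotProduct_comm]
    _ = x ⬝ᵥ ((B * (Mᵀ * (M * B))) *ᵥ x) := by
        rw [Matrix.mulVec_mulVec, Matrix.transpose_mul, hsymm.eq, Matrix.mul_assoc]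
    _ = 8 * (x ⬝ᵥ (B *ᵥ x)) := by
        rw [h2, Matrix.mul_smul, Matrix.mul_one, Matrix.smul_mulVec, dotProduct_smul, smul_eq_mul]

end Cfsg.Agent.Helper34.CW
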