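import Mathlib
import Cfsg.Prelude.Def_Transfer
import Cfsg.Agent.Lib.Helper24.CYCDefs
import Cfsg.Agent.Lib.Helper56.CYCBase

/-!
# CYC (OB3): the counting step of the odd case (helper24's lemma server for S4016)
-/

set_option autoImplicit false
set_option linter.unusedSectionVars false
set_option linter.unusedVariables false

namespace Cfsg.Agent.Helper34.CYC

open Subgroup Cfsg.Agent.Helper24.CYC Cfsg.Agent.Helper56.CYC

universe u

variable {G : Type u} [Group G] [Finite G] {p : ℕ} [Fact p.Prime]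

/-- every element of `C_G(P)` is (a `p'`-element of `C_G(P)`) times (an element of `P`) -/
theorem h34_ob3_decomp (P : Sylow p G) (K : Subgroup G)
    (hK4 : ∀ t ∈ CP P, (orderOf t).Coprime p → t ∈ K) (c : G) (hcC : c ∈ CP P) :
    ∃ k ∈ K ⊓ CP P, ∃ b ∈ (P : Subgroup G), c = k * b := by
  have hp : p.Prime := Fact.out
  obtain ⟨e, m, hm, hom⟩ :=
    Nat.exists_eq_pow_mul_and_not_dvd (orderOf_pos c).ne' p hp.ne_one
  have hpe : p ^ e ≠ 0 := pow_ne_zero _ hp.ne_zero
  have hm0 : m ≠ 0 := by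
    rintro rfl
    exact hm (dvd_zero p)
  have ho1 : orderOf (c ^ p ^ e) = m := by
    rw [orderOf_pow_of_dvd hpe (Dvd.intro _ hom.symm), hom,
      Nat.mul_div_cancel_left _ (Nat.pos_of_ne_zero hpe)]
  have ho2 : orderOf (c ^ m) = p ^ e := by
    rw [orderOf_pow_of_dvd hm0 (Dvd.intro_left _ hom.symm), hom,
      Nat.mul_div_cancel _ (Nat.pos_of_ne_zero hm0)]
  have h1 : c ^ p ^ e ∈ K ⊓ CP P := by
    have hmem : c ^ p ^ e ∈ CP P := (CP P).pow_mem hcC _
    refine ⟨hK4 _ hmem ?_, hmem⟩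
    rw [ho1]
    exact Nat.Coprime.symm ((Nat.Prime.coprime_iff_not_dvd hp).2 hm)
  have h2 : c ^ m ∈ (P : Subgroup G) := by
    apply h56_mem_sylow_of_mem_normalizer P
      ((NP P).pow_mem (Subgroup.centralizer_le_normalizer _ hcC) _)
    exact h56_isPGroup_zpowers _ e ho2
  have hcop : Nat.gcd (p ^ e) m = 1 :=
    Nat.Coprime.pow_left _ ((Nat.Prime.coprime_iff_not_dvd hp).2 hm)
  have hb := Nat.gcd_eq_gcd_ab (p ^ e) m
  rw [hcop] at hb
  refine ⟨(c ^ p ^ e) ^ (Nat.gcdA (p ^ e) m), (K ⊓ CP P).zpow_mem h1 _,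
    (c ^ m) ^ (Nat.gcdB (p ^ e) m), (P : Subgroup G).zpow_mem h2 _, ?_⟩
  rw [← zpow_natCast c (p ^ e), ← zpow_natCast c m, ← zpow_mul, ← zpow_mul, ← zpow_add, ← hb]
  simp

/-- `|C_G(P)| ≤ |K ∩ C_G(P)| |P|` -/
theorem h34_ob3_card_CP (P : Sylow p G) (K : Subgroup G)
    (hK4 : ∀ t ∈ CP P, (orderOf t).Coprime p → t ∈ K) :
    Nat.card (CP P) ≤ Nat.card (K ⊓ CP P : Subgroup G) * Nat.card (P : Subgroup G) := by
  classical
  have hdec : ∀ c : ↥(CP P), ∃ x : ↥(K ⊓ CP P) × ↥(P : Subgroup G),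
      (c : G) = (x.1 : G) * (x.2 : G) := by
    intro c
    obtain ⟨k, hk, b, hb, hcb⟩ := h34_ob3_decomp P K hK4 (c : G) c.2
    exact ⟨(⟨k, hk⟩, ⟨b, hb⟩), hcb⟩
  choose f hf using hdec
  have hinj : Function.Injective f := by
    intro c c' hcc
    apply Subtype.ext
    rw [hf c, hf c', hcc]
  have := Nat.card_le_card_of_injective f hinj
  rwa [Nat.card_prod] at this

/-- conjugation by an element of `N_G(R)` preserves `C_G(R)` -/
theorem h34_ob3_conj_mem_ctr {R : Subgroup G} {w k : G} (hw : w ∈ nrm R) (hk : k ∈ ctr R) :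
    w * k * w⁻¹ ∈ ctr R := by
  rw [Subgroup.mem_centralizer_iff] at hk ⊢
  intro r hr
  have hr' : w⁻¹ * r * w ∈ (R : Set G) := (Subgroup.mem_normalizer_iff''.1 hw r).1 hr
  have h1 := hk _ hr'
  calc r * (w * k * w⁻¹) = w * ((w⁻¹ * r * w) * k) * w⁻¹ := by group
    _ = w * (k * (w⁻¹ * r * w)) * w⁻¹ := by rw [h1]
    _ = w * k * w⁻¹ * r := by group

/-- two nontrivial elements of `K₀ = C_G(R) ∩ C_G(P)` are not conjugate under `v ^ i`, `0 < i < p` -/
theorem h34_ob3_no_conj (hC : Core p G) (P : Sylow p G) (K : Subgroup G) (hK2 : ¬ p ∣ Nat.card K)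
    (w : G) (hw : w ∉ NP P) {h h' : G} (hh : h ∈ K ⊓ CP P) (hh1 : h ≠ 1)
    (hh' : h' ∈ K ⊓ CP P) (hh'1 : h' ≠ 1) (heq : h = w * h' * w⁻¹) : False := by
  have hp : p.Prime := Fact.out
  obtain ⟨a, ha, ha1⟩ := h56_exists_ne_one hC.c1.min.pdvd P
  have hcopK : ∀ x ∈ K, (orderOf x).Coprime p := by
    intro x hx
    have hdiv : orderOf x ∣ Nat.card ↥K := by
      rw [← Subgroup.orderOf_mk x hx]
      exact orderOf_dvd_natCard _
    exact Nat.Coprime.symm ((Nat.Prime.coprime_iff_not_dvd hp).2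
      (fun hd => hK2 (dvd_trans hd hdiv)))
  have hcomm : ∀ x ∈ CP P, a * x = x * a := by
    intro x hx
    exact Subgroup.mem_centralizer_iff.1 hx a ha
  have hk1 := hC.key P a h ha ha1 hh1 (hcopK h hh.1) (hcomm h hh.2)
  have hk2 := hC.key P a h' ha ha1 hh'1 (hcopK h' hh'.1) (hcomm h' hh'.2)
  apply hw
  have hmem : w ∈ Subgroup.normalizer ((NP P : Subgroup G) : Set G) := by
    rw [Subgroup.mem_set_normalizer_iff]
    intro n
    change n ∈ NP P ↔ w * n * w⁻¹ ∈ NP P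
    have e1 : n ∈ NP P ↔ n ∈ Subgroup.centralizer ({h'} : Set G) := by rw [hk2]
    have e2 : w * n * w⁻¹ ∈ NP P ↔ w * n * w⁻¹ ∈ Subgroup.centralizer ({h} : Set G) := by rw [hk1]
    rw [e1, e2, Subgroup.mem_centralizer_iff, Subgroup.mem_centralizer_iff]
    simp only [Set.mem_singleton_iff, forall_eq]
    rw [heq]
    constructor
    · intro h3
      calc w * h' * w⁻¹ * (w * n * w⁻¹) = w * (h' * n) * w⁻¹ := by group
        _ = w * (n * h') * w⁻¹ := by rw [h3]
        _ = w * n * w⁻¹ * (w * h' * w⁻¹) := by group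
    · intro h3
      calc h' * n = w⁻¹ * (w * h' * w⁻¹ * (w * n * w⁻¹)) * w := by group
        _ = w⁻¹ * (w * n * w⁻¹ * (w * h' * w⁻¹)) * w := by rw [h3]
        _ = n * h' := by group
  have h5 : Subgroup.normalizer ((NP P : Subgroup G) : Set G) = NP P := Sylow.normalizer_normalizer P
  rw [h5] at hmem
  exact hmem

/-- (OB3) the counting step -/
theorem odd_count (hC : Core p G) (P : Sylow p G) (R : Subgroup G)
    (hK1 : ctr R ≤ NP P) (hK2 : ¬ p ∣ Nat.card (ctr R)) (hK3 : Nat.card (ctr R) * Nat.card P = Nat.card (NP P))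
    (hK4 : ∀ t ∈ CP P, (orderOf t).Coprime p → t ∈ ctr R)
    (v : G) (hv : orderOf v = p) (hvR : v ∈ nrm R) (hvN : ∀ i : ℕ, 0 < i → i < p → v ^ i ∉ NP P) :
    p * Nat.card (CP P) + Nat.card P ≤ Nat.card (NP P) + p * Nat.card P := by
  classical
  have hA : Nat.card (CP P) ≤ Nat.card (ctr R ⊓ CP P : Subgroup G) * Nat.card P :=
    h34_ob3_card_CP P (ctr R) hK4
  have hconj : ∀ (i : ℕ) (k : G), k ∈ ctr R → v ^ i * k * (v ^ i)⁻¹ ∈ ctr R := fun i k hk =>
    h34_ob3_conj_mem_ctr ((nrm R).pow_mem hvR i) hk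
  -- the key step
  have hkey1 : ∀ (i d : ℕ), i + d + 1 < p → ∀ h h' : G, h ∈ ctr R ⊓ CP P → h ≠ 1 →
      h' ∈ ctr R ⊓ CP P → h' ≠ 1 →
      v ^ i * h * (v ^ i)⁻¹ = v ^ (i + d + 1) * h' * (v ^ (i + d + 1))⁻¹ → False := by
    intro i d hlt h h' hh hh1 hh' hh'1 heq
    apply h34_ob3_no_conj hC P (ctr R) hK2 (v ^ (d + 1)) (hvN (d + 1) (by omega) (by omega))
      hh hh1 hh' hh'1
    have e1 : v ^ (i + d + 1) = v ^ i * v ^ (d + 1) := by rw [← pow_add, add_assoc]
    rw [e1] at heq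
    generalize v ^ i = x at heq
    generalize v ^ (d + 1) = y at heq
    calc h = x⁻¹ * (x * h * x⁻¹) * x := by group
      _ = x⁻¹ * (x * y * h' * (x * y)⁻¹) * x := by rw [heq]
      _ = y * h' * y⁻¹ := by group
  have hkey : ∀ (i j : ℕ), i < p → j < p → ∀ h h' : G, h ∈ ctr R ⊓ CP P → h ≠ 1 →
      h' ∈ ctr R ⊓ CP P → h' ≠ 1 →
      v ^ i * h * (v ^ i)⁻¹ = v ^ j * h' * (v ^ j)⁻¹ → i = j := by
    intro i j hi hj h h' hh hh1 hh' hh'1 heq
    by_contra hij
    rcases Nat.lt_or_gt_of_ne hij with hlt | hlt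
    · obtain ⟨d, rfl⟩ := Nat.exists_eq_add_of_lt hlt
      exact hkey1 i d hj h h' hh hh1 hh' hh'1 heq
    · obtain ⟨d, rfl⟩ := Nat.exists_eq_add_of_lt hlt
      exact hkey1 j d hi h' h hh' hh'1 hh hh1 heq.symm
  -- the injection
  let φ : (Fin p × ↥(ctr R ⊓ CP P : Subgroup G)) ⊕ Unit → ↥(ctr R) ⊕ Fin p := fun x =>
    match x with
    | Sum.inl (i, h) => if (h : G) = 1 then Sum.inr i else
        Sum.inl ⟨v ^ (i : ℕ) * (h : G) * (v ^ (i : ℕ))⁻¹, hconj i h h.2.1⟩
    | Sum.inr _ => Sum.inl 1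
  have hφ : Function.Injective φ := by
    rintro (⟨i, h⟩ | u) (⟨j, h'⟩ | u') hxy
    · simp only [φ] at hxy
      by_cases h1 : (h : G) = 1 <;> by_cases h2 : (h' : G) = 1
      · rw [if_pos h1, if_pos h2] at hxy
        have hij : i = j := Sum.inr.inj hxy
        have hhh : h = h' := Subtype.ext (h1.trans h2.symm)
        rw [hij, hhh]
      · rw [if_pos h1, if_neg h2] at hxy
        exact absurd hxy (by simp)
      · rw [if_neg h1, if_pos h2] at hxy
        exact absurd hxy (by simp)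
      · rw [if_neg h1, if_neg h2] at hxy
        have heq : v ^ (i : ℕ) * (h : G) * (v ^ (i : ℕ))⁻¹ =
            v ^ (j : ℕ) * (h' : G) * (v ^ (j : ℕ))⁻¹ :=
          congrArg Subtype.val (Sum.inl.inj hxy)
        have hij : (i : ℕ) = j := hkey i j i.2 j.2 h h' h.2 h1 h'.2 h2 heq
        have hij' : i = j := Fin.ext hij
        subst hij'
        have hhh : (h : G) = h' := mul_left_cancel (mul_right_cancel heq)
        rw [Subtype.ext hhh]
    · simp only [φ] at hxy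
      by_cases h1 : (h : G) = 1
      · rw [if_pos h1] at hxy
        exact absurd hxy (by simp)
      · rw [if_neg h1] at hxy
        have heq : v ^ (i : ℕ) * (h : G) * (v ^ (i : ℕ))⁻¹ = 1 :=
          congrArg Subtype.val (Sum.inl.inj hxy)
        exfalso
        apply h1
        generalize v ^ (i : ℕ) = x at heq
        calc (h : G) = x⁻¹ * (x * h * x⁻¹) * x := by group
          _ = 1 := by rw [heq]; group
    · simp only [φ] at hxy
      by_cases h1 : (h' : G) = 1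
      · rw [if_pos h1] at hxy
        exact absurd hxy (by simp)
      · rw [if_neg h1] at hxy
        have heq : (1 : G) = v ^ (j : ℕ) * (h' : G) * (v ^ (j : ℕ))⁻¹ :=
          congrArg Subtype.val (Sum.inl.inj hxy)
        exfalso
        apply h1
        generalize v ^ (j : ℕ) = x at heq
        calc (h' : G) = x⁻¹ * (x * h' * x⁻¹) * x := by group
          _ = 1 := by rw [← heq]; group
    · rfl
  have hcard := Nat.card_le_card_of_injective φ hφ
  have hU : Nat.card Unit = 1 := Nat.card_unique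
  rw [Nat.card_sum, Nat.card_sum, Nat.card_prod, Nat.card_fin, hU] at hcard
  calc p * Nat.card (CP P) + Nat.card P
      ≤ p * (Nat.card (ctr R ⊓ CP P : Subgroup G) * Nat.card P) + Nat.card P :=
        Nat.add_le_add_right (Nat.mul_le_mul_left p hA) _
    _ = (p * Nat.card (ctr R ⊓ CP P : Subgroup G) + 1) * Nat.card P := by ring
    _ ≤ (Nat.card (ctr R) + p) * Nat.card P := Nat.mul_le_mul_right _ hcard
    _ = Nat.card (NP P) + p * Nat.card P := by rw [← hK3]; ring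

end Cfsg.Agent.Helper34.CYC
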