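import Mathlib
import Cfsg.Prelude.Def_Transfer
import Cfsg.Agent.Lib.Helper24.CYCDefs

/-!
# CYC (R0): the hypotheses of S4016 pass to subgroups (helper24's lemma server)
-/

set_option autoImplicit false
set_option linter.unusedSectionVars false

namespace Cfsg.Agent.Helper34.CYC

open Subgroup Cfsg.Agent.Helper24.CYC

universe u

variable {G : Type u} [Group G] [Finite G] {p : ℕ} [Fact p.Prime]

/-- (R0) the hypotheses pass to subgroups -/
theorem hyp_subgroup (h : Hyp p G) (H : Subgroup G) : Hyp p H := by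
  obtain ⟨hcyc, hab⟩ := h
  refine ⟨fun Q => ?_, fun K hK => ?_⟩
  · -- a Sylow subgroup of `H` embeds in a Sylow subgroup of `G`
    have hQ : IsPGroup p ((Q : Subgroup ↥H).map H.subtype) := Q.isPGroup'.map _
    obtain ⟨P, hP⟩ := hQ.exists_le_sylow
    have := hcyc P
    let f : ↥(Q : Subgroup ↥H) →* ↥(P : Subgroup G) :=
      (H.subtype.comp (Q : Subgroup ↥H).subtype).codRestrict (P : Subgroup G)
        (fun x => hP (Subgroup.mem_map_of_mem _ x.2))
    have hf : Function.Injective f := by
      intro x y hxy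
      have h1 : ((x : ↥H) : G) = ((y : ↥H) : G) := congrArg (fun z : ↥(P : Subgroup G) => (z : G)) hxy
      exact Subtype.ext (Subtype.ext h1)
    exact isCyclic_of_injective f hf
  · have hcard : Nat.card ↥(K.map H.subtype) = Nat.card ↥K :=
      Subgroup.card_map_of_injective H.subtype_injective
    have hc := hab (K.map H.subtype) (by rw [hcard]; exact hK)
    refine ⟨⟨fun a b => ?_⟩⟩
    have h1 := hc.is_comm.comm ⟨((a : ↥H) : G), Subgroup.mem_map_of_mem _ a.2⟩
      ⟨((b : ↥H) : G), Subgroup.mem_map_of_mem _ b.2⟩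
    have h2 : ((a : ↥H) : G) * ((b : ↥H) : G) = ((b : ↥H) : G) * ((a : ↥H) : G) :=
      congrArg (fun z : ↥(K.map H.subtype) => (z : G)) h1
    exact Subtype.ext (Subtype.ext h2)

end Cfsg.Agent.Helper34.CYC
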