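import Mathlib
import Cfsg.Agent.Lib.Helper17.PrimeTI
import Cfsg.Agent.Lib.Helper17.PrimeTIApp
import Cfsg.Agent.Lib.Helper17.Simple
import Cfsg.Agent.Lib.Helper79.LinearChars

/-!
# Two-prime argument with exceptional characters (helper34)

* `h34_dihedral_exc`: `Helper17.PrimeTI.dihedral_normalizer_degrees` keeping the set `E` of the
  `t = (p - 1) / 2` exceptional characters and their common degree `d = x ± 1`.
* `h34_card_le_of_not_dvd`: if `P` of prime order `p` is self-centralizing with `|N(P)| = 2 p`, then at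
  most `t + 1` nontrivial irreducible characters have degree prime to `p`
  (the principal `p`-block has `2 + t` characters).
-/

set_option autoImplicit false
set_option linter.style.haveILetI false
set_option linter.unusedSectionVars false

namespace Cfsg.Agent.Helper34.DihExc

open Cfsg Cfsg.Agent.Helper17.PrimeTI
open scoped ComplexConjugate commutatorElement

universe u

/-- **Dihedral normalizer, with the exceptional characters**. -/
theorem h34_dihedral_exc {G : Type u} [Group G] [Fintype G]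
    (hperf : commutator G = ⊤) (P : Subgroup G) (p t : ℕ) [hp : Fact p.Prime]
    (hP : Nat.card P = p) (hC : Subgroup.centralizer (P : Set G) = P)
    (hN : Nat.card (Subgroup.normalizer (P : Set G)) = p * 2) (hte : t * 2 + 1 = p)
    (ht : 2 ≤ t) :
    ∃ (E : Finset (IrrCharacter G)) (x d : ℕ), E.card = t ∧
      (∀ ψ ∈ E, charDegree (ψ : G → ℂ) = d) ∧ (∀ ψ ∈ E, (ψ : G → ℂ) ≠ fun _ => 1) ∧
      1 < x ∧ x ∣ Nat.card G ∧ d ∣ Nat.card G ∧
      ((p ∣ x - 1 ∧ d = x + 1) ∨ (p ∣ x + 1 ∧ d = x - 1)) := by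
  classical
  obtain ⟨w, d, E, a, hEcard, hEdeg, hEne, haE, haK, hcong, hnorm, hdegeq⟩ :=
    prime_degree_equation P p 2 t hP hC hN le_rfl hte ht
  set ψ1 : IrrCharacter G := ⟨fun _ => 1, Cfsg.Agent.Helper81.isIrrCharacter_one⟩ with hψ1
  have hψ1E : ψ1 ∉ E := fun h => hEne ψ1 h rfl
  obtain ⟨k, hk, hk1⟩ := exists_ne_one_of_prime_card P hP
  have ha1 : a ψ1 = 1 := by
    have h := haK ψ1 hψ1E k hk hk1
    have h' : ((1 : ℤ) : ℂ) = ((a ψ1 : ℤ) : ℂ) := by
      rw [← h]; simp [hψ1]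
    exact_mod_cast h'.symm
  have hdeg1 : charDegree (ψ1 : G → ℂ) = 1 := charDegree_one
  have hd : d ∣ Nat.card G := by
    obtain ⟨ψ, hψ⟩ := Finset.card_pos.1 (by omega : 0 < E.card)
    rw [← hEdeg ψ hψ]
    exact Cfsg.Agent.Helper79.irr_degree_dvd_card ψ
  have hsplit1 := Finset.add_sum_erase Finset.univ (fun ψ => (a ψ) ^ 2) (Finset.mem_univ ψ1)
  have hsplit2 := Finset.add_sum_erase Finset.univ
    (fun ψ => a ψ * (charDegree (ψ : G → ℂ) : ℤ)) (Finset.mem_univ ψ1)
  simp only [ha1, hdeg1] at hsplit1 hsplit2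
  have hrest : 0 ≤ ∑ ψ ∈ Finset.univ.erase ψ1, (a ψ) ^ 2 :=
    Finset.sum_nonneg (fun i _ => sq_nonneg _)
  rw [← hsplit1] at hnorm
  rw [← hsplit2] at hdegeq
  have hp2 : (p : ℤ) = 2 * t + 1 := by rw [← hte]; push_cast; ring
  have ht' : (2 : ℤ) ≤ t := by exact_mod_cast ht
  have hle1 : ∑ ψ ∈ Finset.univ.erase ψ1, (a ψ) ^ 2 ≤ 1 := by
    by_contra hgt
    push Not at hgt
    have h2 : (2 : ℤ) ≤ ∑ ψ ∈ Finset.univ.erase ψ1, (a ψ) ^ 2 := hgt
    nlinarith [sq_nonneg w]
  have hcases : ∑ ψ ∈ Finset.univ.erase ψ1, (a ψ) ^ 2 = 0 ∨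
      ∑ ψ ∈ Finset.univ.erase ψ1, (a ψ) ^ 2 = 1 := by omega
  rcases hcases with h0 | h1
  · -- only the trivial character: impossible
    exfalso
    have hz := all_zero _ a h0
    have hs0 : ∑ ψ ∈ Finset.univ.erase ψ1, a ψ * (charDegree (ψ : G → ℂ) : ℤ) = 0 :=
      Finset.sum_eq_zero (fun ψ hψ => by rw [hz ψ hψ, zero_mul])
    rw [hs0] at hdegeq
    rw [h0] at hnorm
    push_cast at hdegeq
    have hdw : (d : ℤ) * w = -1 := by linarith
    have hd0 : (0 : ℤ) ≤ d := by positivity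
    have hd1 : (1 : ℤ) ≤ d := by
      by_contra h
      have h0 : (d : ℤ) = 0 := by omega
      rw [h0] at hdw
      simp at hdw
    have hwneg : w ≤ -1 := by
      by_contra h
      push Not at h
      have : 0 ≤ w := by omega
      nlinarith
    have hwge : -1 ≤ w := by
      by_contra h
      push Not at h
      have : w ≤ -2 := by omega
      nlinarith
    have hw1 : w = -1 := by omega
    rw [hw1] at hnorm
    nlinarith
  · -- one more character
    obtain ⟨X, hX, haX, hrest0⟩ := peel (Finset.univ.erase ψ1) a 0 (by norm_num)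
      (by rw [h1]; norm_num)
    have hXne : X ≠ ψ1 := (Finset.mem_erase.1 hX).1
    have hz := all_zero _ a (by exact_mod_cast hrest0)
    have hsplit3 := Finset.add_sum_erase (Finset.univ.erase ψ1)
      (fun ψ => a ψ * (charDegree (ψ : G → ℂ) : ℤ)) hX
    have hs0 : ∑ ψ ∈ (Finset.univ.erase ψ1).erase X, a ψ * (charDegree (ψ : G → ℂ) : ℤ) = 0 :=
      Finset.sum_eq_zero (fun ψ hψ => by rw [hz ψ hψ, zero_mul])
    rw [hs0, add_zero] at hsplit3
    rw [← hsplit3] at hdegeq
    push_cast at hdegeq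
    rw [h1] at hnorm
    have hw1 : w ^ 2 = 1 := by nlinarith
    have hw : w = 1 ∨ w = -1 := by
      have h : (w - 1) * (w + 1) = 0 := by ring_nf; linarith
      rcases mul_eq_zero.1 h with h | h
      · left; linarith
      · right; linarith
    have hXE : X ∉ E := by
      intro h
      have := haE X h
      rcases haX with h' | h' <;> rw [h'] at this <;> norm_num at this
    have hxdvd : charDegree (X : G → ℂ) ∣ Nat.card G := Cfsg.Agent.Helper79.irr_degree_dvd_card X
    have hxpos : 0 < charDegree (X : G → ℂ) := (Cfsg.Agent.Helper79.irr_one_eq X).2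
    have hx1 : charDegree (X : G → ℂ) ≠ 1 := by
      intro h
      apply hXne
      apply Subtype.ext
      exact linear_trivial_of_perfect hperf X h
    have hcX := hcong X hXE
    refine ⟨E, charDegree (X : G → ℂ), d, hEcard, hEdeg, hEne, by omega, hxdvd, hd, ?_⟩
    set x := charDegree (X : G → ℂ) with hx
    have hd0 : (0 : ℤ) ≤ d := by positivity
    have hx2 : (2 : ℤ) ≤ x := by omega
    rcases haX with haX | haX
    · -- a X = 1
      left
      rw [haX] at hcX hdegeq
      rcases hw with hw | hw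
      · rw [hw] at hdegeq; nlinarith
      · rw [hw] at hdegeq
        have hdx : d = x + 1 := by omega
        refine ⟨?_, hdx⟩
        have : ((x - 1 : ℕ) : ℤ) = (x : ℤ) - 1 := by
          rw [Nat.cast_sub (by omega)]; simp
        exact_mod_cast (this ▸ hcX)
    · -- a X = -1
      right
      rw [haX] at hcX hdegeq
      rcases hw with hw | hw
      · rw [hw] at hdegeq
        have hdx : d = x - 1 := by omega
        refine ⟨?_, hdx⟩
        have : ((x + 1 : ℕ) : ℤ) = (x : ℤ) - (-1) := by push_cast; ring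
        exact_mod_cast (this ▸ hcX)
      · rw [hw] at hdegeq; nlinarith

/-- **Few characters of degree prime to `p`** when `P` of order `p` is self-centralizing with
`|N(P)| = 2 p`: a set of nontrivial irreducible characters of degree prime to `p` has at most
`t + 1` elements, `t = (p - 1) / 2`. -/
theorem h34_card_le_of_not_dvd {G : Type u} [Group G] [Fintype G]
    (P : Subgroup G) (p t : ℕ) [hp : Fact p.Prime]
    (hP : Nat.card P = p) (hC : Subgroup.centralizer (P : Set G) = P)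
    (hN : Nat.card (Subgroup.normalizer (P : Set G)) = p * 2) (hte : t * 2 + 1 = p)
    (ht : 2 ≤ t) (F : Finset (IrrCharacter G))
    (hF1 : ∀ ψ ∈ F, (ψ : G → ℂ) ≠ fun _ => 1)
    (hFp : ∀ ψ ∈ F, ¬ p ∣ charDegree (ψ : G → ℂ)) : F.card ≤ t + 1 := by
  classical
  obtain ⟨w, d, E, a, hEcard, hEdeg, hEne, haE, haK, hcong, hnorm, hdegeq⟩ :=
    prime_degree_equation P p 2 t hP hC hN le_rfl hte ht
  set ψ1 : IrrCharacter G := ⟨fun _ => 1, Cfsg.Agent.Helper81.isIrrCharacter_one⟩ with hψ1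
  have hψ1E : ψ1 ∉ E := fun h => hEne ψ1 h rfl
  have hψ1F : ψ1 ∉ F := fun h => hF1 ψ1 h rfl
  obtain ⟨k, hk, hk1⟩ := exists_ne_one_of_prime_card P hP
  have ha1 : a ψ1 = 1 := by
    have h := haK ψ1 hψ1E k hk hk1
    have h' : ((1 : ℤ) : ℂ) = ((a ψ1 : ℤ) : ℂ) := by
      rw [← h]; simp [hψ1]
    exact_mod_cast h'.symm
  -- the characters of `F` outside `E` have `a ≠ 0`
  have hane : ∀ ψ ∈ F \ E, 1 ≤ (a ψ) ^ 2 := by
    intro ψ hψ
    rw [Finset.mem_sdiff] at hψ
    have h0 : a ψ ≠ 0 := by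
      intro h0
      have h1 := hcong ψ hψ.2
      rw [h0, sub_zero] at h1
      exact hFp ψ hψ.1 (by exact_mod_cast h1)
    have : 0 < (a ψ) ^ 2 := by positivity
    omega
  have hsub : insert ψ1 (F \ E) ⊆ Finset.univ := Finset.subset_univ _
  have hψ1FE : ψ1 ∉ F \ E := fun h => hψ1F (Finset.mem_sdiff.1 h).1
  have hsum1 : ∑ ψ ∈ insert ψ1 (F \ E), (a ψ) ^ 2 ≤ ∑ ψ : IrrCharacter G, (a ψ) ^ 2 :=
    Finset.sum_le_sum_of_subset_of_nonneg hsub (fun i _ _ => sq_nonneg _)
  rw [Finset.sum_insert hψ1FE, ha1] at hsum1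
  have hsum2 : ((F \ E).card : ℤ) ≤ ∑ ψ ∈ F \ E, (a ψ) ^ 2 := by
    have := Finset.sum_le_sum hane
    simpa using this
  have hp2 : (p : ℤ) = 2 * t + 1 := by rw [← hte]; push_cast; ring
  have ht' : (2 : ℤ) ≤ t := by exact_mod_cast ht
  have hS2 : ∑ ψ : IrrCharacter G, (a ψ) ^ 2 ≤ 2 := by
    by_contra hgt
    push Not at hgt
    have h3 : (3 : ℤ) ≤ ∑ ψ : IrrCharacter G, (a ψ) ^ 2 := hgt
    nlinarith [sq_nonneg w]
  have hFE : ((F \ E).card : ℤ) ≤ 1 := by linarith
  have hFE' : (F \ E).card ≤ 1 := by exact_mod_cast hFE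
  have hcard : F.card ≤ (F \ E).card + E.card := by
    have h1 : F ⊆ (F \ E) ∪ E := by
      intro ψ hψ
      by_cases h : ψ ∈ E
      · exact Finset.mem_union_right _ h
      · exact Finset.mem_union_left _ (Finset.mem_sdiff.2 ⟨hψ, h⟩)
    exact (Finset.card_le_card h1).trans (Finset.card_union_le _ _)
  omega

end Cfsg.Agent.Helper34.DihExc
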