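import Mathlib

/-!
# Odd-order automorphisms of subgroups of dihedral 2-groups (helper34)

`DihLike D`: the subgroup `D` has a cyclic subgroup `R` such that the product of two elements
of `D` outside `R` lies in `R` and every element of `D` outside `R` squares to `1`.
Main results:
* `centralizes_cyclic_two`: an odd-order element normalizing a cyclic 2-subgroup centralizes it.
* `DihLike.centralizes_of_sq_ne_one`: an odd-order element normalizing a 2-subgroup `U ≤ D`
  that is not of exponent 2 centralizes it.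
* `DihLike.card_le_four`: a subgroup of exponent 2 of `D` has at most four elements.
* `DihLike.centralizes_of_fixed`: exponent 2 case with a fixed non-identity element.
* `dihLike_of_equiv`: a subgroup isomorphic to `DihedralGroup n` is `DihLike`.
-/

set_option autoImplicit false

namespace Cfsg.Agent.Helper34.Dih

open Subgroup

variable {X : Type*} [Group X]

/-- one-sided normalizer criterion in a finite group -/
theorem mem_normalizer_of_conj_mem' [Finite X] (Y : Subgroup X) (g : X)
    (h : ∀ y ∈ Y, g * y * g⁻¹ ∈ Y) : g ∈ Subgroup.normalizer (Y : Set X) := by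
  have hpow : ∀ k : ℕ, ∀ y ∈ Y, g ^ k * y * (g ^ k)⁻¹ ∈ Y := by
    intro k
    induction k with
    | zero => intro y hy; simpa using hy
    | succ k ih =>
      intro y hy
      have := h _ (ih y hy)
      have e : g ^ (k + 1) * y * (g ^ (k + 1))⁻¹ = g * (g ^ k * y * (g ^ k)⁻¹) * g⁻¹ := by
        rw [pow_succ']; group
      rw [e]; exact this
  rw [Subgroup.mem_normalizer_iff]
  intro y
  refine ⟨h y, fun hy => ?_⟩
  -- g⁻¹ = g ^ (orderOf g - 1)
  have hg : g⁻¹ = g ^ (orderOf g - 1) := by
    have h1 : g ^ (orderOf g - 1) * g = 1 := by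
      rw [← pow_succ, Nat.sub_add_cancel (orderOf_pos g), pow_orderOf_eq_one]
    exact (eq_inv_of_mul_eq_one_left h1).symm ▸ rfl
  have := hpow (orderOf g - 1) _ hy
  rw [← hg] at this
  simpa [mul_assoc] using this

/-- An element of odd order normalizing a cyclic `2`-subgroup centralizes it. -/
theorem centralizes_cyclic_two [Finite X] (Z : Subgroup X) [hZc : IsCyclic Z] (hZ : IsPGroup 2 Z)
    (g : X) (hg : g ∈ Subgroup.normalizer (Z : Set X)) (hgo : (orderOf g).Coprime 2) :
    g ∈ Subgroup.centralizer (Z : Set X) := by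
  have : Fact (Nat.Prime 2) := ⟨Nat.prime_two⟩
  set f := Z.normalizerMonoidHom with hf
  set g' : Subgroup.normalizer (Z : Set X) := ⟨g, hg⟩ with hg'
  have h1 : orderOf (f g') ∣ orderOf g := by
    have := orderOf_map_dvd f g'
    rwa [hg', Subgroup.orderOf_mk] at this
  have h2 : orderOf (f g') ∣ Nat.card (MulAut Z) := orderOf_dvd_natCard _
  obtain ⟨k, hk⟩ := IsPGroup.iff_card.mp hZ
  have h3 : ∃ j, Nat.card (MulAut Z) = 2 ^ j := by
    rw [IsCyclic.card_mulAut, hk]
    rcases Nat.eq_zero_or_pos k with h0 | h0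
    · exact ⟨0, by rw [h0]; simp⟩
    · exact ⟨k - 1, by rw [Nat.totient_prime_pow Nat.prime_two h0]; simp⟩
  obtain ⟨j, hj⟩ := h3
  rw [hj] at h2
  have h4 : orderOf (f g') = 1 := by
    have hc : (orderOf (f g')).Coprime (2 ^ j) :=
      Nat.Coprime.pow_right j (Nat.Coprime.coprime_dvd_left h1 hgo)
    exact Nat.eq_one_of_dvd_coprimes hc dvd_rfl h2 |>.symm ▸ rfl
  have h5 : f g' = 1 := orderOf_eq_one_iff.mp h4
  have h6 : g' ∈ f.ker := h5
  rw [hf, Subgroup.normalizerMonoidHom_ker, Subgroup.mem_subgroupOf] at h6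
  exact h6

/-- `D` is "dihedral-like". -/
def DihLike (D : Subgroup X) : Prop :=
  ∃ R : Subgroup X, R ≤ D ∧ IsCyclic R ∧
    (∀ x ∈ D, ∀ y ∈ D, x ∉ R → y ∉ R → x * y ∈ R) ∧ ∀ x ∈ D, x ∉ R → x * x = 1


/-- conjugation by a power -/
theorem conj_pow_eq (g u c : X) (hu : g * u * g⁻¹ = u * c) (hc : g * c * g⁻¹ = c) (k : ℕ) :
    g ^ k * u * (g ^ k)⁻¹ = u * c ^ k := by
  induction k with
  | zero => simp
  | succ k ih =>
    have e : g ^ (k + 1) * u * (g ^ (k + 1))⁻¹ = g * (g ^ k * u * (g ^ k)⁻¹) * g⁻¹ := by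
      rw [pow_succ']; group
    have hck : g * c ^ k * g⁻¹ = c ^ k := by
      have : g * c ^ k * g⁻¹ = (g * c * g⁻¹) ^ k := by
        rw [conj_pow]
      rw [this, hc]
    rw [e, ih]
    calc g * (u * c ^ k) * g⁻¹ = (g * u * g⁻¹) * (g * c ^ k * g⁻¹) := by group
      _ = u * c * c ^ k := by rw [hu, hck]
      _ = u * c ^ (k + 1) := by rw [pow_succ', mul_assoc]

/-- **Lemma A.** An odd-order element normalizing a `2`-subgroup `U` of a dihedral-like group,
where `U` contains an element whose square is not `1`, centralizes `U`. -/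
theorem DihLike.centralizes_of_sq_ne_one [Finite X] {D : Subgroup X} (hD : DihLike D)
    (U : Subgroup X) (hUD : U ≤ D) (hU2 : IsPGroup 2 U) (g : X)
    (hg : g ∈ Subgroup.normalizer (U : Set X)) (hgo : (orderOf g).Coprime 2)
    (hv : ∃ v ∈ U, v * v ≠ 1) : g ∈ Subgroup.centralizer (U : Set X) := by
  obtain ⟨R, hRD, hRc, hmul, hinv⟩ := hD
  obtain ⟨v, hvU, hv1⟩ := hv
  have hnorm := Subgroup.mem_normalizer_iff.mp hg
  -- elements with nontrivial square lie in R
  have hRmem : ∀ x ∈ U, x * x ≠ 1 → x ∈ R := by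
    intro x hx hx1
    by_contra hxR
    exact hx1 (hinv x (hUD hx) hxR)
  set U0 : Subgroup X := U ⊓ R with hU0
  have hU0c : IsCyclic U0 := Subgroup.isCyclic_of_le (inf_le_right : U0 ≤ R)
  have hU02 : IsPGroup 2 U0 := hU2.to_le inf_le_left
  obtain ⟨⟨c, hcU0⟩, hcgen⟩ := hU0c.exists_generator
  have hcU : c ∈ U := (Subgroup.mem_inf.mp hcU0).1
  have hcR : c ∈ R := (Subgroup.mem_inf.mp hcU0).2
  -- every element of U0 is a power of c
  have hpowc : ∀ x ∈ U0, ∃ k : ℤ, c ^ k = x := by
    intro x hx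
    obtain ⟨k, hk⟩ := Subgroup.mem_zpowers_iff.mp (hcgen ⟨x, hx⟩)
    refine ⟨k, ?_⟩
    have := congrArg Subtype.val hk
    simpa using this
  -- c * c ≠ 1
  have hcc : c * c ≠ 1 := by
    intro hcc
    have hvU0 : v ∈ U0 := Subgroup.mem_inf.mpr ⟨hvU, hRmem v hvU hv1⟩
    obtain ⟨k, hk⟩ := hpowc v hvU0
    apply hv1
    rw [← hk, ← zpow_add, ← two_mul, zpow_mul, zpow_two, hcc, one_zpow]
  -- g c g⁻¹ ∈ U0
  have hgc : g * c * g⁻¹ ∈ U0 := by
    have h1 : g * c * g⁻¹ ∈ U := (hnorm c).mp hcU
    refine Subgroup.mem_inf.mpr ⟨h1, hRmem _ h1 ?_⟩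
    intro h2
    apply hcc
    have : g * c * g⁻¹ * (g * c * g⁻¹) = g * (c * c) * g⁻¹ := by group
    rw [this] at h2
    have h3 : c * c = g⁻¹ * (g * (c * c) * g⁻¹) * g := by group
    rw [h3, h2]; group
  have hgU0 : g ∈ Subgroup.normalizer (U0 : Set X) := by
    apply mem_normalizer_of_conj_mem'
    intro y hy
    obtain ⟨k, hk⟩ := hpowc y hy
    have : g * y * g⁻¹ = (g * c * g⁻¹) ^ k := by
      rw [← hk, conj_zpow]
    rw [this]
    exact Subgroup.zpow_mem _ hgc k
  have hgcent : g ∈ Subgroup.centralizer (U0 : Set X) :=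
    centralizes_cyclic_two U0 hU02 g hgU0 hgo
  have hcent0 : ∀ x ∈ U0, g * x * g⁻¹ = x := by
    intro x hx
    have := (Subgroup.mem_centralizer_iff.mp hgcent) x hx
    rw [← this]; group
  rw [Subgroup.mem_centralizer_iff]
  intro u hu
  by_cases huR : u ∈ R
  · have := hcent0 u (Subgroup.mem_inf.mpr ⟨hu, huR⟩)
    calc u * g = (g * u * g⁻¹) * g := by rw [this]
      _ = g * u := by group
  · have huu : u * u = 1 := hinv u (hUD hu) huR
    have hgu : g * u * g⁻¹ ∈ U := (hnorm u).mp hu
    have hguR : g * u * g⁻¹ ∉ R := by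
      intro h
      have h1 : g * u * g⁻¹ ∈ U0 := Subgroup.mem_inf.mpr ⟨hgu, h⟩
      have h2 := (Subgroup.mem_normalizer_iff.mp hgU0 u).mpr h1
      exact huR (Subgroup.mem_inf.mp h2).2
    set c' := u * (g * u * g⁻¹) with hc'
    have hc'R : c' ∈ R := hmul u (hUD hu) _ (hUD hgu) huR hguR
    have hc'U : c' ∈ U := U.mul_mem hu hgu
    have hc'U0 : c' ∈ U0 := Subgroup.mem_inf.mpr ⟨hc'U, hc'R⟩
    have hconj : g * u * g⁻¹ = u * c' := by
      rw [hc', ← mul_assoc, huu, one_mul]
    have hkey := conj_pow_eq g u c' hconj (hcent0 c' hc'U0) (orderOf g)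
    rw [pow_orderOf_eq_one] at hkey
    have hc'pow : c' ^ orderOf g = 1 := by
      have : u = u * c' ^ orderOf g := by simpa using hkey
      exact (mul_eq_left (a := u)).mp this.symm
    -- c' is a 2-element
    obtain ⟨j, hj⟩ := hU2 ⟨c', hc'U⟩
    have hj' : c' ^ 2 ^ j = 1 := by
      have := congrArg Subtype.val hj
      simpa using this
    have hord1 : orderOf c' ∣ orderOf g := orderOf_dvd_of_pow_eq_one hc'pow
    have hord2 : orderOf c' ∣ 2 ^ j := orderOf_dvd_of_pow_eq_one hj'
    have hc1 : orderOf c' = 1 :=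
      Nat.eq_one_of_dvd_coprimes (Nat.Coprime.pow_right j hgo) hord1 hord2
    have hc'1 : c' = 1 := orderOf_eq_one_iff.mp hc1
    rw [hc'1, mul_one] at hconj
    calc u * g = (g * u * g⁻¹) * g := by rw [hconj]
      _ = g * u := by group


/-- structure of exponent-2 subgroups of a dihedral-like group -/
theorem DihLike.exists_four {D : Subgroup X} (hD : DihLike D)
    (U : Subgroup X) (hUD : U ≤ D) (hexp : ∀ u ∈ U, u * u = 1) :
    ∃ a b : X, ∀ u ∈ U, u = 1 ∨ u = a ∨ u = b ∨ u = b * a := by
  obtain ⟨R, hRD, hRc, hmul, hinv⟩ := hD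
  set U0 : Subgroup X := U ⊓ R with hU0
  have hU0c : IsCyclic U0 := Subgroup.isCyclic_of_le (inf_le_right : U0 ≤ R)
  obtain ⟨⟨c, hcU0⟩, hcgen⟩ := hU0c.exists_generator
  have hcU : c ∈ U := (Subgroup.mem_inf.mp hcU0).1
  have hcc : c * c = 1 := hexp c hcU
  have hU0el : ∀ x ∈ U0, x = 1 ∨ x = c := by
    intro x hx
    obtain ⟨k, hk⟩ := Subgroup.mem_zpowers_iff.mp (hcgen ⟨x, hx⟩)
    have hk' : c ^ k = x := by
      have := congrArg Subtype.val hk
      simpa using this
    rcases Int.even_or_odd' k with ⟨m, hm | hm⟩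
    · left
      rw [← hk', hm, zpow_mul, zpow_two, hcc, one_zpow]
    · right
      rw [← hk', hm, zpow_add, zpow_mul, zpow_two, hcc, one_zpow, one_mul, zpow_one]
  by_cases hUR : ∀ u ∈ U, u ∈ R
  · refine ⟨c, 1, fun u hu => ?_⟩
    rcases hU0el u (Subgroup.mem_inf.mpr ⟨hu, hUR u hu⟩) with h | h
    · exact Or.inl h
    · exact Or.inr (Or.inl h)
  · push Not at hUR
    obtain ⟨x, hxU, hxR⟩ := hUR
    have hxx : x * x = 1 := hexp x hxU
    refine ⟨c, x, fun u hu => ?_⟩
    by_cases huR : u ∈ R
    · rcases hU0el u (Subgroup.mem_inf.mpr ⟨hu, huR⟩) with h | h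
      · exact Or.inl h
      · exact Or.inr (Or.inl h)
    · have h1 : x * u ∈ U0 :=
        Subgroup.mem_inf.mpr ⟨U.mul_mem hxU hu, hmul x (hUD hxU) u (hUD hu) hxR huR⟩
      have hu' : u = x * (x * u) := by rw [← mul_assoc, hxx, one_mul]
      rcases hU0el _ h1 with h | h
      · right; right; left
        rw [hu', h, mul_one]
      · right; right; right
        rw [hu', h]

/-- **Lemma B'.** An exponent-2 subgroup of a dihedral-like group has at most four elements. -/
theorem DihLike.card_le_four {D : Subgroup X} (hD : DihLike D)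
    (U : Subgroup X) (hUD : U ≤ D) (hexp : ∀ u ∈ U, u * u = 1) : Nat.card U ≤ 4 := by
  classical
  obtain ⟨a, b, h⟩ := hD.exists_four U hUD hexp
  have hsub : (U : Set X) ⊆ (({1, a, b, b * a} : Finset X) : Set X) := by
    intro u hu
    have := h u hu
    simp only [Finset.coe_insert, Finset.coe_singleton, Set.mem_insert_iff, Set.mem_singleton_iff]
    exact this
  have h1 : Nat.card U = (U : Set X).ncard := rfl
  rw [h1]
  calc (U : Set X).ncard ≤ ((({1, a, b, b * a} : Finset X)) : Set X).ncard :=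
        Set.ncard_le_ncard hsub (Finset.finite_toSet _)
    _ = ({1, a, b, b * a} : Finset X).card := Set.ncard_coe_finset _
    _ ≤ 4 := Finset.card_le_four

/-- **Lemma B.** An odd-order element normalizing an exponent-2 subgroup `U` of a dihedral-like
group and fixing a non-identity element of `U` centralizes `U`. -/
theorem DihLike.centralizes_of_fixed [Finite X] {D : Subgroup X} (hD : DihLike D)
    (U : Subgroup X) (hUD : U ≤ D) (hexp : ∀ u ∈ U, u * u = 1) (g : X)
    (hg : g ∈ Subgroup.normalizer (U : Set X)) (hgo : (orderOf g).Coprime 2)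
    (t : X) (htU : t ∈ U) (ht1 : t ≠ 1) (hgt : g * t * g⁻¹ = t) :
    g ∈ Subgroup.centralizer (U : Set X) := by
  classical
  have hcard := hD.card_le_four U hUD hexp
  have hnorm := Subgroup.mem_normalizer_iff.mp hg
  -- it suffices that g^2 centralizes
  have hsq : ∀ u ∈ U, g ^ 2 * u * (g ^ 2)⁻¹ = u := by
    intro u hu
    by_contra hne
    set u' := g * u * g⁻¹ with hu'
    set u'' := g ^ 2 * u * (g ^ 2)⁻¹ with hu''
    have hu'U : u' ∈ U := (hnorm u).mp hu
    have hu''eq : u'' = g * u' * g⁻¹ := by rw [hu'', hu', pow_two]; group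
    have hu''U : u'' ∈ U := by rw [hu''eq]; exact (hnorm u').mp hu'U
    -- injectivity of conjugation
    have hinj : ∀ a b : X, g * a * g⁻¹ = g * b * g⁻¹ → a = b := by
      intro a b h
      have := congrArg (fun z => g⁻¹ * z * g) h
      simpa [mul_assoc] using this
    have hu1 : u ≠ 1 := by
      intro h; apply hne; rw [hu'', h]; group
    have hut : u ≠ t := by
      intro h; apply hne
      rw [hu''eq, hu', h, hgt, hgt]
    have hu'1 : u' ≠ 1 := by
      intro h; apply hu1
      apply hinj; rw [← hu', h]; group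
    have hu't : u' ≠ t := by
      intro h; apply hut
      apply hinj; rw [← hu', h, hgt]
    have hu'u : u' ≠ u := by
      intro h; apply hne
      rw [hu''eq, h, ← hu', h]
    have hu''1 : u'' ≠ 1 := by
      intro h; apply hu'1
      apply hinj; rw [← hu''eq, h]; group
    have hu''t : u'' ≠ t := by
      intro h; apply hu't
      apply hinj; rw [← hu''eq, h, hgt]
    have hu''u' : u'' ≠ u' := by
      intro h; apply hu'u
      apply hinj; rw [← hu''eq, h]
    -- five distinct elements
    have hsub : ((({1, t, u, u', u''} : Finset X)) : Set X) ⊆ (U : Set X) := by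
      intro z hz
      simp only [Finset.coe_insert, Finset.coe_singleton, Set.mem_insert_iff,
        Set.mem_singleton_iff] at hz
      rcases hz with rfl | rfl | rfl | rfl | rfl
      · exact U.one_mem
      · exact htU
      · exact hu
      · exact hu'U
      · exact hu''U
    have hfin : (U : Set X).Finite := Set.toFinite _
    have h5 : ({1, t, u, u', u''} : Finset X).card = 5 := by
      rw [Finset.card_insert_of_notMem, Finset.card_insert_of_notMem,
        Finset.card_insert_of_notMem, Finset.card_insert_of_notMem, Finset.card_singleton]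
      · simp only [Finset.mem_singleton]; exact fun h => hu''u' h.symm
      · simp only [Finset.mem_insert, Finset.mem_singleton]
        rintro (h | h)
        · exact hu'u h.symm
        · exact hne h.symm
      · simp only [Finset.mem_insert, Finset.mem_singleton]
        rintro (h | h | h)
        · exact hut h.symm
        · exact hu't h.symm
        · exact hu''t h.symm
      · simp only [Finset.mem_insert, Finset.mem_singleton]
        rintro (h | h | h | h)
        · exact ht1 h.symm
        · exact hu1 h.symm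
        · exact hu'1 h.symm
        · exact hu''1 h.symm
    have h6 : 5 ≤ (U : Set X).ncard := by
      rw [← h5, ← Set.ncard_coe_finset]
      exact Set.ncard_le_ncard hsub hfin
    have h7 : Nat.card U = (U : Set X).ncard := rfl
    omega
  -- g is a power of g^2
  obtain ⟨m, hm⟩ := exists_pow_eq_self_of_coprime (x := g) (n := 2) hgo.symm
  have hpow : ∀ k : ℕ, ∀ u ∈ U, (g ^ 2) ^ k * u * ((g ^ 2) ^ k)⁻¹ = u := by
    intro k
    induction k with
    | zero => intro u _; simp
    | succ k ih =>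
      intro u hu
      have e : (g ^ 2) ^ (k + 1) * u * ((g ^ 2) ^ (k + 1))⁻¹
          = g ^ 2 * ((g ^ 2) ^ k * u * ((g ^ 2) ^ k)⁻¹) * (g ^ 2)⁻¹ := by
        rw [pow_succ' (g ^ 2) k]; group
      rw [e, ih u hu, hsq u hu]
  rw [Subgroup.mem_centralizer_iff]
  intro u hu
  have := hpow m u hu
  rw [hm] at this
  calc u * g = (g * u * g⁻¹) * g := by rw [this]
    _ = g * u := by group


/-- A subgroup isomorphic to a dihedral group is dihedral-like. -/
theorem dihLike_of_equiv (D : Subgroup X) (n : ℕ) (e : D ≃* DihedralGroup n) : DihLike D := by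
  set a : D := e.symm (DihedralGroup.r 1) with ha
  have hchar : ∀ x : D, (x : X) ∈ Subgroup.zpowers (a : X) ↔ ∃ i, e x = DihedralGroup.r i := by
    intro x
    constructor
    · intro hx
      obtain ⟨k, hk⟩ := Subgroup.mem_zpowers_iff.mp hx
      have hx' : x = a ^ k := by
        apply Subtype.ext
        rw [← hk]; simp
      refine ⟨(k : ZMod n), ?_⟩
      rw [hx', map_zpow, ha, MulEquiv.apply_symm_apply, DihedralGroup.r_one_zpow]
    · rintro ⟨i, hi⟩
      have hx' : x = e.symm (DihedralGroup.r i) := by rw [← hi, MulEquiv.symm_apply_apply]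
      obtain ⟨k, hk⟩ : ∃ k : ℤ, (k : ZMod n) = i := ⟨i.cast, by simp⟩
      have : x = a ^ k := by
        rw [hx', ha, ← map_zpow, DihedralGroup.r_one_zpow, hk]
      rw [this]
      have : ((a ^ k : D) : X) = (a : X) ^ k := by simp
      rw [this]
      exact Subgroup.zpow_mem_zpowers _ k
  have hnot : ∀ x : D, (x : X) ∉ Subgroup.zpowers (a : X) → ∃ i, e x = DihedralGroup.sr i := by
    intro x hx
    rcases h : e x with i | i
    · exact absurd ((hchar x).mpr ⟨i, h⟩) hx
    · exact ⟨i, rfl⟩
  refine ⟨Subgroup.zpowers (a : X), ?_, Subgroup.isCyclic_zpowers _, ?_, ?_⟩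
  · rw [Subgroup.zpowers_le]; exact a.2
  · intro x hx y hy hxR hyR
    obtain ⟨i, hi⟩ := hnot ⟨x, hx⟩ hxR
    obtain ⟨j, hj⟩ := hnot ⟨y, hy⟩ hyR
    have := (hchar (⟨x, hx⟩ * ⟨y, hy⟩)).mpr ⟨j - i, by
      rw [map_mul, hi, hj, DihedralGroup.sr_mul_sr]⟩
    simpa using this
  · intro x hx hxR
    obtain ⟨i, hi⟩ := hnot ⟨x, hx⟩ hxR
    have h1 : e (⟨x, hx⟩ * ⟨x, hx⟩) = 1 := by
      rw [map_mul, hi, DihedralGroup.sr_mul_sr, sub_self]; rfl
    have h2 : (⟨x, hx⟩ * ⟨x, hx⟩ : D) = 1 := by
      have := congrArg e.symm h1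
      simpa using this
    have := congrArg Subtype.val h2
    simpa using this

end Cfsg.Agent.Helper34.Dih
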