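import Mathlib
import Cfsg.Agent.Lib.Helper52.FCDefs

/-!
# FC piece D3 (helper34): the split case of the dichotomy.
-/

set_option autoImplicit false

namespace Cfsg.Agent.Helper34.FC

open Subgroup Cfsg.Agent.Helper52.FC
open scoped commutatorElement

universe u

variable {G : Type u} [Group G]

theorem h34f_mem_normalizer_of_conj_mem [Finite G] (Q : Subgroup G) (g : G)
    (hg : ∀ s ∈ Q, g * s * g⁻¹ ∈ Q) : g ∈ normalizer (Q : Set G) := by
  rw [Subgroup.mem_normalizer_iff]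
  intro y
  refine ⟨hg y, fun hy => ?_⟩
  let f : Q → Q := fun s => ⟨g * s * g⁻¹, hg s s.2⟩
  have hinj : Function.Injective f := by
    intro s1 s2 h12
    have : g * s1 * g⁻¹ = g * s2 * g⁻¹ := congrArg Subtype.val h12
    apply Subtype.ext
    simpa using this
  have hsurj : Function.Surjective f := Finite.surjective_of_injective hinj
  obtain ⟨s, hs⟩ := hsurj ⟨g * y * g⁻¹, hy⟩
  have : g * s * g⁻¹ = g * y * g⁻¹ := congrArg Subtype.val hs
  have hsy : (s : G) = y := by simpa using this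
  rw [← hsy]; exact s.2

theorem h34f_normBy_le_normalizer [Finite G] {H N : Subgroup G} (h : NormBy H N) :
    H ≤ normalizer (N : Set G) :=
  fun x hx => h34f_mem_normalizer_of_conj_mem N x (h x hx)

theorem h34f_conj_mem {N : Subgroup G} {x : G} (hx : x ∈ normalizer (N : Set G)) {n : G}
    (hn : n ∈ N) : x * n * x⁻¹ ∈ N :=
  (Subgroup.mem_normalizer_iff.mp hx n).mp hn

theorem h34f_mem_sup_of_le_normalizer {N L : Subgroup G} (hL : L ≤ normalizer (N : Set G)) {x : G}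
    (hx : x ∈ N ⊔ L) : ∃ n ∈ N, ∃ l ∈ L, x = n * l := by
  rw [Subgroup.sup_eq_closure] at hx
  induction hx using Subgroup.closure_induction with
  | mem y hy =>
    rcases hy with hy | hy
    · exact ⟨y, hy, 1, L.one_mem, by simp⟩
    · exact ⟨1, N.one_mem, y, hy, by simp⟩
  | one => exact ⟨1, N.one_mem, 1, L.one_mem, by simp⟩
  | mul y z _ _ ihy ihz =>
    obtain ⟨n, hn, l, hl, rfl⟩ := ihy
    obtain ⟨n', hn', l', hl', rfl⟩ := ihz
    refine ⟨n * (l * n' * l⁻¹), N.mul_mem hn (h34f_conj_mem (hL hl) hn'), l * l', L.mul_mem hl hl', by group⟩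
  | inv y _ ihy =>
    obtain ⟨n, hn, l, hl, rfl⟩ := ihy
    refine ⟨l⁻¹ * n⁻¹ * (l⁻¹)⁻¹, h34f_conj_mem (hL (L.inv_mem hl)) (N.inv_mem hn), l⁻¹, L.inv_mem hl, by group⟩

theorem h34f_Lh_le_iff (a h : G) (X : Subgroup G) :
    Lh a h ≤ X ↔ ∀ i : ℕ, h⁻¹ * (a ^ i * h * (a ^ i)⁻¹) ∈ X := by
  unfold Lh
  rw [Subgroup.closure_le]
  constructor
  · intro hh i; exact hh ⟨i, rfl⟩
  · rintro hh c ⟨i, rfl⟩; exact hh i

theorem h34f_gen_mem_Lh (a h : G) (i : ℕ) : h⁻¹ * (a ^ i * h * (a ^ i)⁻¹) ∈ Lh a h :=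
  Subgroup.subset_closure ⟨i, rfl⟩

theorem h34f_commutator_le_of_normalizer {N A : Subgroup G} (hA : A ≤ normalizer (N : Set G)) :
    ⁅N, A⁆ ≤ N := by
  rw [Subgroup.commutator_le]
  intro n hn x hx
  have h1 : ⁅n, x⁆ = n * (x * n⁻¹ * x⁻¹) := by rw [commutatorElement_def]; group
  rw [h1]
  exact N.mul_mem hn (h34f_conj_mem (hA hx) (N.inv_mem hn))

/-- the elements `x` normalising `N` with `⁅N, x⁆ ⊆ M` (`M ≤ N`) are closed under the group operations -/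
theorem h34f_closure_comm [Finite G] (N M : Subgroup G) (hMN : M ≤ N) (S : Set G)
    (hS : ∀ x ∈ S, x ∈ normalizer (N : Set G) ∧ ∀ n ∈ N, ⁅n, x⁆ ∈ M) :
    ∀ x ∈ Subgroup.closure S, x ∈ normalizer (N : Set G) ∧ ∀ n ∈ N, ⁅n, x⁆ ∈ M := by
  intro x hx
  induction hx using Subgroup.closure_induction with
  | mem y hy => exact hS y hy
  | one =>
    refine ⟨Subgroup.one_mem _, fun n _ => ?_⟩
    rw [commutatorElement_def]; simp
  | mul y z _ _ ihy ihz =>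
    refine ⟨Subgroup.mul_mem _ ihy.1 ihz.1, fun n hn => ?_⟩
    have hm : ⁅n, z⁆ ∈ M := ihz.2 n hn
    have h1 : ⁅n, y * z⁆ = ⁅n, y⁆ * ((⁅⁅n, z⁆, y⁆)⁻¹ * ⁅n, z⁆) := by
      simp only [commutatorElement_def]; group
    rw [h1]
    exact M.mul_mem (ihy.2 n hn) (M.mul_mem (M.inv_mem (ihy.2 _ (hMN hm))) hm)
  | inv y _ ihy =>
    refine ⟨Subgroup.inv_mem _ ihy.1, fun n hn => ?_⟩
    -- conjugation by `y` maps `M` into `M`, hence onto
    have hyM : ∀ m ∈ M, y * m * y⁻¹ ∈ M := by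
      intro m hm
      have h2 : y * m * y⁻¹ = (⁅m, y⁆)⁻¹ * m := by
        simp only [commutatorElement_def]; group
      rw [h2]
      exact M.mul_mem (M.inv_mem (ihy.2 m (hMN hm))) hm
    have hyN : y ∈ normalizer (M : Set G) := h34f_mem_normalizer_of_conj_mem M y hyM
    have hyN' : y⁻¹ ∈ normalizer (M : Set G) := Subgroup.inv_mem _ hyN
    have h3 : ⁅n, y⁻¹⁆ = y⁻¹ * (⁅n, y⁆)⁻¹ * (y⁻¹)⁻¹ := by
      simp only [commutatorElement_def]; group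
    rw [h3]
    exact h34f_conj_mem hyN' (M.inv_mem (ihy.2 n hn))

theorem dich_split [Finite G] {p : ℕ} {a : G} {H : Subgroup G} (mx : MCX p G a H) (N : Subgroup G) (hNH : N ≤ H) (hNn : NormBy H N)
    (hNa : Inv a N) (hNab : Ab N) (hN : HypN a H N)
    (hS3 : Fix a ⊓ (⨆ h ∈ {h : G | h ∈ H ∧ N ⊔ Lh a h ≠ H}, Dh a N h) ≤ star a H)
    (hD2 : ∀ L : Subgroup G, Hyp p a L → comm a L = L →
      (⨆ l : {l : G // l ∈ L ∧ Lh a l ≠ L}, Lh a (l : G)) ≠ L → ∃ s : ℕ, s.Prime ∧ IsPGroup s L)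
    (h₀ : G) (hh₀ : h₀ ∈ H) (hgen : N ⊔ Lh a h₀ = H) :
    Fix a ⊓ ⁅N, H ⊔ zpowers a⁆ ≤ star a H ∨ SplitS a H N := by
  have hyp := mx.mc.hyp
  have hLH : Lh a h₀ ≤ H := mx.Lh_le H hyp.inv h₀ hh₀
  have hLinv : Inv a (Lh a h₀) := mx.Lh_inv h₀
  have hLcomm : comm a (Lh a h₀) = Lh a h₀ := mx.Lh_comm h₀ hh₀
  have hLne : Lh a h₀ ≠ H := mx.no_gen h₀ hh₀
  have hNL : N ⊓ Lh a h₀ = ⊥ := hN (Lh a h₀) hLH hLinv hLcomm hLne hgen
  have hHnorm : H ≤ normalizer (N : Set G) := h34f_normBy_le_normalizer hNn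
  have haN : a ∈ normalizer (N : Set G) := h34f_mem_normalizer_of_conj_mem N a hNa
  -- Dedekind-type lemma
  have hded : ∀ L' : Subgroup G, L' ≤ Lh a h₀ → N ⊔ L' = H → L' = Lh a h₀ := by
    intro L' hL'L hsup
    apply le_antisymm hL'L
    intro x hx
    have hxH : x ∈ N ⊔ L' := by rw [hsup]; exact hLH hx
    obtain ⟨n, hn, l', hl', rfl⟩ :=
      h34f_mem_sup_of_le_normalizer ((hL'L.trans hLH).trans hHnorm) hxH
    have hnL : n ∈ Lh a h₀ := by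
      have h1 : n = (n * l') * l'⁻¹ := by group
      rw [h1]; exact (Lh a h₀).mul_mem hx ((Lh a h₀).inv_mem (hL'L hl'))
    have hn1 : n = 1 := by
      have h2 : n ∈ N ⊓ Lh a h₀ := ⟨hn, hnL⟩
      rw [hNL] at h2
      exact Subgroup.mem_bot.mp h2
    rw [hn1, one_mul]; exact hl'
  -- decompose `h₀ = n₀ * l₀`
  obtain ⟨n₀, hn₀, l₀, hl₀, hh₀eq⟩ := h34f_mem_sup_of_le_normalizer (hLH.trans hHnorm)
    (show h₀ ∈ N ⊔ Lh a h₀ by rw [hgen]; exact hh₀)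
  have hl₀H : l₀ ∈ H := hLH hl₀
  have hL₀le : Lh a l₀ ≤ Lh a h₀ := mx.Lh_le (Lh a h₀) hLinv l₀ hl₀
  have hLle : Lh a h₀ ≤ N ⊔ Lh a l₀ := by
    rw [h34f_Lh_le_iff]
    intro i
    have hai : a ^ i ∈ normalizer (N : Set G) := Subgroup.pow_mem _ haN i
    have h1 : h₀⁻¹ * (a ^ i * h₀ * (a ^ i)⁻¹) =
        (l₀⁻¹ * (n₀⁻¹ * (a ^ i * n₀ * (a ^ i)⁻¹)) * (l₀⁻¹)⁻¹) * (l₀⁻¹ * (a ^ i * l₀ * (a ^ i)⁻¹)) := by
      rw [hh₀eq]; group
    rw [h1]
    refine Subgroup.mul_mem_sup ?_ (h34f_gen_mem_Lh a l₀ i)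
    exact h34f_conj_mem (hHnorm (H.inv_mem hl₀H))
      (N.mul_mem (N.inv_mem hn₀) (h34f_conj_mem hai hn₀))
  have hsup₀ : N ⊔ Lh a l₀ = H :=
    le_antisymm (sup_le hNH (hL₀le.trans hLH)) (by rw [← hgen]; exact sup_le le_sup_left hLle)
  have hL₀ : Lh a l₀ = Lh a h₀ := hded _ hL₀le hsup₀
  by_cases h2 : (⨆ l : {l : G // l ∈ Lh a h₀ ∧ Lh a l ≠ Lh a h₀}, Lh a (l : G)) ≠ Lh a h₀
  · right
    have hsol : Group.IsSolvable ↥(Lh a h₀) := by
      have := hyp.sol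
      exact Group.isSolvable_of_isSolvable_injective (Subgroup.inclusion_injective hLH)
    have hypL : Hyp p a (Lh a h₀) :=
      ⟨hyp.pow, hLinv, hsol, Nat.Coprime.coprime_dvd_left (Subgroup.card_dvd_of_le hLH) hyp.cop⟩
    obtain ⟨s, hs, hsL⟩ := hD2 (Lh a h₀) hypL hLcomm h2
    exact ⟨Lh a h₀, l₀, s, hl₀, hL₀.symm, hLH, hgen, hNL, hs, hsL⟩
  · have h2' := not_not.mp h2
    by_cases hLbot : Lh a h₀ = ⊥
    · right
      refine ⟨Lh a h₀, l₀, 2, hl₀, hL₀.symm, hLH, hgen, hNL, Nat.prime_two, ?_⟩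
      rw [hLbot]; exact IsPGroup.of_bot
    · left
      -- `T' ⊆ T`
      have hT' : ∀ l : G, l ∈ Lh a h₀ → Lh a l ≠ Lh a h₀ →
          l ∈ {h : G | h ∈ H ∧ N ⊔ Lh a h ≠ H} := by
        intro l hl hne
        exact ⟨hLH hl, fun hsup => hne (hded _ (mx.Lh_le (Lh a h₀) hLinv l hl) hsup)⟩
      have h1bot : Lh a (1 : G) = ⊥ := by
        rw [eq_bot_iff, h34f_Lh_le_iff]
        intro i
        simp
      have h1T : (1 : G) ∈ {h : G | h ∈ H ∧ N ⊔ Lh a h ≠ H} :=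
        hT' 1 (Subgroup.one_mem _) (by rw [h1bot]; exact fun h => hLbot h.symm)
      have hDle : ∀ h ∈ {h : G | h ∈ H ∧ N ⊔ Lh a h ≠ H},
          Dh a N h ≤ ⨆ h ∈ {h : G | h ∈ H ∧ N ⊔ Lh a h ≠ H}, Dh a N h :=
        fun h hh => le_iSup₂ (f := fun h _ => Dh a N h) h hh
      have hconjN : ∀ h ∈ H, h⁻¹ * a * h ∈ normalizer (N : Set G) := fun h hh =>
        Subgroup.mul_mem _ (Subgroup.mul_mem _ (hHnorm (H.inv_mem hh)) haN) (hHnorm hh)
      have hMN : (⨆ h ∈ {h : G | h ∈ H ∧ N ⊔ Lh a h ≠ H}, Dh a N h) ≤ N := by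
        refine iSup₂_le fun h hh => ?_
        unfold Dh
        refine sup_le (h34f_commutator_le_of_normalizer (Subgroup.zpowers_le.mpr haN))
          (h34f_commutator_le_of_normalizer (Subgroup.zpowers_le.mpr (hconjN h hh.1)))
      -- the subgroup `C`
      have hC := h34f_closure_comm N _ hMN
        {x | x ∈ normalizer (N : Set G) ∧ ∀ n ∈ N,
          ⁅n, x⁆ ∈ ⨆ h ∈ {h : G | h ∈ H ∧ N ⊔ Lh a h ≠ H}, Dh a N h} (fun x hx => hx)
      have hNC : N ≤ Subgroup.closure {x | x ∈ normalizer (N : Set G) ∧ ∀ n ∈ N,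
          ⁅n, x⁆ ∈ ⨆ h ∈ {h : G | h ∈ H ∧ N ⊔ Lh a h ≠ H}, Dh a N h} := by
        intro x hx
        apply Subgroup.subset_closure
        refine ⟨Subgroup.le_normalizer hx, fun n hn => ?_⟩
        have h3 : ⁅n, x⁆ = 1 := by
          rw [commutatorElement_def, hNab n hn x hx]; group
        rw [h3]; exact Subgroup.one_mem _
      have haC : zpowers a ≤ Subgroup.closure {x | x ∈ normalizer (N : Set G) ∧ ∀ n ∈ N,
          ⁅n, x⁆ ∈ ⨆ h ∈ {h : G | h ∈ H ∧ N ⊔ Lh a h ≠ H}, Dh a N h} := by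
        intro x hx
        apply Subgroup.subset_closure
        refine ⟨Subgroup.zpowers_le.mpr haN hx, fun n hn => ?_⟩
        apply hDle 1 h1T
        unfold Dh
        exact Subgroup.mem_sup_left (Subgroup.commutator_mem_commutator hn hx)
      have hconjC : ∀ h ∈ {h : G | h ∈ H ∧ N ⊔ Lh a h ≠ H},
          zpowers (h⁻¹ * a * h) ≤ Subgroup.closure {x | x ∈ normalizer (N : Set G) ∧ ∀ n ∈ N,
          ⁅n, x⁆ ∈ ⨆ h ∈ {h : G | h ∈ H ∧ N ⊔ Lh a h ≠ H}, Dh a N h} := by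
        intro h hh x hx
        apply Subgroup.subset_closure
        refine ⟨Subgroup.zpowers_le.mpr (hconjN h hh.1) hx, fun n hn => ?_⟩
        apply hDle h hh
        unfold Dh
        exact Subgroup.mem_sup_right (Subgroup.commutator_mem_commutator hn hx)
      have hLhC : ∀ l ∈ {h : G | h ∈ H ∧ N ⊔ Lh a h ≠ H},
          Lh a l ≤ Subgroup.closure {x | x ∈ normalizer (N : Set G) ∧ ∀ n ∈ N,
          ⁅n, x⁆ ∈ ⨆ h ∈ {h : G | h ∈ H ∧ N ⊔ Lh a h ≠ H}, Dh a N h} := by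
        intro l hl
        rw [h34f_Lh_le_iff]
        intro i
        have h4 : l⁻¹ * (a ^ i * l * (a ^ i)⁻¹) = (l⁻¹ * a * l) ^ i * (a ^ i)⁻¹ := by
          have h5 : (l⁻¹ * a * l) ^ i = l⁻¹ * a ^ i * l := by
            have := conj_pow (a := l⁻¹) (b := a) (i := i)
            simpa using this
          rw [h5]; group
        rw [h4]
        exact Subgroup.mul_mem _ (hconjC l hl (Subgroup.pow_mem _ (Subgroup.mem_zpowers _) i))
          (Subgroup.inv_mem _ (haC (Subgroup.pow_mem _ (Subgroup.mem_zpowers _) i)))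
      have hLC : Lh a h₀ ≤ Subgroup.closure {x | x ∈ normalizer (N : Set G) ∧ ∀ n ∈ N,
          ⁅n, x⁆ ∈ ⨆ h ∈ {h : G | h ∈ H ∧ N ⊔ Lh a h ≠ H}, Dh a N h} := by
        rw [← h2']
        refine iSup_le fun l => ?_
        exact hLhC l.1 (hT' l.1 l.2.1 l.2.2)
      have hHC : H ⊔ zpowers a ≤ Subgroup.closure {x | x ∈ normalizer (N : Set G) ∧ ∀ n ∈ N,
          ⁅n, x⁆ ∈ ⨆ h ∈ {h : G | h ∈ H ∧ N ⊔ Lh a h ≠ H}, Dh a N h} := by
        refine sup_le ?_ haC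
        exact le_trans (le_of_eq hgen.symm) (sup_le hNC hLC)
      have hcomm : ⁅N, H ⊔ zpowers a⁆ ≤ ⨆ h ∈ {h : G | h ∈ H ∧ N ⊔ Lh a h ≠ H}, Dh a N h := by
        rw [Subgroup.commutator_le]
        intro n hn x hx
        exact (hC x (hHC hx)).2 n hn
      exact (inf_le_inf_left _ hcomm).trans hS3

end Cfsg.Agent.Helper34.FC
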