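import Mathlib
import Cfsg.Agent.Lib.Helper52.FCDefs
import Cfsg.Agent.Lib.Helper34.FCD3

/-!
# FC piece A6 (helper34): alternative (I) of the dichotomy is impossible in Case A.
-/

set_option autoImplicit false

namespace Cfsg.Agent.Helper34.FC

open Subgroup Cfsg.Agent.Helper52.FC
open scoped commutatorElement

universe u

variable {G : Type u} [Group G]

/-- an element conjugating `N` into `N` and `K` into `K` conjugates `⁅N, K⁆` into itself -/
theorem h34f_conj_commutator2 (N K : Subgroup G) (g : G) (hgN : ∀ n ∈ N, g * n * g⁻¹ ∈ N)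
    (hgK : ∀ k ∈ K, g * k * g⁻¹ ∈ K) (w : G) (hw : w ∈ ⁅N, K⁆) : g * w * g⁻¹ ∈ ⁅N, K⁆ := by
  rw [Subgroup.commutator_def] at hw
  induction hw using Subgroup.closure_induction with
  | mem x hx =>
    obtain ⟨n, hn, k, hk, rfl⟩ := hx
    have h1 : g * ⁅n, k⁆ * g⁻¹ = ⁅g * n * g⁻¹, g * k * g⁻¹⁆ := by
      simp only [commutatorElement_def]; group
    rw [h1]
    exact Subgroup.commutator_mem_commutator (hgN n hn) (hgK k hk)
  | one => simp
  | mul y z _ _ ihy ihz =>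
    have h1 : g * (y * z) * g⁻¹ = (g * y * g⁻¹) * (g * z * g⁻¹) := by group
    rw [h1]; exact Subgroup.mul_mem _ ihy ihz
  | inv y _ ihy =>
    have h1 : g * y⁻¹ * g⁻¹ = (g * y * g⁻¹)⁻¹ := by group
    rw [h1]; exact Subgroup.inv_mem _ ihy

theorem caseA_I [Finite G] {p : ℕ} {a : G} {H : Subgroup G} (mx : MCX p G a H) (hZs : ZZ a H ⊓ star a H = ⊥)
    (hmin : ∀ V : Subgroup G, MinNormal a H V → V ≤ Fix a)
    (hA1 : ∀ V : Subgroup G, V ≤ H → NormBy H V → V ≤ Fix a → V ≤ ZZ a H)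
    (hA0 : ∀ W : Subgroup G, W ≤ H → NormBy H W → Inv a W → W ≠ ⊥ → ∃ V : Subgroup G, V ≤ W ∧ MinNormal a H V)
    (N : Subgroup G) (hN : Chief a H N) (hNab : Ab N) (hI : Fix a ⊓ ⁅N, H ⊔ zpowers a⁆ ≤ star a H) : False := by
  have hHnorm : H ≤ normalizer (N : Set G) := h34f_normBy_le_normalizer hN.norm
  have haN : a ∈ normalizer (N : Set G) := h34f_mem_normalizer_of_conj_mem N a hN.inv
  have hKnorm : H ⊔ zpowers a ≤ normalizer (N : Set G) :=
    sup_le hHnorm (Subgroup.zpowers_le.mpr haN)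
  have hWN : ⁅N, H ⊔ zpowers a⁆ ≤ N := h34f_commutator_le_of_normalizer hKnorm
  have hWH : ⁅N, H ⊔ zpowers a⁆ ≤ H := hWN.trans hN.le
  have hconj : ∀ g ∈ H ⊔ zpowers a, ∀ w ∈ ⁅N, H ⊔ zpowers a⁆, g * w * g⁻¹ ∈ ⁅N, H ⊔ zpowers a⁆ := by
    intro g hg w hw
    refine h34f_conj_commutator2 N _ g (fun n hn => h34f_conj_mem (hKnorm hg) hn) ?_ w hw
    intro k hk
    exact Subgroup.mul_mem _ (Subgroup.mul_mem _ hg hk) (Subgroup.inv_mem _ hg)
  have hWnorm : NormBy H ⁅N, H ⊔ zpowers a⁆ := fun h hh w hw =>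
    hconj h (Subgroup.mem_sup_left hh) w hw
  have hWinv : Inv a ⁅N, H ⊔ zpowers a⁆ := fun w hw =>
    hconj a (Subgroup.mem_sup_right (Subgroup.mem_zpowers a)) w hw
  have hWne : ⁅N, H ⊔ zpowers a⁆ ≠ ⊥ := by
    intro hbot
    apply hN.act
    calc ⁅N, zpowers a⁆ ≤ ⁅N, H ⊔ zpowers a⁆ := Subgroup.commutator_mono le_rfl le_sup_right
      _ = ⊥ := hbot
      _ ≤ ZZ a H := bot_le
  obtain ⟨V, hVW, hV⟩ := hA0 _ hWH hWnorm hWinv hWne
  have hVfix : V ≤ Fix a := hmin V hV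
  have hVZ : V ≤ ZZ a H := hA1 V hV.le hV.norm hVfix
  have hVstar : V ≤ star a H := fun v hv => hI ⟨hVfix hv, hVW hv⟩
  have hVbot : V ≤ ⊥ := by
    rw [← hZs]
    exact le_inf hVZ hVstar
  exact hV.ne (le_bot_iff.mp hVbot)

end Cfsg.Agent.Helper34.FC
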