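import Mathlib
import Cfsg.Agent.Lib.Helper52.FCDefs
import Cfsg.Agent.Lib.Helper34.FCD3

/-!
# FC piece D1 (helper34): the non-split case of the dichotomy.
-/

set_option autoImplicit false

namespace Cfsg.Agent.Helper34.FC

open Subgroup Cfsg.Agent.Helper52.FC
open scoped commutatorElement

universe u

variable {G : Type u} [Group G]

theorem h34f_comm_le_iff (a : G) (H X : Subgroup G) :
    comm a H ≤ X ↔ ∀ h ∈ H, ∀ i : ℕ, h⁻¹ * (a ^ i * h * (a ^ i)⁻¹) ∈ X := by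
  unfold Cfsg.Agent.Helper52.FC.comm
  rw [Subgroup.closure_le]
  constructor
  · intro hh h hH i; exact hh ⟨h, hH, i, rfl⟩
  · rintro hh c ⟨h, hH, i, rfl⟩; exact hh h hH i

theorem dich_all [Finite G] {p : ℕ} {a : G} {H : Subgroup G} (mx : MCX p G a H) (N : Subgroup G) (hNH : N ≤ H) (hNn : NormBy H N)
    (hNa : Inv a N) (hNab : Ab N)
    (hS3 : Fix a ⊓ (⨆ h ∈ {h : G | h ∈ H ∧ N ⊔ Lh a h ≠ H}, Dh a N h) ≤ star a H)
    (hall : ∀ h ∈ H, N ⊔ Lh a h ≠ H) : Fix a ⊓ ⁅N, H ⊔ zpowers a⁆ ≤ star a H := by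
  have hHnorm : H ≤ normalizer (N : Set G) := h34f_normBy_le_normalizer hNn
  have haN : a ∈ normalizer (N : Set G) := h34f_mem_normalizer_of_conj_mem N a hNa
  have hT : ∀ h ∈ H, h ∈ {h : G | h ∈ H ∧ N ⊔ Lh a h ≠ H} := fun h hh => ⟨hh, hall h hh⟩
  have hDle : ∀ h ∈ {h : G | h ∈ H ∧ N ⊔ Lh a h ≠ H},
      Dh a N h ≤ ⨆ h ∈ {h : G | h ∈ H ∧ N ⊔ Lh a h ≠ H}, Dh a N h :=
    fun h hh => le_iSup₂ (f := fun h _ => Dh a N h) h hh
  have hconjN : ∀ h ∈ H, h⁻¹ * a * h ∈ normalizer (N : Set G) := fun h hh =>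
    Subgroup.mul_mem _ (Subgroup.mul_mem _ (hHnorm (H.inv_mem hh)) haN) (hHnorm hh)
  have hMN : (⨆ h ∈ {h : G | h ∈ H ∧ N ⊔ Lh a h ≠ H}, Dh a N h) ≤ N := by
    refine iSup₂_le fun h hh => ?_
    unfold Dh
    refine sup_le (h34f_commutator_le_of_normalizer (Subgroup.zpowers_le.mpr haN))
      (h34f_commutator_le_of_normalizer (Subgroup.zpowers_le.mpr (hconjN h hh.1)))
  have hC := h34f_closure_comm N _ hMN
    {x | x ∈ normalizer (N : Set G) ∧ ∀ n ∈ N,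
      ⁅n, x⁆ ∈ ⨆ h ∈ {h : G | h ∈ H ∧ N ⊔ Lh a h ≠ H}, Dh a N h} (fun x hx => hx)
  have haC : zpowers a ≤ Subgroup.closure {x | x ∈ normalizer (N : Set G) ∧ ∀ n ∈ N,
      ⁅n, x⁆ ∈ ⨆ h ∈ {h : G | h ∈ H ∧ N ⊔ Lh a h ≠ H}, Dh a N h} := by
    intro x hx
    apply Subgroup.subset_closure
    refine ⟨Subgroup.zpowers_le.mpr haN hx, fun n hn => ?_⟩
    apply hDle 1 (hT 1 H.one_mem)
    unfold Dh
    exact Subgroup.mem_sup_left (Subgroup.commutator_mem_commutator hn hx)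
  have hconjC : ∀ h ∈ H,
      zpowers (h⁻¹ * a * h) ≤ Subgroup.closure {x | x ∈ normalizer (N : Set G) ∧ ∀ n ∈ N,
      ⁅n, x⁆ ∈ ⨆ h ∈ {h : G | h ∈ H ∧ N ⊔ Lh a h ≠ H}, Dh a N h} := by
    intro h hh x hx
    apply Subgroup.subset_closure
    refine ⟨Subgroup.zpowers_le.mpr (hconjN h hh) hx, fun n hn => ?_⟩
    apply hDle h (hT h hh)
    unfold Dh
    exact Subgroup.mem_sup_right (Subgroup.commutator_mem_commutator hn hx)
  have hHC : H ≤ Subgroup.closure {x | x ∈ normalizer (N : Set G) ∧ ∀ n ∈ N,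
      ⁅n, x⁆ ∈ ⨆ h ∈ {h : G | h ∈ H ∧ N ⊔ Lh a h ≠ H}, Dh a N h} := by
    refine le_trans (le_of_eq mx.comm_eq.symm) ?_
    rw [h34f_comm_le_iff]
    intro l hl i
    have h4 : l⁻¹ * (a ^ i * l * (a ^ i)⁻¹) = (l⁻¹ * a * l) ^ i * (a ^ i)⁻¹ := by
      have h5 : (l⁻¹ * a * l) ^ i = l⁻¹ * a ^ i * l := by
        have := conj_pow (a := l⁻¹) (b := a) (i := i)
        simpa using this
      rw [h5]; group
    rw [h4]
    exact Subgroup.mul_mem _ (hconjC l hl (Subgroup.pow_mem _ (Subgroup.mem_zpowers _) i))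
      (Subgroup.inv_mem _ (haC (Subgroup.pow_mem _ (Subgroup.mem_zpowers _) i)))
  have hcomm : ⁅N, H ⊔ zpowers a⁆ ≤ ⨆ h ∈ {h : G | h ∈ H ∧ N ⊔ Lh a h ≠ H}, Dh a N h := by
    rw [Subgroup.commutator_le]
    intro n hn x hx
    exact (hC x (sup_le hHC haC hx)).2 n hn
  exact (inf_le_inf_left _ hcomm).trans hS3

end Cfsg.Agent.Helper34.FC
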