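import Mathlib

/-!
# G24 piece ABS (helper34, for helper92's server, S1679): the diagonal argument.
`T := closure {(x g, y g)}` has at most `N` elements and projects onto `closure (x '' _)` and
`closure (y '' _)`, both of exactly `N` elements; so both projections are bijective.
-/

set_option autoImplicit false

namespace Cfsg.Agent.Helper34.G24

/-- a surjective homomorphism from a finite group of order `≤ N` onto a group of order `N` gives an
isomorphism -/
theorem h34_equiv_of_surj {T H : Type*} [Group T] [Group H] [Finite T] (N : ℕ)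
    (φ : T →* H) (hφ : Function.Surjective φ) (hT : Nat.card T ≤ N) (hH : Nat.card H = N) :
    Nonempty (T ≃* H) := by
  have hbij : Function.Bijective φ :=
    hφ.bijective_of_nat_card_le (by rw [hH]; exact hT)
  exact ⟨MulEquiv.ofBijective φ hbij⟩

/-- the projection of `closure (z '' S)` onto `closure ((f ∘ z) '' S)` -/
theorem h34_proj_equiv {Q H : Type*} [Group Q] [Group H] (f : Q →* H) (s : Set Q) (N : ℕ)
    (hfin : Finite ↥(Subgroup.closure s))
    (hbound : Nat.card ↥(Subgroup.closure s) ≤ N)
    (hH : Nat.card ↥(Subgroup.closure (f '' s)) = N) :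
    Nonempty (↥(Subgroup.closure s) ≃* ↥(Subgroup.closure (f '' s))) := by
  have hmap : (Subgroup.closure s).map f = Subgroup.closure (f '' s) := MonoidHom.map_closure f s
  let φ : ↥(Subgroup.closure s) →* ↥(Subgroup.closure (f '' s)) :=
    (f.comp (Subgroup.closure s).subtype).codRestrict (Subgroup.closure (f '' s)) (by
      intro t
      rw [← hmap]
      exact Subgroup.mem_map_of_mem f t.2)
  have hφ : Function.Surjective φ := by
    intro h
    have hh : (h : H) ∈ (Subgroup.closure s).map f := by rw [hmap]; exact h.2
    obtain ⟨t, ht, hth⟩ := Subgroup.mem_map.1 hh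
    exact ⟨⟨t, ht⟩, Subtype.ext hth⟩
  exact h34_equiv_of_surj N φ hφ hbound hH

/-- (ABS) [M, generic] the diagonal argument: `T := closure {(x g, y g)}`; `MonoidHom.fst` maps `T` onto `closure (x '' _)`
(`MonoidHom.map_closure`, `Set.image_image`), a surjection from a set of at most `N` elements onto one of exactly `N` elements is bijective
(`Nat.card` + `Function.Surjective.bijective_of_nat_card_le` / `Finite`), same for `snd`; compose the two `MulEquiv`s. -/
theorem iso_of_diagonal {P G : Type*} [Group P] [Group G] (N : ℕ) (hN : 0 < N) (x : ℕ → P) (y : ℕ → G) (m : ℕ)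
    (hfin : Finite ↥(Subgroup.closure ((fun g => ((x g, y g) : P × G)) '' {g | g < m})))
    (hbound : Nat.card ↥(Subgroup.closure ((fun g => ((x g, y g) : P × G)) '' {g | g < m})) ≤ N)
    (hH : Nat.card ↥(Subgroup.closure (x '' {g | g < m})) = N)
    (hS : Nat.card ↥(Subgroup.closure (y '' {g | g < m})) = N) :
    Nonempty (↥(Subgroup.closure (x '' {g | g < m})) ≃* ↥(Subgroup.closure (y '' {g | g < m}))) := by
  have _ := hN
  have h1 : (MonoidHom.fst P G) '' ((fun g => ((x g, y g) : P × G)) '' {g | g < m}) =
      x '' {g | g < m} := by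
    rw [Set.image_image]; rfl
  have h2 : (MonoidHom.snd P G) '' ((fun g => ((x g, y g) : P × G)) '' {g | g < m}) =
      y '' {g | g < m} := by
    rw [Set.image_image]; rfl
  obtain ⟨e1⟩ := h34_proj_equiv (MonoidHom.fst P G)
    ((fun g => ((x g, y g) : P × G)) '' {g | g < m}) N hfin hbound (by rw [h1]; exact hH)
  obtain ⟨e2⟩ := h34_proj_equiv (MonoidHom.snd P G)
    ((fun g => ((x g, y g) : P × G)) '' {g | g < m}) N hfin hbound (by rw [h2]; exact hS)
  rw [h1] at e1
  rw [h2] at e2
  exact ⟨e1.symm.trans e2⟩

end Cfsg.Agent.Helper34.G24
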