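import Mathlib

/-!
# A bilinear computation for an automorphism of a class-two group

Abstract form: `c` is a biadditive alternating map `H × H → M` (in use: the commutator of a group of
class at most two, with values in its centre), `σ` an endomorphism of `H` compatible with an additive
map `τ` of `M`, and `n x = σ x * x⁻¹`.  If `n ∘ n ∘ n = 1`, `c (n (n x)) (n y) = 0`, and the radical of the
form `ω x y = τ (c x y) - c x y` modulo a subgroup `M₂` is contained in the radical of `c`, then `ω = 0`.
-/

set_option autoImplicit false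

namespace Cfsg.Agent.Helper34.KStab

theorem core_abstract {H M : Type*} [Group H] [AddCommGroup M]
    (c : H → H → M) (σ n : H → H) (τ : M →+ M) (M₂ : AddSubgroup M)
    (hcl : ∀ x x' y, c (x * x') y = c x y + c x' y)
    (hcr : ∀ x y y', c x (y * y') = c x y + c x y')
    (hanti : ∀ x y, c x y = - c y x)
    (hσ : ∀ x, σ x = n x * x)
    (hτ : ∀ x y, c (σ x) (σ y) = τ (c x y))
    (h1 : ∀ x, n (n (n x)) = 1)
    (h4 : ∀ x y, c (n (n x)) (n y) = 0)
    (hinv : ∀ x y, τ (τ (c x y) - c x y) - (τ (c x y) - c x y) ∈ M₂)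
    (hodd : ∀ m : M, m + m ∈ M₂ → m ∈ M₂)
    (hRZ : ∀ x, (∀ y, τ (c x y) - c x y ∈ M₂) → ∀ y, c x y = 0) :
    ∀ x y, τ (c x y) - c x y = 0 := by
  have c1 : ∀ y, c 1 y = 0 := by
    intro y
    have := hcl 1 1 y
    rw [mul_one] at this
    have h : c 1 y + 0 = c 1 y + c 1 y := by rw [add_zero]; exact this
    exact (add_left_cancel h).symm
  -- the key expansion
  have key : ∀ x y, τ (c x y) - c x y = c (n x) (n y) + c (n x) y + c x (n y) := by
    intro x y
    have : τ (c x y) = c (n x) (n y) + c (n x) y + c x (n y) + c x y := by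
      rw [← hτ, hσ x, hσ y, hcl, hcr, hcr]
      abel
    rw [this]; abel
  -- step 1: `n (n x)` lies in the radical of `c`
  have s1 : ∀ x y, c (n (n x)) y = 0 := by
    intro x
    apply hRZ
    intro y
    rw [key, h1, c1, c1, h4]
    simp
  have s1' : ∀ x y, c y (n (n x)) = 0 := by
    intro x y
    rw [hanti, s1, neg_zero]
  -- step 2
  have s2 : ∀ x y, τ (c (n x) y) - c (n x) y = c (n x) (n y) := by
    intro x y
    rw [key, h4, s1]
    simp
  -- step 3: `ω` is compatible with `σ`
  have s3 : ∀ x y, τ (τ (c x y) - c x y) - (τ (c x y) - c x y)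
      = (τ (c (n x) (n y)) - c (n x) (n y)) + (c (n x) (n y) + c (n x) (n y)) := by
    intro x y
    have e1 : τ (τ (c x y) - c x y) = τ (c (σ x) (σ y)) - c (σ x) (σ y) := by
      rw [hτ, map_sub]
    rw [e1, hσ x, hσ y]
    have e2 : c (n x * x) (n y * y) = c (n x) (n y) + c (n x) y + c x (n y) + c x y := by
      rw [hcl, hcr, hcr]; abel
    rw [e2]
    simp only [map_add]
    have e3 := s2 x y
    have e4 : τ (c x (n y)) - c x (n y) = c (n x) (n y) := by
      rw [key, s1', s1']
      simp
    have e3' : τ (c (n x) y) = c (n x) (n y) + c (n x) y := by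
      rw [← e3]; abel
    have e4' : τ (c x (n y)) = c (n x) (n y) + c x (n y) := by
      rw [← e4]; abel
    rw [e3', e4']
    abel
  -- step 3': `n x` lies in the radical
  have s4 : ∀ x y, c (n x) y = 0 := by
    intro x
    apply hRZ
    intro y
    rw [s2]
    apply hodd
    have h5 := hinv x y
    rw [s3] at h5
    have h6 : τ (c (n x) (n y)) - c (n x) (n y) ∈ M₂ := by
      have := hinv (n x) y
      rw [s2] at this
      exact this
    have := M₂.sub_mem h5 h6
    simpa using this
  intro x y
  rw [key, s4, s4, hanti, s4]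
  simp

end Cfsg.Agent.Helper34.KStab
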