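import Mathlib
import Cfsg.Agent.Lib.Helper34.KStab1

/-!
# The bilinear computation inside a group

`X` is a normal `p`-subgroup of class at most two of `Γ` (`p` odd), `b ∈ Γ` acts on `X` with
`[X, b, b, b] = 1` and `[[X, b, b], [X, b]] = 1`.  If every normal subgroup of `Γ` inside `X` is `X` or
lies in `Y ≤ Z(X)`, and `[Γ, X'] ≤ W₁`, `[Γ, W₁] ≤ W₂`, then `[b, X'] ≤ W₂`.
-/

set_option autoImplicit false

namespace Cfsg.Agent.Helper34.KStab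

open Subgroup
open scoped commutatorElement

section cl2

variable {Γ : Type*} [Group Γ]

theorem comm_mul_left_of {x x' y : Γ} (h1 : ⁅x', y⁆ * x = x * ⁅x', y⁆)
    (h2 : ⁅x', y⁆ * ⁅x, y⁆ = ⁅x, y⁆ * ⁅x', y⁆) : ⁅x * x', y⁆ = ⁅x, y⁆ * ⁅x', y⁆ := by
  have e : ⁅x * x', y⁆ = x * ⁅x', y⁆ * x⁻¹ * ⁅x, y⁆ := by
    simp only [commutatorElement_def]; group
  rw [e, ← h1, mul_assoc (⁅x', y⁆), mul_inv_cancel, mul_one, h2]

theorem comm_mul_right_of {x y y' : Γ} (h1 : ⁅x, y'⁆ * y = y * ⁅x, y'⁆) :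
    ⁅x, y * y'⁆ = ⁅x, y⁆ * ⁅x, y'⁆ := by
  have e : ⁅x, y * y'⁆ = ⁅x, y⁆ * (y * ⁅x, y'⁆ * y⁻¹) := by
    simp only [commutatorElement_def]; group
  rw [e, ← h1, mul_assoc (⁅x, y'⁆), mul_inv_cancel, mul_one]

theorem conj_eq_comm_mul (b x : Γ) : b * x * b⁻¹ = ⁅b, x⁆ * x := by
  simp only [commutatorElement_def]; group

end cl2

section core

variable {Γ : Type*} [Group Γ] {p : ℕ} [Fact p.Prime]

/-- a `p`-element (`p` odd) whose square lies in a subgroup lies in that subgroup -/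
theorem mem_of_sq_mem (hp : p ≠ 2) {K : Subgroup Γ} {z : Γ} (hz : ∃ k : ℕ, z ^ p ^ k = 1)
    (h : z * z ∈ K) : z ∈ K := by
  obtain ⟨k, hk⟩ := hz
  have hodd : Odd (p ^ k) := by
    apply Odd.pow
    exact (Fact.out : p.Prime).odd_of_ne_two hp
  obtain ⟨m, hm⟩ := hodd
  have e : z = (z * z) ^ (m + 1) * (z ^ p ^ k)⁻¹ := by
    rw [hm, ← pow_two, ← pow_mul]
    have : 2 * (m + 1) = (2 * m + 1) + 1 := by ring
    rw [this, pow_succ (z) (2 * m + 1)]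
    group
  rw [e, hk, inv_one, mul_one]
  exact K.pow_mem h _

theorem core_group (hp : p ≠ 2) (X Y W₁ W₂ : Subgroup Γ) [hXn : X.Normal]
    (hXp : IsPGroup p X)
    (hX2 : ⁅X, X⁆ ≤ centralizer (X : Set Γ))
    (hYX : Y ≤ centralizer (X : Set Γ))
    (hmax : ∀ R : Subgroup Γ, R.Normal → R ≤ X → R = X ∨ R ≤ Y)
    (hW1X : W₁ ≤ ⁅X, X⁆)
    (hW1 : ∀ c : Γ, ∀ w ∈ ⁅X, X⁆, ⁅c, w⁆ ∈ W₁)
    (hW12 : ∀ c : Γ, ∀ w ∈ W₁, ⁅c, w⁆ ∈ W₂)
    (b : Γ)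
    (h1 : ∀ x ∈ X, ⁅b, ⁅b, ⁅b, x⁆⁆⁆ = 1)
    (h4 : ∀ x ∈ X, ∀ y ∈ X, ⁅⁅b, ⁅b, x⁆⁆, ⁅b, y⁆⁆ = 1) :
    ∀ w ∈ ⁅X, X⁆, ⁅b, w⁆ ∈ W₂ := by
  classical
  have hWn : (⁅X, X⁆).Normal := inferInstance
  have hWX : ⁅X, X⁆ ≤ X := commutator_le_right X X
  -- elements of `X'` commute with elements of `X`
  have hWc : ∀ w ∈ ⁅X, X⁆, ∀ x ∈ X, w * x = x * w := by
    intro w hw x hx
    exact ((mem_centralizer_iff.mp (hX2 hw)) x hx).symm
  have hcomm : ∀ x ∈ X, ∀ y ∈ X, ⁅x, y⁆ ∈ ⁅X, X⁆ := fun x hx y hy =>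
    commutator_mem_commutator hx hy
  have bX : ∀ x ∈ X, ⁅b, x⁆ ∈ X := by
    intro x hx
    have : ⁅b, x⁆ = (b * x * b⁻¹) * x⁻¹ := by simp only [commutatorElement_def]
    rw [this]
    exact X.mul_mem (hXn.conj_mem x hx b) (X.inv_mem hx)
  have bW : ∀ w ∈ ⁅X, X⁆, ⁅b, w⁆ ∈ ⁅X, X⁆ := by
    intro w hw
    have : ⁅b, w⁆ = (b * w * b⁻¹) * w⁻¹ := by simp only [commutatorElement_def]
    rw [this]
    exact (⁅X, X⁆).mul_mem (hWn.conj_mem w hw b) ((⁅X, X⁆).inv_mem hw)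
  -- class-two calculus in `X`
  have cl : ∀ x ∈ X, ∀ x' ∈ X, ∀ y ∈ X, ⁅x * x', y⁆ = ⁅x, y⁆ * ⁅x', y⁆ := by
    intro x hx x' hx' y hy
    exact comm_mul_left_of (hWc _ (hcomm x' hx' y hy) x hx)
      (hWc _ (hcomm x' hx' y hy) _ (hWX (hcomm x hx y hy)))
  have cr : ∀ x ∈ X, ∀ y ∈ X, ∀ y' ∈ X, ⁅x, y * y'⁆ = ⁅x, y⁆ * ⁅x, y'⁆ := by
    intro x hx y hy y' hy'
    exact comm_mul_right_of (hWc _ (hcomm x hx y' hy') y hy)
  -- `w ↦ [b, w]` is multiplicative on `X'`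
  have mulb : ∀ w ∈ ⁅X, X⁆, ∀ w' ∈ ⁅X, X⁆, ⁅b, w * w'⁆ = ⁅b, w⁆ * ⁅b, w'⁆ := by
    intro w hw w' hw'
    refine comm_mul_right_of ?_
    exact (hWc w hw _ (hWX (bW w' hw'))).symm
  have b1 : ⁅b, (1 : Γ)⁆ = 1 := by simp [commutatorElement_def]
  have invb : ∀ w ∈ ⁅X, X⁆, ⁅b, w⁻¹⁆ = (⁅b, w⁆)⁻¹ := by
    intro w hw
    have := mulb w hw w⁻¹ ((⁅X, X⁆).inv_mem hw)
    rw [mul_inv_cancel, b1] at this
    exact eq_inv_of_mul_eq_one_right this.symm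
  -- the subgroup of `X'` mapped into `W₂`
  let Sb : Subgroup Γ :=
    { carrier := {w | w ∈ ⁅X, X⁆ ∧ ⁅b, w⁆ ∈ W₂}
      one_mem' := ⟨one_mem _, by rw [b1]; exact one_mem _⟩
      mul_mem' := by
        rintro w w' ⟨hw, hw2⟩ ⟨hw', hw2'⟩
        exact ⟨mul_mem hw hw', by rw [mulb w hw w' hw']; exact mul_mem hw2 hw2'⟩
      inv_mem' := by
        rintro w ⟨hw, hw2⟩
        exact ⟨inv_mem hw, by rw [invb w hw]; exact inv_mem hw2⟩ }
  have hSb : ∀ w, w ∈ Sb ↔ w ∈ ⁅X, X⁆ ∧ ⁅b, w⁆ ∈ W₂ := fun w => Iff.rfl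
  have hW1Sb : W₁ ≤ Sb := fun w hw => (hSb w).mpr ⟨hW1X hw, hW12 b w hw⟩
  suffices hmain : ∀ x ∈ X, ∀ y ∈ X, ⁅x, y⁆ ∈ Sb by
    have : ⁅X, X⁆ ≤ Sb := commutator_le.mpr hmain
    intro w hw
    exact ((hSb w).mp (this hw)).2
  -- the radical
  have c1 : ∀ y : Γ, ⁅(1 : Γ), y⁆ = 1 := by intro y; simp [commutatorElement_def]
  have cinv : ∀ x ∈ X, ∀ y ∈ X, ⁅x⁻¹, y⁆ = (⁅x, y⁆)⁻¹ := by
    intro x hx y hy
    have := cl x hx x⁻¹ (X.inv_mem hx) y hy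
    rw [mul_inv_cancel, c1] at this
    exact eq_inv_of_mul_eq_one_right this.symm
  let R : Subgroup Γ :=
    { carrier := {x | x ∈ X ∧ ∀ y ∈ X, ⁅x, y⁆ ∈ Sb}
      one_mem' := ⟨one_mem _, fun y _ => by rw [c1]; exact one_mem _⟩
      mul_mem' := by
        rintro x x' ⟨hx, hx2⟩ ⟨hx', hx2'⟩
        exact ⟨mul_mem hx hx', fun y hy => by
          rw [cl x hx x' hx' y hy]; exact mul_mem (hx2 y hy) (hx2' y hy)⟩
      inv_mem' := by
        rintro x ⟨hx, hx2⟩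
        exact ⟨inv_mem hx, fun y hy => by rw [cinv x hx y hy]; exact inv_mem (hx2 y hy)⟩ }
  have hR : ∀ x, x ∈ R ↔ x ∈ X ∧ ∀ y ∈ X, ⁅x, y⁆ ∈ Sb := fun x => Iff.rfl
  have hRX : R ≤ X := fun x hx => ((hR x).mp hx).1
  have hRn : R.Normal := by
    refine ⟨fun x hx c => ?_⟩
    obtain ⟨hxX, hx2⟩ := (hR x).mp hx
    refine (hR _).mpr ⟨hXn.conj_mem x hxX c, fun y hy => ?_⟩
    have hy' : c⁻¹ * y * c ∈ X := by
      have := hXn.conj_mem y hy c⁻¹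
      rwa [inv_inv] at this
    have hw := hx2 _ hy'
    have e : ⁅c * x * c⁻¹, y⁆ = ⁅c, ⁅x, c⁻¹ * y * c⁆⁆ * ⁅x, c⁻¹ * y * c⁆ := by
      simp only [commutatorElement_def]; group
    rw [e]
    exact mul_mem (hW1Sb (hW1 c _ ((hSb _).mp hw).1)) hw
  rcases hmax R hRn hRX with hRe | hRY
  · intro x hx y hy
    have : x ∈ R := by rw [hRe]; exact hx
    exact ((hR x).mp this).2 y hy
  · -- `R ≤ Y ≤ Z(X)`: the abstract computation
    have hRZ : ∀ x ∈ X, (∀ y ∈ X, ⁅b, ⁅x, y⁆⁆ ∈ W₂) → ∀ y ∈ X, ⁅x, y⁆ = 1 := by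
      intro x hx hxy y hy
      have hxR : x ∈ R := (hR x).mpr ⟨hx, fun y hy => (hSb _).mpr ⟨hcomm x hx y hy, hxy y hy⟩⟩
      have := mem_centralizer_iff.mp (hYX (hRY hxR)) y hy
      rw [commutatorElement_def, ← this]; group
    -- the centre of `X`, a commutative group
    let Z : Subgroup Γ := X ⊓ centralizer (X : Set Γ)
    have hZn : Z.Normal := inferInstance
    let _ : CommGroup ↥Z :=
      { (inferInstance : Group ↥Z) with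
        mul_comm := fun u v => Subtype.ext ((mem_centralizer_iff.mp u.2.2 v v.2.1).symm) }
    have hcZ : ∀ x y : ↥X, ⁅(x : Γ), (y : Γ)⁆ ∈ Z := fun x y =>
      ⟨hWX (hcomm x x.2 y y.2), hX2 (hcomm x x.2 y y.2)⟩
    let c : ↥X → ↥X → Additive ↥Z := fun x y => Additive.ofMul ⟨⁅(x : Γ), (y : Γ)⁆, hcZ x y⟩
    let σ : ↥X → ↥X := fun x => MulAut.conjNormal b x
    let n : ↥X → ↥X := fun x => σ x * x⁻¹
    have hn : ∀ x : ↥X, ((n x : ↥X) : Γ) = ⁅b, (x : Γ)⁆ := by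
      intro x
      show ((MulAut.conjNormal b x * x⁻¹ : ↥X) : Γ) = _
      rw [Subgroup.coe_mul, MulAut.conjNormal_apply, Subgroup.coe_inv, commutatorElement_def]
    let τ : Additive ↥Z →+ Additive ↥Z :=
      { toFun := fun m => Additive.ofMul (MulAut.conjNormal b (Additive.toMul m))
        map_zero' := by
          show Additive.ofMul (MulAut.conjNormal b (1 : ↥Z)) = Additive.ofMul (1 : ↥Z)
          rw [map_one]
        map_add' := by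
          intro u v
          show Additive.ofMul (MulAut.conjNormal b (Additive.toMul u * Additive.toMul v)) =
            Additive.ofMul (MulAut.conjNormal b (Additive.toMul u) *
              MulAut.conjNormal b (Additive.toMul v))
          rw [map_mul] }
    let M₂ : AddSubgroup (Additive ↥Z) :=
      { carrier := {m | ((Additive.toMul m : ↥Z) : Γ) ∈ W₂}
        zero_mem' := W₂.one_mem
        add_mem' := fun {u v} hu hv => W₂.mul_mem hu hv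
        neg_mem' := fun {u} hu => W₂.inv_mem hu }
    -- the value of `τ (c x y) - c x y`
    have hom : ∀ x y : ↥X, ((Additive.toMul (τ (c x y) - c x y) : ↥Z) : Γ) =
        ⁅b, ⁅(x : Γ), (y : Γ)⁆⁆ := by
      intro x y
      have e0 : (Additive.toMul (τ (c x y) - c x y) : ↥Z) =
          MulAut.conjNormal b (⟨⁅(x : Γ), (y : Γ)⁆, hcZ x y⟩ : ↥Z) /
            (⟨⁅(x : Γ), (y : Γ)⁆, hcZ x y⟩ : ↥Z) := rfl
      rw [e0, div_eq_mul_inv, Subgroup.coe_mul, MulAut.conjNormal_apply, Subgroup.coe_inv,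
        commutatorElement_def b]
    have hres := core_abstract c σ n τ M₂ ?_ ?_ ?_ ?_ ?_ ?_ ?_ ?_ ?_ ?_
    · intro x hx y hy
      have h0 := hres ⟨x, hx⟩ ⟨y, hy⟩
      have h5 := hom ⟨x, hx⟩ ⟨y, hy⟩
      rw [h0] at h5
      refine (hSb _).mpr ⟨hcomm x hx y hy, ?_⟩
      have : ⁅b, ⁅x, y⁆⁆ = 1 := h5.symm
      rw [this]; exact one_mem _
    · -- hcl
      intro x x' y
      show Additive.ofMul (⟨⁅((x * x' : ↥X) : Γ), (y : Γ)⁆, _⟩ : ↥Z) =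
        Additive.ofMul ((⟨⁅(x : Γ), (y : Γ)⁆, hcZ x y⟩ : ↥Z) * ⟨⁅(x' : Γ), (y : Γ)⁆, hcZ x' y⟩)
      congr 1
      apply Subtype.ext
      exact cl x x.2 x' x'.2 y y.2
    · -- hcr
      intro x y y'
      show Additive.ofMul (⟨⁅(x : Γ), ((y * y' : ↥X) : Γ)⁆, _⟩ : ↥Z) =
        Additive.ofMul ((⟨⁅(x : Γ), (y : Γ)⁆, hcZ x y⟩ : ↥Z) * ⟨⁅(x : Γ), (y' : Γ)⁆, hcZ x y'⟩)
      congr 1
      apply Subtype.ext
      exact cr x x.2 y y.2 y' y'.2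
    · -- hanti
      intro x y
      show Additive.ofMul (⟨⁅(x : Γ), (y : Γ)⁆, hcZ x y⟩ : ↥Z) =
        Additive.ofMul ((⟨⁅(y : Γ), (x : Γ)⁆, hcZ y x⟩ : ↥Z)⁻¹)
      congr 1
      apply Subtype.ext
      show ⁅(x : Γ), (y : Γ)⁆ = (⁅(y : Γ), (x : Γ)⁆)⁻¹
      rw [commutatorElement_inv]
    · -- hσ
      intro x
      show σ x = σ x * x⁻¹ * x
      group
    · -- hτ
      intro x y
      show Additive.ofMul (⟨⁅((σ x : ↥X) : Γ), ((σ y : ↥X) : Γ)⁆, _⟩ : ↥Z) =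
        Additive.ofMul (MulAut.conjNormal b (⟨⁅(x : Γ), (y : Γ)⁆, hcZ x y⟩ : ↥Z))
      congr 1
      apply Subtype.ext
      have e1 : ((σ x : ↥X) : Γ) = b * x * b⁻¹ := MulAut.conjNormal_apply b x
      have e2 : ((σ y : ↥X) : Γ) = b * y * b⁻¹ := MulAut.conjNormal_apply b y
      have e3 : ((MulAut.conjNormal b (⟨⁅(x : Γ), (y : Γ)⁆, hcZ x y⟩ : ↥Z) : ↥Z) : Γ) =
          b * ⁅(x : Γ), (y : Γ)⁆ * b⁻¹ := MulAut.conjNormal_apply b _
      show ⁅((σ x : ↥X) : Γ), ((σ y : ↥X) : Γ)⁆ = _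
      rw [e1, e2, e3]
      simp only [commutatorElement_def]; group
    · -- h1
      intro x
      apply Subtype.ext
      rw [hn, hn, hn]
      exact h1 x x.2
    · -- h4
      intro x y
      show Additive.ofMul (⟨⁅((n (n x) : ↥X) : Γ), ((n y : ↥X) : Γ)⁆, _⟩ : ↥Z) = Additive.ofMul (1 : ↥Z)
      congr 1
      apply Subtype.ext
      show ⁅((n (n x) : ↥X) : Γ), ((n y : ↥X) : Γ)⁆ = 1
      rw [hn, hn, hn]
      exact h4 x x.2 y y.2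
    · -- hinv
      intro x y
      have hw1 : ⁅b, ⁅(x : Γ), (y : Γ)⁆⁆ ∈ W₁ := hW1 b _ (hcomm x x.2 y y.2)
      show ((Additive.toMul (τ (τ (c x y) - c x y) - (τ (c x y) - c x y)) : ↥Z) : Γ) ∈ W₂
      have e : ((Additive.toMul (τ (τ (c x y) - c x y) - (τ (c x y) - c x y)) : ↥Z) : Γ) =
          ⁅b, ((Additive.toMul (τ (c x y) - c x y) : ↥Z) : Γ)⁆ := by
        have e0 : (Additive.toMul (τ (τ (c x y) - c x y) - (τ (c x y) - c x y)) : ↥Z) =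
            MulAut.conjNormal b (Additive.toMul (τ (c x y) - c x y)) /
              (Additive.toMul (τ (c x y) - c x y)) := rfl
        rw [e0, div_eq_mul_inv, Subgroup.coe_mul, MulAut.conjNormal_apply, Subgroup.coe_inv,
          commutatorElement_def b]
      rw [e, hom]
      exact hW12 b _ hw1
    · -- hodd
      intro m hm
      show ((Additive.toMul m : ↥Z) : Γ) ∈ W₂
      refine mem_of_sq_mem hp ?_ hm
      obtain ⟨k, hk⟩ := hXp ⟨_, (Additive.toMul m : ↥Z).2.1⟩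
      exact ⟨k, by simpa using congrArg Subtype.val hk⟩
    · -- hRZ
      intro x hx y
      show Additive.ofMul (⟨⁅(x : Γ), (y : Γ)⁆, hcZ x y⟩ : ↥Z) = Additive.ofMul (1 : ↥Z)
      congr 1
      apply Subtype.ext
      refine hRZ x x.2 ?_ y y.2
      intro y' hy'
      have := hx ⟨y', hy'⟩
      have h6 : ((Additive.toMul (τ (c x ⟨y', hy'⟩) - c x ⟨y', hy'⟩) : ↥Z) : Γ) ∈ W₂ := this
      rwa [hom] at h6

end core

end Cfsg.Agent.Helper34.KStab
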