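import Mathlib
import Cfsg.Prelude.Def_LocalEven
import Cfsg.Agent.Lib.Helper11.ZJ1
import Cfsg.Agent.Lib.Helper11.Uniserial1
import Cfsg.Agent.Lib.Helper46.QdConv1
import Cfsg.Agent.Lib.Helper34.KStab2

/-!
# General lemmas: coprime action, nilpotent action, `p`-stability on a chief factor
-/

set_option autoImplicit false

namespace Cfsg.Agent.Helper34.KStab

open Subgroup Cfsg
open scoped commutatorElement

variable {Γ : Type*} [Group Γ]

/-- coprime action: if `[u, x]` commutes with `u`, is a `p`-element, and `u` is a `p'`-element, then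
`[u, x] = 1` -/
theorem comm_eq_one_of_coprime {p : ℕ} {u x : Γ}
    (hu : (orderOf u).Coprime p) (hc : u * ⁅u, x⁆ = ⁅u, x⁆ * u)
    (hz : ∃ k : ℕ, ⁅u, x⁆ ^ p ^ k = 1) : ⁅u, x⁆ = 1 := by
  set z := ⁅u, x⁆ with hzdef
  have hconj : u * x * u⁻¹ = z * x := by rw [hzdef, commutatorElement_def]; group
  have hcm : ∀ m : ℕ, u * z ^ m = z ^ m * u := fun m => (Commute.pow_right (show Commute u z from hc) m)
  have key : ∀ m : ℕ, u ^ m * x * (u ^ m)⁻¹ = z ^ m * x := by
    intro m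
    induction m with
    | zero => simp
    | succ m ih =>
      have e1 : u ^ (m + 1) * x * (u ^ (m + 1))⁻¹ = u * (u ^ m * x * (u ^ m)⁻¹) * u⁻¹ := by
        rw [pow_succ']; group
      rw [e1, ih]
      have e2 : u * (z ^ m * x) * u⁻¹ = (u * z ^ m) * u⁻¹ * (u * x * u⁻¹) := by group
      rw [e2, hcm m, hconj, pow_succ]
      group
  have h1 : z ^ orderOf u = 1 := by
    have := key (orderOf u)
    rw [pow_orderOf_eq_one, one_mul, inv_one, mul_one] at this
    exact (mul_eq_right.mp this.symm)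
  obtain ⟨k, hk⟩ := hz
  have d1 : orderOf z ∣ orderOf u := orderOf_dvd_of_pow_eq_one h1
  have d2 : orderOf z ∣ p ^ k := orderOf_dvd_of_pow_eq_one hk
  have hd : orderOf z ∣ Nat.gcd (orderOf u) (p ^ k) := Nat.dvd_gcd d1 d2
  have hg : Nat.gcd (orderOf u) (p ^ k) = 1 := Nat.Coprime.pow_right k hu
  rw [hg, Nat.dvd_one, orderOf_eq_one_iff] at hd
  exact hd

/-- the elements whose commutators with `W` lie in the normal subgroup `M₀` -/
def commSub (W M₀ : Subgroup Γ) [hM : M₀.Normal] : Subgroup Γ where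
  carrier := {c | ∀ w ∈ W, ⁅c, w⁆ ∈ M₀}
  one_mem' := by
    intro w _
    have : ⁅(1 : Γ), w⁆ = 1 := by simp [commutatorElement_def]
    rw [this]; exact one_mem _
  mul_mem' := by
    intro c c' hc hc' w hw
    have e : ⁅c * c', w⁆ = c * ⁅c', w⁆ * c⁻¹ * ⁅c, w⁆ := by
      simp only [commutatorElement_def]; group
    rw [e]
    exact mul_mem (hM.conj_mem _ (hc' w hw) c) (hc w hw)
  inv_mem' := by
    intro c hc w hw
    have e : ⁅c⁻¹, w⁆ = c⁻¹ * (⁅c, w⁆)⁻¹ * c⁻¹⁻¹ := by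
      simp only [commutatorElement_def]; group
    rw [e]
    exact hM.conj_mem _ (inv_mem (hc w hw)) c⁻¹

theorem mem_commSub {W M₀ : Subgroup Γ} [M₀.Normal] {c : Γ} :
    c ∈ commSub W M₀ ↔ ∀ w ∈ W, ⁅c, w⁆ ∈ M₀ := Iff.rfl

/-- nilpotent action: a normal subgroup acting as a `p`-group on a nontrivial normal `p`-subgroup `M`
does not have `[M, D] = M` -/
theorem commutator_lt_of_pow_mem [Finite Γ] {p : ℕ} [Fact p.Prime] {M D : Subgroup Γ} [hM : M.Normal]
    (hD : D.Normal) (hMp : IsPGroup p M) (hne : M ≠ ⊥)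
    (hpow : ∀ d ∈ D, ∃ k : ℕ, d ^ p ^ k ∈ centralizer (M : Set Γ)) : ⁅M, D⁆ < M := by
  obtain ⟨T⟩ : Nonempty (Sylow p Γ) := inferInstance
  have hdec := Cfsg.Agent.Helper11.ZJ.exists_mul_of_pow_mem (N := centralizer (M : Set Γ)) hD hpow T
  have hTM : (T : Subgroup Γ) ≤ normalizer (M : Set Γ) := by
    rw [normalizer_eq_top]; exact le_top
  have hlt : ⁅M, (T : Subgroup Γ)⁆ < M :=
    Cfsg.Agent.Helper11.Uni.commutator_lt hMp T.isPGroup' hTM hne
  refine lt_of_le_of_lt ?_ hlt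
  rw [commutator_le]
  intro m hm d hd
  obtain ⟨c, hc, t, ht, rfl⟩ := hdec d hd
  have e : ⁅m, c * t⁆ = ⁅m, c⁆ * (c * ⁅m, t⁆ * c⁻¹) := by
    simp only [commutatorElement_def]; group
  have hmc : ⁅m, c⁆ = 1 := by
    have := mem_centralizer_iff.mp hc m hm
    rw [commutatorElement_def, this]; group
  have hmt : ⁅m, t⁆ ∈ ⁅M, (T : Subgroup Γ)⁆ := commutator_mem_commutator hm ht
  have hmtM : ⁅m, t⁆ ∈ M := hlt.le hmt
  have e2 : c * ⁅m, t⁆ * c⁻¹ = ⁅m, t⁆ := by
    have := mem_centralizer_iff.mp hc _ hmtM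
    rw [← this]; group
  rw [e, hmc, one_mul, e2]
  exact hmt

/-- `p`-stability on a chief factor: a quadratically acting element acts trivially -/
theorem quad_trivial_of_pstable [Finite Γ] {p : ℕ} [Fact p.Prime] (X Y : Subgroup Γ)
    [hXn : X.Normal] [hYn : Y.Normal] (hXp : IsPGroup p X)
    (hmax : ∀ R : Subgroup Γ, R.Normal → R ≤ X → R = X ∨ R ≤ Y)
    (hps : IsNormalizerPStable p (Γ ⧸ Y)) (b : Γ)
    (hq : ⁅⁅X, zpowers b⁆, zpowers b⁆ ≤ Y) : ⁅X, zpowers b⁆ ≤ Y := by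
  set π := QuotientGroup.mk' Y with hπ
  have hker : π.ker = Y := QuotientGroup.ker_mk' Y
  have hsurj : Function.Surjective π := QuotientGroup.mk'_surjective Y
  set Xb : Subgroup (Γ ⧸ Y) := X.map π with hXb
  have hXbn : Xb.Normal := hXn.map π hsurj
  have hXbp : IsPGroup p Xb := hXp.map π
  by_cases hne : Xb = ⊥
  · have hXY : X ≤ Y := by
      rw [← hker, ← Subgroup.map_eq_bot_iff]
      exact hne
    exact (commutator_le_left X _).trans hXY
  have hquad : ⁅⁅Xb, zpowers (π b)⁆, zpowers (π b)⁆ = ⊥ := by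
    have e : ⁅⁅Xb, zpowers (π b)⁆, zpowers (π b)⁆ = (⁅⁅X, zpowers b⁆, zpowers b⁆).map π := by
      rw [map_commutator, map_commutator, MonoidHom.map_zpowers]
    rw [e, Subgroup.map_eq_bot_iff, hker]
    exact hq
  rw [Cfsg.Agent.Helper46.isNormalizerPStable_iff] at hps
  have hbN : π b ∈ normalizer (Xb : Set (Γ ⧸ Y)) := by
    rw [normalizer_eq_top]; exact mem_top _
  obtain ⟨Q, _, hQn, hbQ, hQp⟩ := hps Xb hXbp (π b) hbN hquad
  have hQnormal : Q.Normal := by
    refine ⟨fun q hq g => ?_⟩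
    refine hQn g ?_ q hq
    rw [normalizer_eq_top]; exact mem_top _
  have hlt : ⁅Xb, Q⁆ < Xb := commutator_lt_of_pow_mem hQnormal hXbp hne hQp
  have hcn : (⁅Xb, Q⁆).Normal := inferInstance
  set R : Subgroup Γ := (⁅Xb, Q⁆).comap π ⊓ X with hR
  have hRn : R.Normal := inferInstance
  have hbot : ⁅Xb, Q⁆ = ⊥ := by
    rcases hmax R hRn inf_le_right with h | h
    · exfalso
      apply hlt.ne
      apply le_antisymm hlt.le
      rintro _ ⟨x, hx, rfl⟩
      have : x ∈ R := by rw [h]; exact hx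
      exact (mem_inf.mp this).1
    · rw [eq_bot_iff]
      intro z hz
      obtain ⟨x, hx, rfl⟩ := hlt.le hz
      have hxR : x ∈ R := mem_inf.mpr ⟨hz, hx⟩
      have : x ∈ π.ker := by rw [hker]; exact h hxR
      rw [mem_bot]
      exact this
  rw [commutator_le]
  intro x hx g hg
  have h1 : ⁅π x, π g⁆ ∈ ⁅Xb, Q⁆ := by
    apply commutator_mem_commutator (mem_map_of_mem π hx)
    obtain ⟨k, rfl⟩ := mem_zpowers_iff.mp hg
    rw [map_zpow]
    exact Q.zpow_mem hbQ k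
  rw [hbot, mem_bot, ← map_commutatorElement] at h1
  rw [← hker]
  exact h1

end Cfsg.Agent.Helper34.KStab
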