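import Mathlib
import Cfsg.Prelude.Def_LocalEven
import Cfsg.Agent.Lib.Helper34.KStab3

/-!
# The main lemma: a conjugation-closed family of class-two subgroups acting on a normal
class-two `p`-subgroup `A`, with the "star" property, generates a subgroup whose `p'`-elements
centralize `A` (all quotients `p`-stable, `p` odd).
-/

set_option autoImplicit false

namespace Cfsg.Agent.Helper34.KStab

open Subgroup Cfsg
open scoped commutatorElement

variable {Γ : Type*} [Group Γ]

theorem pprime_centralizes [Finite Γ] {p : ℕ} [Fact p.Prime] (hp : p ≠ 2)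
    (hps : ∀ (Y : Subgroup Γ) [Y.Normal], IsNormalizerPStable p (Γ ⧸ Y))
    (A : Subgroup Γ) [hAn : A.Normal] (hAp : IsPGroup p A)
    (hA2 : ⁅A, A⁆ ≤ centralizer (A : Set Γ))
    (ℬ : Set (Subgroup Γ))
    (hconj : ∀ B ∈ ℬ, ∀ g : Γ, B.map (MulAut.conj g).toMonoidHom ∈ ℬ)
    (hB2 : ∀ B ∈ ℬ, ⁅B, B⁆ ≤ centralizer (B : Set Γ))
    (hAB : ∀ B ∈ ℬ, ⁅A, B⁆ ≤ B)
    (hstar : ∀ B ∈ ℬ, ∀ X : Subgroup Γ, X.Normal → X ≤ A → ⁅B, ⁅X, X⁆⁆ = ⊥ → ⁅⁅X, B⁆, B⁆ = ⊥)
    (htop : sSup ℬ ⊔ A = ⊤) :
    ∀ u ∈ sSup ℬ, (orderOf u).Coprime p → u ∈ centralizer (A : Set Γ) := by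
  classical
  set N := sSup ℬ with hN
  have hBN : ∀ B ∈ ℬ, B ≤ N := fun B hB => le_sSup hB
  have hNn : N.Normal := by
    refine ⟨fun n hn g => ?_⟩
    have : N ≤ N.comap (MulAut.conj g).toMonoidHom := by
      apply sSup_le
      intro B hB b hb
      rw [mem_comap]
      exact hBN _ (hconj B hB g) (mem_map_of_mem _ hb)
    exact this hn
  -- the `p'`-elements of `N`
  let P : Set Γ := {u | u ∈ N ∧ (orderOf u).Coprime p}
  have hPconj : ∀ u ∈ P, ∀ g : Γ, g * u * g⁻¹ ∈ P := by
    rintro u ⟨hu, hu2⟩ g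
    refine ⟨hNn.conj_mem u hu g, ?_⟩
    have : orderOf (g * u * g⁻¹) = orderOf u := by
      have := orderOf_injective (MulAut.conj g).toMonoidHom (MulAut.conj g).injective u
      simpa using this
    rw [this]; exact hu2
  have hCPn : (centralizer P).Normal := by
    refine ⟨fun c hc g => ?_⟩
    rw [mem_centralizer_iff] at hc ⊢
    intro u hu
    have h1 := hc _ (hPconj u hu g⁻¹)
    rw [inv_inv] at h1
    calc u * (g * c * g⁻¹) = g * ((g⁻¹ * u * g) * c) * g⁻¹ := by group
      _ = g * (c * (g⁻¹ * u * g)) * g⁻¹ := by rw [h1]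
      _ = g * c * g⁻¹ * u := by group
  by_contra hcon
  push Not at hcon
  obtain ⟨u₀, hu₀N, hu₀c, hu₀A⟩ := hcon
  have hAC : ¬ A ≤ centralizer P := by
    intro h
    apply hu₀A
    rw [mem_centralizer_iff]
    intro a ha
    exact mem_centralizer_iff.mp (h ha) u₀ ⟨hu₀N, hu₀c⟩ |>.symm
  -- a minimal normal subgroup of `Γ` inside `A` not centralized by `P`
  let 𝒮 : Set (Subgroup Γ) := {X | X.Normal ∧ X ≤ A ∧ ¬ X ≤ centralizer P}
  obtain ⟨X, ⟨hXn, hXA, hXC⟩, hXmin⟩ := Set.exists_min_image 𝒮 (fun X => Nat.card X)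
    (Set.toFinite 𝒮) ⟨A, hAn, le_rfl, hAC⟩
  have := hXn
  set Y : Subgroup Γ := X ⊓ centralizer P with hY
  have hYn : Y.Normal := inferInstance
  have hYX : Y ≤ X := inf_le_left
  have hYP : Y ≤ centralizer P := inf_le_right
  have hmax : ∀ R : Subgroup Γ, R.Normal → R ≤ X → R = X ∨ R ≤ Y := by
    intro R hRn hRX
    by_cases hRC : R ≤ centralizer P
    · exact Or.inr (le_inf hRX hRC)
    · exact Or.inl (eq_of_le_of_card_ge hRX (hXmin R ⟨hRn, hRX.trans hXA, hRC⟩))
  have hXp : IsPGroup p X := hAp.to_le hXA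
  have hXne : X ≠ ⊥ := by
    intro h
    apply hXC
    rw [h]; exact bot_le
  have hX2 : ⁅X, X⁆ ≤ centralizer (X : Set Γ) :=
    ((commutator_mono hXA hXA).trans hA2).trans (centralizer_le hXA)
  have pel : ∀ x ∈ X, ∃ k : ℕ, x ^ p ^ k = 1 := by
    intro x hx
    obtain ⟨k, hk⟩ := hXp ⟨x, hx⟩
    exact ⟨k, by simpa using congrArg Subtype.val hk⟩
  -- the key consequence of coprime action
  have hcop : (∀ u ∈ P, ∀ x ∈ X, ⁅u, x⁆ ∈ centralizer P) → False := by
    intro h
    apply hXC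
    intro x hx
    rw [mem_centralizer_iff]
    intro u hu
    have hz := h u hu x hx
    have hc : u * ⁅u, x⁆ = ⁅u, x⁆ * u := mem_centralizer_iff.mp hz u hu
    have hux : ⁅u, x⁆ ∈ X := by
      have : ⁅u, x⁆ = (u * x * u⁻¹) * x⁻¹ := by simp only [commutatorElement_def]
      rw [this]
      exact X.mul_mem (hXn.conj_mem x hx u) (X.inv_mem hx)
    have := comm_eq_one_of_coprime hu.2 hc (pel _ hux)
    rw [commutatorElement_def] at this
    calc u * x = (u * x * u⁻¹ * x⁻¹) * (x * u) := by group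
      _ = x * u := by rw [this, one_mul]
  -- `Y ≤ Z(X)`
  have hYZ : Y ≤ centralizer (X : Set Γ) := by
    set K : Subgroup Γ := X ⊓ centralizer (Y : Set Γ) with hK
    have hKn : K.Normal := inferInstance
    rcases hmax K hKn inf_le_left with h | h
    · rw [le_centralizer_iff]
      rw [← h]
      exact inf_le_right
    · exfalso
      apply hcop
      intro u hu x hx
      apply hYP
      apply h
      refine mem_inf.mpr ⟨?_, ?_⟩
      · have : ⁅u, x⁆ = (u * x * u⁻¹) * x⁻¹ := by simp only [commutatorElement_def]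
        rw [this]
        exact X.mul_mem (hXn.conj_mem x hx u) (X.inv_mem hx)
      · rw [mem_centralizer_iff]
        intro y hy
        have hy' : x⁻¹ * y * x ∈ Y := by
          have := hYn.conj_mem y hy x⁻¹
          rwa [inv_inv] at this
        -- `u` commutes with `y` and with `x⁻¹ y x`
        have c1 : u * y = y * u := mem_centralizer_iff.mp (hYP hy) u hu
        have c2 : u * (x⁻¹ * y * x) = (x⁻¹ * y * x) * u := mem_centralizer_iff.mp (hYP hy') u hu
        have c2' : u⁻¹ * (x⁻¹ * y * x) * u = x⁻¹ * y * x := by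
          rw [mul_assoc, ← c2]; group
        have c1' : u * y * u⁻¹ = y := by rw [c1]; group
        have e : ⁅u, x⁆ * y * (⁅u, x⁆)⁻¹ = y := by
          calc ⁅u, x⁆ * y * (⁅u, x⁆)⁻¹
              = u * x * (u⁻¹ * (x⁻¹ * y * x) * u) * x⁻¹ * u⁻¹ := by
                simp only [commutatorElement_def]; group
            _ = u * x * (x⁻¹ * y * x) * x⁻¹ * u⁻¹ := by rw [c2']
            _ = u * y * u⁻¹ := by group
            _ = y := c1'
        rw [mul_inv_eq_iff_eq_mul] at e
        exact e.symm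
  -- `X' ≤ Y`
  have hWn : (⁅X, X⁆).Normal := inferInstance
  have hWY : ⁅X, X⁆ ≤ Y := by
    rcases hmax ⁅X, X⁆ hWn (commutator_le_right X X) with h | h
    · exfalso
      apply hXne
      have h1 : X ≤ centralizer (X : Set Γ) := by
        calc X = ⁅X, X⁆ := h.symm
          _ ≤ centralizer (X : Set Γ) := hX2
      have h2 : ⁅X, X⁆ = ⊥ := commutator_eq_bot_iff_le_centralizer.mpr h1
      rw [← h, h2]
    · exact h
  -- `N` acts as a `p`-group on every subgroup of `Y`
  have hpowN : ∀ (M : Subgroup Γ), M ≤ Y → ∀ d ∈ N, ∃ k : ℕ,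
      d ^ p ^ k ∈ centralizer (M : Set Γ) := by
    intro M hMY d hd
    have hpos : orderOf d ≠ 0 := (orderOf_pos d).ne'
    obtain ⟨k, m, hm, hdm⟩ := Nat.exists_eq_pow_mul_and_not_dvd hpos p
      (Fact.out : p.Prime).ne_one
    refine ⟨k, ?_⟩
    have hP : d ^ p ^ k ∈ P := by
      refine ⟨N.pow_mem hd _, ?_⟩
      have h1 : (d ^ p ^ k) ^ m = 1 := by rw [← pow_mul, ← hdm, pow_orderOf_eq_one]
      have h2 : orderOf (d ^ p ^ k) ∣ m := orderOf_dvd_of_pow_eq_one h1
      have h3 : Nat.Coprime m p := ((Nat.Prime.coprime_iff_not_dvd Fact.out).mpr hm).symm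
      exact Nat.Coprime.coprime_dvd_left h2 h3
    rw [mem_centralizer_iff]
    intro y hy
    exact (mem_centralizer_iff.mp (hYP (hMY hy)) _ hP).symm
  have hA_W : ∀ c ∈ A, ∀ w ∈ ⁅X, X⁆, ⁅c, w⁆ = 1 := by
    intro c hc w hw
    have hwA : w ∈ centralizer (A : Set Γ) := hA2 (commutator_mono hXA hXA hw)
    have := mem_centralizer_iff.mp hwA c hc
    rw [commutatorElement_def, this]; group
  -- `N` centralizes `X'`
  have hWN : ⁅⁅X, X⁆, N⁆ = ⊥ := by
    by_contra hne
    set M : Subgroup Γ := ⁅⁅X, X⁆, N⁆ with hMdef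
    have hMn : M.Normal := inferInstance
    have hMW : M ≤ ⁅X, X⁆ := commutator_le_left _ _
    have hMY : M ≤ Y := hMW.trans hWY
    have hMp : IsPGroup p M := hXp.to_le (hMY.trans hYX)
    set W₂ : Subgroup Γ := ⁅M, N⁆ with hW₂
    have hW₂n : W₂.Normal := inferInstance
    have hlt : W₂ < M := commutator_lt_of_pow_mem hNn hMp hne (hpowN M hMY)
    have hW1 : ∀ c : Γ, ∀ w ∈ ⁅X, X⁆, ⁅c, w⁆ ∈ M := by
      have : (⊤ : Subgroup Γ) ≤ commSub ⁅X, X⁆ M := by
        rw [← htop]
        apply sup_le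
        · intro c hc
          rw [mem_commSub]
          intro w hw
          have e : ⁅c, w⁆ = (⁅w, c⁆)⁻¹ := (commutatorElement_inv w c).symm
          rw [e]
          exact inv_mem (commutator_mem_commutator hw hc)
        · intro c hc
          rw [mem_commSub]
          intro w hw
          rw [hA_W c hc w hw]; exact one_mem _
      intro c w hw
      exact mem_commSub.mp (this (mem_top c)) w hw
    have hW12 : ∀ c : Γ, ∀ w ∈ M, ⁅c, w⁆ ∈ W₂ := by
      have : (⊤ : Subgroup Γ) ≤ commSub M W₂ := by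
        rw [← htop]
        apply sup_le
        · intro c hc
          rw [mem_commSub]
          intro w hw
          have e : ⁅c, w⁆ = (⁅w, c⁆)⁻¹ := (commutatorElement_inv w c).symm
          rw [e]
          exact inv_mem (commutator_mem_commutator hw hc)
        · intro c hc
          rw [mem_commSub]
          intro w hw
          rw [hA_W c hc w (hMW hw)]; exact one_mem _
      intro c w hw
      exact mem_commSub.mp (this (mem_top c)) w hw
    have hall : N ≤ commSub ⁅X, X⁆ W₂ := by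
      apply sSup_le
      intro B hB b hb
      rw [mem_commSub]
      have hbx : ∀ x ∈ X, ⁅b, x⁆ ∈ B := by
        intro x hx
        have e : ⁅b, x⁆ = (⁅x, b⁆)⁻¹ := (commutatorElement_inv x b).symm
        rw [e]
        exact inv_mem (hAB B hB (commutator_mem_commutator (hXA hx) hb))
      have hbbx : ∀ x ∈ X, ⁅b, ⁅b, x⁆⁆ ∈ centralizer (B : Set Γ) := fun x hx =>
        hB2 B hB (commutator_mem_commutator hb (hbx x hx))
      have h1 : ∀ x ∈ X, ⁅b, ⁅b, ⁅b, x⁆⁆⁆ = 1 := by
        intro x hx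
        have := mem_centralizer_iff.mp (hbbx x hx) b hb
        generalize ⁅b, ⁅b, x⁆⁆ = z at this ⊢
        rw [commutatorElement_def, this]; group
      have h4 : ∀ x ∈ X, ∀ y ∈ X, ⁅⁅b, ⁅b, x⁆⁆, ⁅b, y⁆⁆ = 1 := by
        intro x hx y hy
        have := mem_centralizer_iff.mp (hbbx x hx) _ (hbx y hy)
        generalize ⁅b, ⁅b, x⁆⁆ = z at this ⊢
        generalize ⁅b, y⁆ = t at this ⊢
        rw [commutatorElement_def, ← this]; group
      exact core_group hp X Y M W₂ hXp hX2 hYZ hmax hMW hW1 hW12 b h1 h4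
    have hMW₂ : M ≤ W₂ := by
      rw [hMdef, commutator_le]
      intro w hw g hg
      have := mem_commSub.mp (hall hg) w hw
      have e : ⁅w, g⁆ = (⁅g, w⁆)⁻¹ := (commutatorElement_inv g w).symm
      rw [e]; exact inv_mem this
    exact absurd hMW₂ (not_le_of_gt hlt)
  -- every member acts quadratically on `X`, hence trivially on `X / Y`
  have hXBY : N ≤ commSub X Y := by
    apply sSup_le
    intro B hB
    have hBW : ⁅B, ⁅X, X⁆⁆ = ⊥ := by
      rw [eq_bot_iff, ← hWN, commutator_comm]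
      exact commutator_mono le_rfl (hBN B hB)
    have hq := hstar B hB X hXn hXA hBW
    intro b hb
    rw [mem_commSub]
    have hzb : zpowers b ≤ B := zpowers_le.mpr hb
    have hq' : ⁅⁅X, zpowers b⁆, zpowers b⁆ ≤ Y := by
      refine le_trans ?_ (bot_le : (⊥ : Subgroup Γ) ≤ Y)
      rw [← hq]
      exact commutator_mono (commutator_mono le_rfl hzb) hzb
    have h5 := quad_trivial_of_pstable X Y hXp hmax (hps Y) b hq'
    intro x hx
    have e : ⁅b, x⁆ = (⁅x, b⁆)⁻¹ := (commutatorElement_inv x b).symm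
    rw [e]
    exact inv_mem (h5 (commutator_mem_commutator hx (mem_zpowers b)))
  apply hcop
  intro u hu x hx
  exact hYP (mem_commSub.mp (hXBY hu.1) x hx)

end Cfsg.Agent.Helper34.KStab
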