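import Mathlib
import Cfsg.Prelude.Def_LocalEven
import Cfsg.Agent.Lib.Helper87.Critical
import Cfsg.Agent.Lib.Helper34.KStab3

/-!
# `p`-stability: elements acting quadratically on the two factors of `1 ≤ Z ≤ V` lie in `O_p`
-/

set_option autoImplicit false

namespace Cfsg.Agent.Helper34.KStab

open Subgroup Cfsg
open scoped commutatorElement

variable {Γ : Type*} [Group Γ]

/-- a `p'`-element a `p`-power of which lies in a subgroup lies in that subgroup -/
theorem mem_of_pow_mem_of_coprime {p : ℕ} {K : Subgroup Γ} {h : Γ} (hh : (orderOf h).Coprime p)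
    {k : ℕ} (hk : h ^ p ^ k ∈ K) : h ∈ K := by
  have hc : (p ^ k).Coprime (orderOf h) := (Nat.Coprime.pow_right k hh).symm
  obtain ⟨m, hm⟩ := exists_pow_eq_self_of_coprime hc
  rw [← hm]
  exact K.pow_mem hk m

/-- a `p'`-element centralizing a subgroup `A` of the `p`-group `T` with `C_T(A) ≤ A` centralizes `T` -/
theorem centralizes_of_centralizes_critical [Finite Γ] {p : ℕ} [Fact p.Prime] {T A : Subgroup Γ}
    [hTn : T.Normal] (hTp : IsPGroup p T) (hAT : A ≤ T)
    (hTC : T ⊓ centralizer (A : Set Γ) ≤ A) {u : Γ} (hu : (orderOf u).Coprime p)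
    (huA : u ∈ centralizer (A : Set Γ)) : u ∈ centralizer (T : Set Γ) := by
  have key := Cfsg.Agent.Helper87.fixes_of_fixes_self_centralizing (p := p) (MulAut.conj u)
    (orderOf u) hu T hTp (fun x hx => hTn.conj_mem x hx u) ?_ A hAT hTC ?_
  · rw [mem_centralizer_iff]
    intro x hx
    have := key x hx
    rw [MulAut.conj_apply] at this
    calc x * u = (u * x * u⁻¹) * u := by rw [this]
      _ = u * x := by group
  · intro x _
    rw [← map_pow, pow_orderOf_eq_one, map_one]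
    rfl
  · intro x hx
    rw [MulAut.conj_apply]
    have := mem_centralizer_iff.mp huA x hx
    rw [← this]; group

theorem eq_one_of_centralizes_critical [Finite Γ] {p : ℕ} [Fact p.Prime] {T A : Subgroup Γ}
    [hTn : T.Normal] (hTp : IsPGroup p T) (hcon : centralizer (T : Set Γ) ≤ T) (hAT : A ≤ T)
    (hTC : T ⊓ centralizer (A : Set Γ) ≤ A) {u : Γ} (hu : (orderOf u).Coprime p)
    (huA : u ∈ centralizer (A : Set Γ)) : u = 1 := by
  have h1 : u ∈ T := hcon (centralizes_of_centralizes_critical hTp hAT hTC hu huA)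
  obtain ⟨k, hk⟩ := hTp ⟨u, h1⟩
  have hk' : u ^ p ^ k = 1 := by simpa using congrArg Subtype.val hk
  have d1 : orderOf u ∣ p ^ k := orderOf_dvd_of_pow_eq_one hk'
  have hc : (orderOf u).Coprime (p ^ k) := Nat.Coprime.pow_right k hu
  have := Nat.Coprime.eq_one_of_dvd hc d1
  exact orderOf_eq_one_iff.mp this

/-- If `g` acts quadratically on `Z` and on `V / Z`, where `1 ≤ Z ≤ V` are normal `p`-subgroups of the
group `Γ`, both `Γ` and `Γ / Z` are `p`-stable and `C_Γ(V)` has no `p'`-elements, then `g` lies in a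
normal `p`-subgroup. -/
theorem mem_normal_pgroup_of_biquadratic [Finite Γ] {p : ℕ} [Fact p.Prime] (Z V : Subgroup Γ)
    [hZn : Z.Normal] [hVn : V.Normal] (hZV : Z ≤ V) (hVp : IsPGroup p V)
    (hps0 : IsNormalizerPStable p Γ) (hps1 : IsNormalizerPStable p (Γ ⧸ Z))
    (hCV : ∀ u ∈ centralizer (V : Set Γ), (orderOf u).Coprime p → u = 1)
    (g : Γ) (h0 : ⁅⁅Z, zpowers g⁆, zpowers g⁆ = ⊥) (h1 : ⁅⁅V, zpowers g⁆, zpowers g⁆ ≤ Z) :
    ∃ D : Subgroup Γ, D.Normal ∧ IsPGroup p D ∧ g ∈ D := by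
  have hZp : IsPGroup p Z := hVp.to_le hZV
  -- first application: on `Z`
  rw [Cfsg.Agent.Helper46.isNormalizerPStable_iff] at hps0
  have hgN : g ∈ normalizer (Z : Set Γ) := by rw [normalizer_eq_top]; exact mem_top _
  obtain ⟨Q₁, _, hQ₁n, hgQ₁, hQ₁p⟩ := hps0 Z hZp g hgN h0
  have hQ₁normal : Q₁.Normal := by
    refine ⟨fun q hq c => ?_⟩
    refine hQ₁n c ?_ q hq
    rw [normalizer_eq_top]; exact mem_top _
  -- second application: on `V / Z`
  set π := QuotientGroup.mk' Z with hπ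
  have hker : π.ker = Z := QuotientGroup.ker_mk' Z
  have hsurj : Function.Surjective π := QuotientGroup.mk'_surjective Z
  set Vb : Subgroup (Γ ⧸ Z) := V.map π with hVb
  have hVbn : Vb.Normal := hVn.map π hsurj
  have hVbp : IsPGroup p Vb := hVp.map π
  have hquad : ⁅⁅Vb, zpowers (π g)⁆, zpowers (π g)⁆ = ⊥ := by
    have e : ⁅⁅Vb, zpowers (π g)⁆, zpowers (π g)⁆ = (⁅⁅V, zpowers g⁆, zpowers g⁆).map π := by
      rw [map_commutator, map_commutator, MonoidHom.map_zpowers]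
    rw [e, Subgroup.map_eq_bot_iff, hker]
    exact h1
  rw [Cfsg.Agent.Helper46.isNormalizerPStable_iff] at hps1
  have hgN' : π g ∈ normalizer (Vb : Set (Γ ⧸ Z)) := by
    rw [normalizer_eq_top]; exact mem_top _
  obtain ⟨Q₂, _, hQ₂n, hgQ₂, hQ₂p⟩ := hps1 Vb hVbp (π g) hgN' hquad
  have hQ₂normal : Q₂.Normal := by
    refine ⟨fun q hq c => ?_⟩
    refine hQ₂n c ?_ q hq
    rw [normalizer_eq_top]; exact mem_top _
  set D : Subgroup Γ := Q₁ ⊓ Q₂.comap π with hD
  have hDn : D.Normal := inferInstance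
  refine ⟨D, hDn, ?_, mem_inf.mpr ⟨hgQ₁, hgQ₂⟩⟩
  -- `p'`-elements of `D` are trivial
  have htriv : ∀ h ∈ D, (orderOf h).Coprime p → h = 1 := by
    intro h hhD hh
    obtain ⟨hh1, hh2⟩ := mem_inf.mp hhD
    apply hCV h _ hh
    obtain ⟨k₁, hk₁⟩ := hQ₁p h hh1
    have hcZ : h ∈ centralizer (Z : Set Γ) := mem_of_pow_mem_of_coprime hh hk₁
    obtain ⟨k₂, hk₂⟩ := hQ₂p (π h) hh2
    have hh' : (orderOf (π h)).Coprime p :=
      Nat.Coprime.coprime_dvd_left (orderOf_map_dvd π h) hh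
    have hcV : π h ∈ centralizer (Vb : Set (Γ ⧸ Z)) := mem_of_pow_mem_of_coprime hh' hk₂
    rw [mem_centralizer_iff]
    intro v hv
    -- `[h, v] ∈ Z`
    have hz : ⁅h, v⁆ ∈ Z := by
      rw [← hker, MonoidHom.mem_ker, map_commutatorElement]
      have := mem_centralizer_iff.mp hcV (π v) (mem_map_of_mem π hv)
      rw [commutatorElement_def, ← this]; group
    have hc : h * ⁅h, v⁆ = ⁅h, v⁆ * h := (mem_centralizer_iff.mp hcZ _ hz).symm
    have hpz : ∃ k : ℕ, ⁅h, v⁆ ^ p ^ k = 1 := by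
      obtain ⟨k, hk⟩ := hZp ⟨_, hz⟩
      exact ⟨k, by simpa using congrArg Subtype.val hk⟩
    have := comm_eq_one_of_coprime hh hc hpz
    rw [commutatorElement_def] at this
    calc v * h = (h * v * h⁻¹ * v⁻¹)⁻¹ * (h * v) := by group
      _ = h * v := by rw [this, inv_one, one_mul]
  intro d
  have hpos : orderOf (d : Γ) ≠ 0 := (orderOf_pos (d : Γ)).ne'
  obtain ⟨k, m, hm, hdm⟩ := Nat.exists_eq_pow_mul_and_not_dvd hpos p
    (Fact.out : p.Prime).ne_one
  refine ⟨k, ?_⟩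
  apply Subtype.ext
  rw [Subgroup.coe_pow, Subgroup.coe_one]
  apply htriv _ (D.pow_mem d.2 _)
  have h1' : ((d : Γ) ^ p ^ k) ^ m = 1 := by rw [← pow_mul, ← hdm, pow_orderOf_eq_one]
  have h2 : orderOf ((d : Γ) ^ p ^ k) ∣ m := orderOf_dvd_of_pow_eq_one h1'
  have h3 : Nat.Coprime m p := ((Nat.Prime.coprime_iff_not_dvd Fact.out).mpr hm).symm
  exact Nat.Coprime.coprime_dvd_left h2 h3

end Cfsg.Agent.Helper34.KStab
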