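import Mathlib
import Cfsg.Prelude.Def_LocalEven
import Cfsg.Prelude.Def_ConjugacyFunctors
import Cfsg.Agent.Lib.Helper54.KInfQuartic
import Cfsg.Agent.Lib.Helper11.QP8
import Cfsg.Agent.Lib.Helper11.DLA2
import Cfsg.Agent.Lib.Helper46.Involves2
import Cfsg.Agent.Lib.Helper34.KStab4
import Cfsg.Agent.Lib.Helper34.KStab5

/-!
# Members of lower-star families lie in `O_p(G)` (`Qd(p)`-free groups, `p` odd)
-/

set_option autoImplicit false

namespace Cfsg.Agent.Helper34.KStab

open Subgroup Cfsg
open scoped commutatorElement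

universe u

section star

variable {G : Type*} [Group G]

/-- the properties of a member `B` of a lower-star family relative to a "critical" subgroup `A` -/
structure StarProp (A B : Subgroup G) : Prop where
  cl2 : ⁅⁅B, B⁆, B⁆ = ⊥
  norm : ⁅A, B⁆ ≤ B
  star : ∀ X : Subgroup G, X ≤ A → ⁅X, B⁆ ≤ X → ⁅B, ⁅X, X⁆⁆ = ⊥ → ⁅⁅X, B⁆, B⁆ = ⊥

theorem StarProp.map_equiv {A B : Subgroup G} (h : StarProp A B) (φ : G ≃* G)
    (hA : A.map φ.toMonoidHom = A) : StarProp A (B.map φ.toMonoidHom) := by
  set f := φ.toMonoidHom with hf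
  have hinj : Function.Injective f := φ.injective
  have hsurj : Function.Surjective f := φ.surjective
  refine ⟨?_, ?_, ?_⟩
  · rw [← map_commutator, ← map_commutator, h.cl2, Subgroup.map_bot]
  · calc ⁅A, B.map f⁆ = ⁅A.map f, B.map f⁆ := by rw [hA]
      _ = (⁅A, B⁆).map f := (map_commutator _ _ _).symm
      _ ≤ B.map f := map_mono h.norm
  · intro X hXA hXB hBX
    set X₀ := X.comap f with hX₀
    have hX : X₀.map f = X := map_comap_eq_self_of_surjective hsurj X
    have h1 : X₀ ≤ A := by
      rw [← map_le_map_iff_of_injective hinj, hX, hA]; exact hXA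
    have h2 : ⁅X₀, B⁆ ≤ X₀ := by
      rw [← map_le_map_iff_of_injective hinj, map_commutator, hX]; exact hXB
    have h3 : ⁅B, ⁅X₀, X₀⁆⁆ = ⊥ := by
      rw [← map_eq_bot_iff_of_injective _ hinj, map_commutator, map_commutator, hX]; exact hBX
    have h4 := h.star X₀ h1 h2 h3
    rw [← map_eq_bot_iff_of_injective _ hinj, map_commutator, map_commutator, hX] at h4
    exact h4

end star

section main

variable {G : Type u} [Group G]

theorem le_pCore_of_starProp [Finite G] {p : ℕ} [Fact p.Prime] (hp : p ≠ 2)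
    (hfree : ¬ Involves ↥(qd p) G)
    (A : Subgroup G) [hAn : A.Normal] (hAp : IsPGroup p A)
    (hA2 : ⁅A, A⁆ ≤ centralizer (A : Set G))
    (hCA : ∀ u ∈ centralizer (A : Set G), (orderOf u).Coprime p → u = 1)
    (B : Subgroup G) (hB : StarProp A B) : B ≤ pCore p G := by
  classical
  let ℬG : Set (Subgroup G) := {B' | ∃ g : G, B' = B.map (MulAut.conj g).toMonoidHom}
  have hℬG : ∀ B' ∈ ℬG, StarProp A B' := by
    rintro _ ⟨g, rfl⟩
    exact hB.map_equiv (MulAut.conj g) (Subgroup.Normal.map_conj_eq A g)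
  have hℬGconj : ∀ B' ∈ ℬG, ∀ g : G, B'.map (MulAut.conj g).toMonoidHom ∈ ℬG := by
    rintro _ ⟨g₀, rfl⟩ g
    refine ⟨g * g₀, ?_⟩
    rw [Subgroup.map_map]
    congr 1
    ext x
    simp [mul_assoc]
  have hBmem : B ∈ ℬG := ⟨1, by
    have : (MulAut.conj (1 : G)).toMonoidHom = MonoidHom.id G := by ext x; simp
    rw [this, Subgroup.map_id]⟩
  set N : Subgroup G := sSup ℬG with hN
  have hNn : N.Normal := by
    refine ⟨fun n hn g => ?_⟩
    have : N ≤ N.comap (MulAut.conj g).toMonoidHom := by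
      apply sSup_le
      intro B' hB' b hb
      rw [mem_comap]
      exact le_sSup (hℬGconj B' hB' g) (mem_map_of_mem _ hb)
    exact this hn
  set G₁ : Subgroup G := N ⊔ A with hG₁
  have hNG₁ : N ≤ G₁ := le_sup_left
  have hAG₁ : A ≤ G₁ := le_sup_right
  set ι := G₁.subtype with hι
  have hinj : Function.Injective ι := G₁.subtype_injective
  set AΓ : Subgroup ↥G₁ := A.subgroupOf G₁ with hAΓ
  have hAΓmap : AΓ.map ι = A := Cfsg.Agent.Helper54.KInf.map_subgroupOf_eq hAG₁
  let ℬ : Set (Subgroup ↥G₁) := {B₁ | B₁.map ι ∈ ℬG}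
  have hsup : (sSup ℬ).map ι = N := by
    apply le_antisymm
    · rw [map_le_iff_le_comap]
      apply sSup_le
      intro B₁ hB₁
      rw [← map_le_iff_le_comap]
      exact le_sSup hB₁
    · apply sSup_le
      intro B' hB'
      have hB'G₁ : B' ≤ G₁ := (le_sSup hB').trans hNG₁
      have e : (B'.subgroupOf G₁).map ι = B' := Cfsg.Agent.Helper54.KInf.map_subgroupOf_eq hB'G₁
      have hmem : B'.subgroupOf G₁ ∈ ℬ := by
        show (B'.subgroupOf G₁).map ι ∈ ℬG
        rw [e]; exact hB'
      calc B' = (B'.subgroupOf G₁).map ι := e.symm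
        _ ≤ (sSup ℬ).map ι := map_mono (le_sSup hmem)
  have hres := pprime_centralizes (Γ := ↥G₁) (p := p) hp ?_ AΓ ?_ ?_ ℬ ?_ ?_ ?_ ?_ ?_
  · -- `N` is a `p`-group
    have htriv : ∀ h ∈ N, (orderOf h).Coprime p → h = 1 := by
      intro h hh hc
      apply hCA h _ hc
      rw [← hsup] at hh
      obtain ⟨h', hh', rfl⟩ := hh
      have hc' : (orderOf h').Coprime p := by
        rw [← Subgroup.orderOf_coe]; exact hc
      have h1 := hres h' hh' hc'
      rw [mem_centralizer_iff] at h1 ⊢
      intro a ha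
      have := h1 ⟨a, hAG₁ ha⟩ (mem_subgroupOf.mpr ha)
      exact congrArg Subtype.val this
    have hNp : IsPGroup p N := by
      intro d
      have hpos : orderOf (d : G) ≠ 0 := (orderOf_pos (d : G)).ne'
      obtain ⟨k, m, hm, hdm⟩ := Nat.exists_eq_pow_mul_and_not_dvd hpos p
        (Fact.out : p.Prime).ne_one
      refine ⟨k, ?_⟩
      apply Subtype.ext
      rw [Subgroup.coe_pow, Subgroup.coe_one]
      apply htriv _ (N.pow_mem d.2 _)
      have h1' : ((d : G) ^ p ^ k) ^ m = 1 := by rw [← pow_mul, ← hdm, pow_orderOf_eq_one]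
      have h2 : orderOf ((d : G) ^ p ^ k) ∣ m := orderOf_dvd_of_pow_eq_one h1'
      have h3 : Nat.Coprime m p := ((Nat.Prime.coprime_iff_not_dvd Fact.out).mpr hm).symm
      exact Nat.Coprime.coprime_dvd_left h2 h3
    exact (le_sSup hBmem).trans (Cfsg.Agent.Helper54.le_pCore hNn hNp)
  · -- `p`-stability of the quotients
    intro Y hY
    apply Cfsg.Agent.Helper11.QP.isNormalizerPStable_of_qdFree (Cfsg.Agent.Helper11.QP.dlHyp p hp) hp
    intro hinv
    apply hfree
    apply Cfsg.Agent.Helper46.involves_of_involves_subgroup G₁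
    exact Cfsg.Agent.Helper46.involves_of_involves_quotient (QuotientGroup.mk' Y)
      (QuotientGroup.mk'_surjective Y) hinv
  · exact hAp.comap_subtype
  · -- class two
    have : AΓ.map ι ∈ classTwoSubgroups G := by rw [hAΓmap]; exact hA2
    exact (Cfsg.Agent.Helper33.map_mem_classTwo_iff ι hinj AΓ).mp this
  · -- closed under conjugation
    intro B₁ hB₁ g
    show (B₁.map (MulAut.conj g).toMonoidHom).map ι ∈ ℬG
    have e : (B₁.map (MulAut.conj g).toMonoidHom).map ι =
        (B₁.map ι).map (MulAut.conj (g : G)).toMonoidHom := by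
      rw [Subgroup.map_map, Subgroup.map_map]
      congr 1
    rw [e]
    exact hℬGconj _ hB₁ _
  · -- class two
    intro B₁ hB₁
    have h1 := (hℬG _ hB₁).cl2
    rw [← map_commutator, ← map_commutator, map_eq_bot_iff_of_injective _ hinj] at h1
    exact commutator_eq_bot_iff_le_centralizer.mp h1
  · -- normalized by `A`
    intro B₁ hB₁
    have h1 := (hℬG _ hB₁).norm
    rw [← hAΓmap, ← map_commutator, map_le_map_iff_of_injective hinj] at h1
    exact h1
  · -- the star property
    intro B₁ hB₁ X₁ hX₁n hX₁A hBX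
    have h1 := (hℬG _ hB₁).star (X₁.map ι) ?_ ?_ ?_
    · rw [← map_commutator, ← map_commutator, map_eq_bot_iff_of_injective _ hinj] at h1
      exact h1
    · rw [← hAΓmap]; exact map_mono hX₁A
    · rw [← map_commutator]
      exact map_mono (commutator_le_left X₁ B₁)
    · rw [← map_commutator, ← map_commutator, hBX, Subgroup.map_bot]
  · -- generation
    apply Subgroup.map_injective hinj
    rw [Subgroup.map_sup, hsup, hAΓmap, ← MonoidHom.range_eq_map, Subgroup.range_subtype]

end main

end Cfsg.Agent.Helper34.KStab
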