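import Mathlib
import Cfsg.Prelude.Def_LocalEven
import Cfsg.Prelude.Def_ConjugacyFunctors
import Cfsg.Agent.Lib.Helper54.KInfQuartic
import Cfsg.Agent.Lib.Helper34.KStab6

/-!
# Glauberman: the K-infinity subgroups are normal in a `Qd(p)`-free group `G` with
`C_G(O_p(G)) ≤ O_p(G)` (`p` odd)
-/

set_option autoImplicit false

namespace Cfsg.Agent.Helper34.KStab

open Subgroup Cfsg Cfsg.Agent.Helper54.KInf
open scoped commutatorElement

universe u

variable {G : Type u} [Group G]

/-- a member of a lower-star family (relative to a subgroup containing the critical subgroup `A`) has the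
star property in `G` -/
theorem starProp_of_mem_lower {S T A : Subgroup G} [A.Normal] (hTS : T ≤ S) (hAT : A ≤ T)
    (hA2 : ⁅A, A⁆ ≤ centralizer (A : Set G)) (hTA : ⁅T, A⁆ ≤ zc A)
    (hbq : ∀ g ∈ S, ⁅⁅A, zpowers g⁆, zpowers g⁆ ≤ zc A → ⁅⁅zc A, zpowers g⁆, zpowers g⁆ = ⊥ →
      g ∈ T)
    (Q B : Subgroup S) (hAQ : A.subgroupOf S ≤ Q) (hB : B ∈ kLowerStarFamily Q) :
    StarProp A (B.map S.subtype) := by
  have hAS : A ≤ S := hAT.trans hTS
  have hinj : Function.Injective S.subtype := S.subtype_injective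
  obtain ⟨hB2, hQB, hcond⟩ := hB
  set B' := B.map S.subtype with hB'
  have hB'S : B' ≤ S := map_subtype_le B
  have hcl2 : ⁅⁅B', B'⁆, B'⁆ = ⊥ :=
    Cfsg.Agent.Helper33.mem_classTwo_iff.mp
      ((Cfsg.Agent.Helper33.map_mem_classTwo_iff S.subtype hinj B).mpr hB2)
  have hnorm : ⁅A, B'⁆ ≤ B' := by
    have h1 : ⁅A.subgroupOf S, B⁆ ≤ B :=
      le_normalizer_iff_commutator_le_right.mp (hAQ.trans hQB)
    have h2 := map_mono (f := S.subtype) h1
    rwa [map_commutator, map_subgroupOf_eq hAS] at h2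
  have hzB : zc B' ≤ centralizer (B' : Set G) := inf_le_right
  have hBz : ⁅B', zc B'⁆ = ⊥ := by
    rw [commutator_comm]
    exact commutator_eq_bot_iff_le_centralizer.mpr hzB
  -- the centre of `B'` lies in `T`
  have hzT : zc B' ≤ T := by
    intro g hg
    have hgz : zpowers g ≤ zc B' := zpowers_le.mpr hg
    have hq : ⁅⁅A, zpowers g⁆, zpowers g⁆ = ⊥ := by
      rw [eq_bot_iff, ← hBz]
      refine commutator_mono ?_ hgz
      exact (commutator_mono le_rfl (hgz.trans inf_le_left)).trans hnorm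
    apply hbq g (hB'S (inf_le_left (a := B') hg))
    · rw [hq]; exact bot_le
    · rw [eq_bot_iff, ← hq]
      exact commutator_mono (commutator_mono inf_le_left le_rfl) le_rfl
  refine ⟨hcl2, hnorm, ?_⟩
  intro X hXA hXB hBX
  have hXS : X ≤ S := hXA.trans hAS
  set A₁ : Subgroup S := X.subgroupOf S with hA₁
  have hA₁map : A₁.map S.subtype = X := map_subgroupOf_eq hXS
  have hX2 : ⁅X, X⁆ ≤ centralizer (X : Set G) :=
    ((commutator_mono hXA hXA).trans hA2).trans (centralizer_le hXA)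
  have h1 : A₁ ∈ classTwoSubgroups S := by
    rw [← Cfsg.Agent.Helper33.map_mem_classTwo_iff S.subtype hinj, hA₁map]
    exact hX2
  have h2 : A₁ ≤ Q := by
    refine le_trans ?_ hAQ
    rw [← map_le_map_iff_of_injective hinj, hA₁map, map_subgroupOf_eq hAS]
    exact hXA
  have h3 : B ≤ normalizer (A₁ : Set S) := by
    rw [le_normalizer_iff_commutator_le_left, ← map_le_map_iff_of_injective hinj, map_commutator,
      hA₁map]
    exact hXB
  have h4 : ⁅B, ⁅A₁, A₁⁆⁆ = ⊥ := by
    rw [← map_eq_bot_iff_of_injective _ hinj, map_commutator, map_commutator, hA₁map]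
    exact hBX
  have h5 : ⁅⁅zc B, A₁⁆, A₁⁆ = ⊥ := by
    rw [← map_eq_bot_iff_of_injective _ hinj, map_commutator, map_commutator, hA₁map, map_zc,
      eq_bot_iff]
    have e1 : ⁅zc B', X⁆ ≤ zc A := (commutator_mono hzT hXA).trans hTA
    have e2 : ⁅zc A, A⁆ = ⊥ :=
      commutator_eq_bot_iff_le_centralizer.mpr inf_le_right
    rw [← e2]
    exact commutator_mono e1 hXA
  have h6 := hcond A₁ h1 h2 h3 h4 h5
  have h7 := map_mono (f := S.subtype) h6
  rw [map_commutator, hA₁map, map_zc] at h7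
  rw [commutator_comm X B']
  exact commutator_eq_bot_iff_le_centralizer.mpr (h7.trans hzB)

/-- **Glauberman**: in a `Qd(p)`-free group (`p` odd) with `C_G(O_p(G)) ≤ O_p(G)`, the K-infinity
subgroups of a Sylow `p`-subgroup are normal. -/
theorem kInf_normal_of_qdFree [Finite G] {p : ℕ} [Fact p.Prime] (hp : p ≠ 2)
    (hfree : ¬ Involves ↥(qd p) G)
    (hcon : centralizer ((pCore p G : Subgroup G) : Set G) ≤ pCore p G) (S : Sylow p G) :
    (inducedFunctor kInfLower (S : Subgroup G)).Normal ∧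
      (inducedFunctor kInfUpper (S : Subgroup G)).Normal := by
  have hTS : pCore p G ≤ (S : Subgroup G) := Cfsg.Agent.Helper54.pCore_le_sylow S
  have hTn : (pCore p G).Normal := pCore_normal_inst
  have hTp : IsPGroup p (pCore p G) := Cfsg.Agent.Helper54.isPGroup_pCore
  obtain ⟨A, hAn, hAT, hA2, hTA, hTC⟩ := exists_critical_in_pCore G p
  have hAp : IsPGroup p A := hTp.to_le hAT
  have hCA : ∀ u ∈ centralizer (A : Set G), (orderOf u).Coprime p → u = 1 := fun u huA hu =>
    eq_one_of_centralizes_critical hTp hcon hAT (hTC.trans inf_le_left) hu huA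
  have hps0 : IsNormalizerPStable p G :=
    Cfsg.Agent.Helper11.QP.isNormalizerPStable_of_qdFree (Cfsg.Agent.Helper11.QP.dlHyp p hp) hp hfree
  have hZn : (zc A).Normal := zc_normal A
  have hps1 : IsNormalizerPStable p (G ⧸ zc A) := by
    apply Cfsg.Agent.Helper11.QP.isNormalizerPStable_of_qdFree (Cfsg.Agent.Helper11.QP.dlHyp p hp) hp
    intro hinv
    exact hfree (Cfsg.Agent.Helper46.involves_of_involves_quotient (QuotientGroup.mk' (zc A))
      (QuotientGroup.mk'_surjective _) hinv)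
  have hbq : ∀ g ∈ (S : Subgroup G), ⁅⁅A, zpowers g⁆, zpowers g⁆ ≤ zc A →
      ⁅⁅zc A, zpowers g⁆, zpowers g⁆ = ⊥ → g ∈ pCore p G := by
    intro g _ h1 h2
    obtain ⟨D, hDn, hDp, hgD⟩ := mem_normal_pgroup_of_biquadratic (zc A) A inf_le_left hAp
      hps0 hps1 hCA g h2 h1
    exact Cfsg.Agent.Helper54.le_pCore hDn hDp hgD
  have hL : ∀ Q B : Subgroup (S : Subgroup G), A.subgroupOf (S : Subgroup G) ≤ Q →
      B ∈ kLowerStarFamily Q → B ≤ (pCore p G).subgroupOf (S : Subgroup G) := by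
    intro Q B hAQ hB
    have hstar := starProp_of_mem_lower hTS hAT hA2 hTA hbq Q B hAQ hB
    have hle := le_pCore_of_starProp hp hfree A hAp hA2 hCA _ hstar
    intro x hx
    rw [mem_subgroupOf]
    exact hle (mem_map_of_mem _ hx)
  have hseq := kSeq_le_of hTS hAT hA2 hTA hbq hL
  have heq := inducedFunctor_kInf_eq_of hTS hseq
  have hnor := inducedFunctor_kInf_normal (pCore p G)
  rw [heq.1, heq.2]
  exact hnor

end Cfsg.Agent.Helper34.KStab
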