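import Mathlib
import Cfsg.Agent.Lib.Helper87.SVKit
import Cfsg.Agent.Lib.Helper17.SylowLink
import Cfsg.Agent.Lib.Helper17.SelfCent
import Cfsg.Agent.Lib.Helper17.PrimeTIApp
import Cfsg.Agent.Lib.Helper34.DihExc

/-!
# O175560 (N58520) (helper34, for helper24's server, S4274): no simple group of order
`58520 = 2^3 * 5 * 7 * 11 * 19`.

`n_19 ∈ {77, 1540}`. `n_19 = 77`: `|C(P19)| = 380`, an element of order `5` in `C(P19)` has
`f ≡ 1 (19)`, `f ≡ 2 (5)`, `f < 77` fixed points on `Syl_19`: impossible. So `n_19 = 1540`, `|N19| = 38`,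
`C(P19) = P19`, and the exceptional characters of `P19` are `9` characters of degree `55`
(`x = 56`, `d = 55` is the only solution of the degree equation).
`n_7 ∈ {22, 190, 4180}`: `22` gives `19 ∣ |C(P7)|`, `190` gives `11 ∣ |C(P7)|`; by the link step
`7 ∣ |N19| = 38` resp. `7 ∣ |N11| ∈ {1045, 440}`, absurd. So `n_7 = 4180`, `|N7| = 14`, `C(P7) = P7`, and
at most `3 + 1` nontrivial irreducible characters have degree prime to `7` -- but `7 ∤ 55`.
-/

set_option autoImplicit false

namespace Cfsg.Agent.Helper34.O175560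

open Nat MulAction Cfsg Cfsg.Agent.Helper17 Cfsg.Agent.Helper17.Sieve Cfsg.Agent.Helper75.FixKill
  Cfsg.Agent.Helper87.SV

universe u

set_option maxRecDepth 100000 in
theorem h34_58520_adm19 : ∀ d ∈ List.range (3080 + 1), d ∣ 3080 → d % 19 = 1 →
    ¬ Bad (19 ^ 1 * 3080) 19 1 3080 d → d = 77 ∨ d = 1540 := by
  decide +kernel

set_option maxRecDepth 100000 in
theorem h34_58520_adm7 : ∀ d ∈ List.range (8360 + 1), d ∣ 8360 → d % 7 = 1 →
    ¬ Bad (7 ^ 1 * 8360) 7 1 8360 d → d = 22 ∨ d = 190 ∨ d = 4180 := by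
  decide +kernel

set_option maxRecDepth 100000 in
theorem h34_58520_adm11 : ∀ d ∈ List.range (5320 + 1), d ∣ 5320 → d % 11 = 1 →
    ¬ Bad (11 ^ 1 * 5320) 11 1 5320 d → ¬ 7 ∣ 58520 / d := by
  decide +kernel

set_option maxRecDepth 100000 in
theorem h34_58520_deg : ∀ x ∈ Nat.divisors 58520, 1 < x → ∀ d ∈ Nat.divisors 58520,
    ((19 ∣ x - 1 ∧ d = x + 1) ∨ (19 ∣ x + 1 ∧ d = x - 1)) → d = 55 := by
  decide +kernel

/-- no nonabelian simple group of order 58520 -/
theorem h34_no_58520 : NoSimple.{u} 58520 := by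
  intro G _ _ _ hna hn0
  have h19 : Fact (Nat.Prime 19) := ⟨by norm_num⟩
  have h11 : Fact (Nat.Prime 11) := ⟨by norm_num⟩
  have h7 : Fact (Nat.Prime 7) := ⟨by norm_num⟩
  have h5 : Fact (Nat.Prime 5) := ⟨by norm_num⟩
  have hn19 : Nat.card G = 19 ^ 1 * 3080 := by rw [hn0]; norm_num
  have hn11 : Nat.card G = 11 ^ 1 * 5320 := by rw [hn0]; norm_num
  have hn7 : Nat.card G = 7 ^ 1 * 8360 := by rw [hn0]; norm_num
  obtain ⟨hP19, hr19, hd19, hm19, hb19, hone19, he19⟩ :=
    h87_data hna 19 3080 (by norm_num) hn19 (by norm_num)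
  obtain ⟨hP11, hr11, hd11, hm11, hb11, -, he11⟩ :=
    h87_data hna 11 5320 (by norm_num) hn11 (by norm_num)
  obtain ⟨hP7, hr7, hd7, hm7, hb7, -, he7⟩ :=
    h87_data hna 7 8360 (by norm_num) hn7 (by norm_num)
  obtain ⟨P19⟩ : Nonempty (Sylow 19 G) := inferInstance
  obtain ⟨P7⟩ : Nonempty (Sylow 7 G) := inferInstance
  have := Fintype.ofFinite G
  have hperf : commutator G = ⊤ :=
    Cfsg.Agent.Helper17.PrimeTI.perfect_of_simple (by rw [hn0]; norm_num)
  -- Step 1: `n_19 = 1540`
  have hc19 : Nat.card (Sylow 19 G) = 1540 := by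
    rcases h34_58520_adm19 _ hr19 hd19 hm19 hb19 with h | h
    · exfalso
      obtain ⟨e, hea, heb, hec⟩ := he19 P19
      have hele : e ≤ 18 := Nat.le_of_dvd (by norm_num) hea
      rw [h] at hec
      have h5c : 5 ∣ Nat.card (Subgroup.centralizer ((P19 : Subgroup G) : Set G)) := by
        generalize Nat.card (Subgroup.centralizer ((P19 : Subgroup G) : Set G)) = c at hec
        interval_cases e <;> omega
      obtain ⟨f, m', -, hf1, hf2, -, hf3, -⟩ :=
        exists_fix (G := G) (by rw [hn0]; norm_num) (p := 19) (r := 5) (by norm_num) P19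
          (hP19 P19) hone19 h5c
      rw [h] at hf2 hf3
      omega
    · exact h
  have hN19 : Nat.card (Subgroup.normalizer (((P19 : Subgroup G)) : Set G)) = 19 * 2 := by
    rw [h87_card_normalizer P19, hn0, hc19]
  have hC19 : Subgroup.centralizer ((P19 : Subgroup G) : Set G) = (P19 : Subgroup G) :=
    Cfsg.Agent.Helper17.centralizer_eq_of_card_normalizer P19 (hP19 P19) (by rw [hn0]; norm_num)
      Nat.prime_two hN19
  -- Step 2: `n_7 = 4180`
  have hc7 : Nat.card (Sylow 7 G) = 4180 := by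
    obtain ⟨e, hea, heb, hec⟩ := he7 P7
    have hele : e ≤ 6 := Nat.le_of_dvd (by norm_num) hea
    rcases h34_58520_adm7 _ hr7 hd7 hm7 hb7 with h | h | h
    · exfalso
      rw [h] at hec
      have h19c : 19 ∣ Nat.card (Subgroup.centralizer ((P7 : Subgroup G) : Set G)) := by
        generalize Nat.card (Subgroup.centralizer ((P7 : Subgroup G) : Set G)) = c at hec
        interval_cases e <;> omega
      have := h87_link hP7 hP19 P7 h19c
      rw [hn0, hc19] at this
      omega
    · exfalso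
      rw [h] at hec
      have h11c : 11 ∣ Nat.card (Subgroup.centralizer ((P7 : Subgroup G) : Set G)) := by
        generalize Nat.card (Subgroup.centralizer ((P7 : Subgroup G) : Set G)) = c at hec
        interval_cases e <;> omega
      have := h87_link hP7 hP11 P7 h11c
      rw [hn0] at this
      exact h34_58520_adm11 _ hr11 hd11 hm11 hb11 this
    · exact h
  have hN7 : Nat.card (Subgroup.normalizer (((P7 : Subgroup G)) : Set G)) = 7 * 2 := by
    rw [h87_card_normalizer P7, hn0, hc7]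
  have hC7 : Subgroup.centralizer ((P7 : Subgroup G) : Set G) = (P7 : Subgroup G) :=
    Cfsg.Agent.Helper17.centralizer_eq_of_card_normalizer P7 (hP7 P7) (by rw [hn0]; norm_num)
      Nat.prime_two hN7
  -- Step 3: the nine exceptional characters of degree `55`
  obtain ⟨E, x, d, hEcard, hEdeg, hEne, hx1, hxd, hdd, hxd'⟩ :=
    Cfsg.Agent.Helper34.DihExc.h34_dihedral_exc hperf (P19 : Subgroup G) 19 9 (hP19 P19) hC19 hN19
      (by norm_num) (by norm_num)
  rw [hn0] at hxd hdd
  have hd55 : d = 55 :=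
    h34_58520_deg x (Nat.mem_divisors.2 ⟨hxd, by norm_num⟩) hx1 d
      (Nat.mem_divisors.2 ⟨hdd, by norm_num⟩) hxd'
  -- Step 4: at most four of them have degree prime to `7`
  have hle := Cfsg.Agent.Helper34.DihExc.h34_card_le_of_not_dvd (P7 : Subgroup G) 7 3 (hP7 P7) hC7
    hN7 (by norm_num) (by norm_num) E hEne (by
      intro ψ hψ
      rw [hEdeg ψ hψ, hd55]
      norm_num)
  omega

/-- (N58520) `58520 = 2^3 * 5 * 7 * 11 * 19`. -/
theorem no_58520 {G : Type u} [Group G] [Finite G] [IsSimpleGroup G] : Nat.card G ≠ 58520 := by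
  intro h
  have hna : ¬ IsMulCommutative G :=
    Cfsg.Agent.Helper17.not_comm_of_not_prime (by rw [h]; norm_num)
  exact h34_no_58520.{u} G hna h

end Cfsg.Agent.Helper34.O175560
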