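import Mathlib
import Cfsg.Agent.Lib.Helper17.PrimeTI
import Cfsg.Agent.Lib.Helper17.PrimeTIApp
import Cfsg.Agent.Lib.Helper17.PrimeTID
import Cfsg.Agent.Lib.Helper17.Simple
import Cfsg.Agent.Lib.Helper79.LinearChars

/-!
# Abelian T.I. subgroups with normalizer of index 2 (helper34)

`h34_ti2_degrees`: the conclusion of `Helper17.PrimeTI.dihedral_normalizer_degrees` for an abelian T.I.
subgroup `K` of odd order `n = 2 t + 1` with `C(k) ≤ K` for `k ∈ K ∖ {1}` and `|N(K)| = 2 n`
(same proof, from `ti_degree_equation_ext` with `e = 2`).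
-/

set_option autoImplicit false
set_option linter.style.haveILetI false
set_option linter.unusedSectionVars false

namespace Cfsg.Agent.Helper34.TI2

open Cfsg Cfsg.Agent.Helper17.PrimeTI
open scoped ComplexConjugate commutatorElement

universe u

theorem h34_ti2_degrees {G : Type u} [Group G] [Fintype G]
    (hperf : commutator G = ⊤) (K : Subgroup G) (n t : ℕ)
    (hK : Nat.card K = n)
    (hab : ∀ a ∈ K, ∀ b ∈ K, a * b = b * a)
    (hC : ∀ k ∈ K, k ≠ 1 → Subgroup.centralizer ({k} : Set G) ≤ K)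
    (hTI : ∀ g : G, g ∉ Subgroup.normalizer (K : Set G) → ∀ k ∈ K, g * k * g⁻¹ ∈ K → k = 1)
    (hN : Nat.card (Subgroup.normalizer (K : Set G)) = n * 2) (hte : t * 2 + 1 = n)
    (ht : 2 ≤ t) :
    ∃ x : ℕ, 1 < x ∧ x ∣ Nat.card G ∧
      ((n ∣ x - 1 ∧ x + 1 ∣ Nat.card G) ∨ (n ∣ x + 1 ∧ x - 1 ∣ Nat.card G)) := by
  classical
  have hle : K ≤ Subgroup.normalizer (K : Set G) := Subgroup.le_normalizer
  have hlt : K < Subgroup.normalizer (K : Set G) := by
    apply lt_of_le_of_ne hle
    intro h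
    have h1 : Nat.card K = Nat.card (Subgroup.normalizer (K : Set G)) := by rw [← h]
    rw [hK, hN] at h1
    omega
  have hrel : K.relIndex (Subgroup.normalizer (K : Set G)) = 2 := by
    have h1 := (K.subgroupOf (Subgroup.normalizer (K : Set G))).card_mul_index
    have h2 : Nat.card (K.subgroupOf (Subgroup.normalizer (K : Set G))) = Nat.card K :=
      Nat.card_congr (Subgroup.subgroupOfEquivOfLe hle).toEquiv
    rw [h2, hK, hN] at h1
    have hn0 : 0 < n := by omega
    exact Nat.eq_of_mul_eq_mul_left hn0 h1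
  obtain ⟨w, d, E, a, hEcard, hEdeg, hEne, haE, haK, hcong, hnorm, hdegeq, -, -⟩ :=
    ti_degree_equation_ext K hTI hlt hC hab 2 t hrel (by rw [hK]; exact hte) ht
  rw [hK] at hcong hnorm
  set ψ1 : IrrCharacter G := ⟨fun _ => 1, Cfsg.Agent.Helper81.isIrrCharacter_one⟩ with hψ1
  have hψ1E : ψ1 ∉ E := fun h => hEne ψ1 h rfl
  obtain ⟨k, hk, hk1⟩ : ∃ k ∈ K, k ≠ 1 := by
    have : Finite K := Nat.finite_of_card_ne_zero (by rw [hK]; omega)
    have h1 : 1 < Nat.card K := by rw [hK]; omega
    rw [Subgroup.one_lt_card_iff_ne_bot] at h1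
    obtain ⟨k, hk⟩ := (Subgroup.ne_bot_iff_exists_ne_one (H := K)).1 h1
    exact ⟨(k : G), k.2, fun h => hk (Subtype.ext h)⟩
  have ha1 : a ψ1 = 1 := by
    have h := haK ψ1 hψ1E k hk hk1
    have h' : ((1 : ℤ) : ℂ) = ((a ψ1 : ℤ) : ℂ) := by
      rw [← h]; simp [hψ1]
    exact_mod_cast h'.symm
  have hdeg1 : charDegree (ψ1 : G → ℂ) = 1 := charDegree_one
  have hd : d ∣ Nat.card G := by
    obtain ⟨ψ, hψ⟩ := Finset.card_pos.1 (by omega : 0 < E.card)
    rw [← hEdeg ψ hψ]
    exact Cfsg.Agent.Helper79.irr_degree_dvd_card ψ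
  have hsplit1 := Finset.add_sum_erase Finset.univ (fun ψ => (a ψ) ^ 2) (Finset.mem_univ ψ1)
  have hsplit2 := Finset.add_sum_erase Finset.univ
    (fun ψ => a ψ * (charDegree (ψ : G → ℂ) : ℤ)) (Finset.mem_univ ψ1)
  simp only [ha1, hdeg1] at hsplit1 hsplit2
  have hrest : 0 ≤ ∑ ψ ∈ Finset.univ.erase ψ1, (a ψ) ^ 2 :=
    Finset.sum_nonneg (fun i _ => sq_nonneg _)
  rw [← hsplit1] at hnorm
  rw [← hsplit2] at hdegeq
  have hp2 : (n : ℤ) = 2 * t + 1 := by rw [← hte]; push_cast; ring
  have ht' : (2 : ℤ) ≤ t := by exact_mod_cast ht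
  have hle1 : ∑ ψ ∈ Finset.univ.erase ψ1, (a ψ) ^ 2 ≤ 1 := by
    by_contra hgt
    push Not at hgt
    have h2 : (2 : ℤ) ≤ ∑ ψ ∈ Finset.univ.erase ψ1, (a ψ) ^ 2 := hgt
    nlinarith [sq_nonneg w]
  have hcases : ∑ ψ ∈ Finset.univ.erase ψ1, (a ψ) ^ 2 = 0 ∨
      ∑ ψ ∈ Finset.univ.erase ψ1, (a ψ) ^ 2 = 1 := by omega
  rcases hcases with h0 | h1
  · -- only the trivial character: impossible
    exfalso
    have hz := all_zero _ a h0
    have hs0 : ∑ ψ ∈ Finset.univ.erase ψ1, a ψ * (charDegree (ψ : G → ℂ) : ℤ) = 0 :=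
      Finset.sum_eq_zero (fun ψ hψ => by rw [hz ψ hψ, zero_mul])
    rw [hs0] at hdegeq
    rw [h0] at hnorm
    push_cast at hdegeq
    have hdw : (d : ℤ) * w = -1 := by linarith
    have hd0 : (0 : ℤ) ≤ d := by positivity
    have hd1 : (1 : ℤ) ≤ d := by
      by_contra h
      have h0 : (d : ℤ) = 0 := by omega
      rw [h0] at hdw
      simp at hdw
    have hwneg : w ≤ -1 := by
      by_contra h
      push Not at h
      have : 0 ≤ w := by omega
      nlinarith
    have hwge : -1 ≤ w := by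
      by_contra h
      push Not at h
      have : w ≤ -2 := by omega
      nlinarith
    have hw1 : w = -1 := by omega
    rw [hw1] at hnorm
    nlinarith
  · -- one more character
    obtain ⟨X, hX, haX, hrest0⟩ := peel (Finset.univ.erase ψ1) a 0 (by norm_num)
      (by rw [h1]; norm_num)
    have hXne : X ≠ ψ1 := (Finset.mem_erase.1 hX).1
    have hz := all_zero _ a (by exact_mod_cast hrest0)
    have hsplit3 := Finset.add_sum_erase (Finset.univ.erase ψ1)
      (fun ψ => a ψ * (charDegree (ψ : G → ℂ) : ℤ)) hX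
    have hs0 : ∑ ψ ∈ (Finset.univ.erase ψ1).erase X, a ψ * (charDegree (ψ : G → ℂ) : ℤ) = 0 :=
      Finset.sum_eq_zero (fun ψ hψ => by rw [hz ψ hψ, zero_mul])
    rw [hs0, add_zero] at hsplit3
    rw [← hsplit3] at hdegeq
    push_cast at hdegeq
    rw [h1] at hnorm
    have hw1 : w ^ 2 = 1 := by nlinarith
    have hw : w = 1 ∨ w = -1 := by
      have h : (w - 1) * (w + 1) = 0 := by ring_nf; linarith
      rcases mul_eq_zero.1 h with h | h
      · left; linarith
      · right; linarith
    have hXE : X ∉ E := by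
      intro h
      have := haE X h
      rcases haX with h' | h' <;> rw [h'] at this <;> norm_num at this
    have hxdvd : charDegree (X : G → ℂ) ∣ Nat.card G := Cfsg.Agent.Helper79.irr_degree_dvd_card X
    have hxpos : 0 < charDegree (X : G → ℂ) := (Cfsg.Agent.Helper79.irr_one_eq X).2
    have hx1 : charDegree (X : G → ℂ) ≠ 1 := by
      intro h
      apply hXne
      apply Subtype.ext
      exact linear_trivial_of_perfect hperf X h
    have hcX := hcong X hXE
    refine ⟨charDegree (X : G → ℂ), by omega, hxdvd, ?_⟩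
    set x := charDegree (X : G → ℂ) with hx
    have hd0 : (0 : ℤ) ≤ d := by positivity
    have hx2 : (2 : ℤ) ≤ x := by omega
    rcases haX with haX | haX
    · -- a X = 1
      left
      rw [haX] at hcX hdegeq
      rcases hw with hw | hw
      · rw [hw] at hdegeq; linarith
      · rw [hw] at hdegeq
        have hdx : d = x + 1 := by omega
        refine ⟨?_, by rw [← hdx]; exact hd⟩
        have hcast : ((x - 1 : ℕ) : ℤ) = (x : ℤ) - 1 := by
          rw [Nat.cast_sub (by omega)]; simp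
        apply Int.natCast_dvd_natCast.1
        rw [hcast]
        exact hcX
    · -- a X = -1
      right
      rw [haX] at hcX hdegeq
      rcases hw with hw | hw
      · rw [hw] at hdegeq
        have hdx : d = x - 1 := by omega
        refine ⟨?_, by rw [← hdx]; exact hd⟩
        have hcast : ((x + 1 : ℕ) : ℤ) = (x : ℤ) - (-1) := by push_cast; ring
        apply Int.natCast_dvd_natCast.1
        rw [hcast]
        exact hcX
      · rw [hw] at hdegeq; linarith

end Cfsg.Agent.Helper34.TI2
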