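import Mathlib
import Cfsg.Agent.Lib.Helper87.SVKit
import Cfsg.Agent.Lib.Helper17.SylowLink
import Cfsg.Agent.Lib.Helper17.PrimeSylow
import Cfsg.Agent.Lib.Helper17.PrimeTIApp
import Cfsg.Agent.Lib.Helper34.TI2

/-!
# O2520 (N7), (N5) (helper34, for helper55's server, S0984): a simple group of order `2520` has
`n_7 = 120` and `n_5 = 126`.

`n_7 ∈ {15, 36, 120}` (sieve). `15`: an involution in `C(P7)` would have `f ≡ 1 (7)`, `f ≡ 3 (4)`,
`f < 15` fixed points on `Syl_7`. `36`: `K = C(P7)` has order `35`; the link step gives `n_5 = 36` and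
`|C(Q)| = 35` for every Sylow `5`-subgroup; `K` is cyclic, `C(k) = K` for `k ∈ K ∖ {1}`, `K` is T.I.,
`N(K) = N(P7)` has order `70`; the degree equation (`h34_ti2_degrees`, `t = 17`) needs a divisor
`x > 1` of `2520` with `35 ∣ x ∓ 1`, `x ± 1 ∣ 2520`: none.
`n_5 ∈ {36, 126}` (sieve); `36` gives `7 ∣ |C(P5)|`, so `5 ∣ |N(P7)| = 21`.
-/

set_option autoImplicit false

namespace Cfsg.Agent.Helper34.O2520

open Nat MulAction Cfsg Cfsg.Agent.Helper17 Cfsg.Agent.Helper17.Sieve Cfsg.Agent.Helper75.FixKill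
  Cfsg.Agent.Helper87.SV

universe u

set_option maxRecDepth 100000 in
theorem h34_2520_adm7 : ∀ d ∈ List.range (360 + 1), d ∣ 360 → d % 7 = 1 →
    ¬ Bad (7 ^ 1 * 360) 7 1 360 d → d = 15 ∨ d = 36 ∨ d = 120 := by
  decide +kernel

set_option maxRecDepth 100000 in
theorem h34_2520_adm5 : ∀ d ∈ List.range (504 + 1), d ∣ 504 → d % 5 = 1 →
    ¬ Bad (5 ^ 1 * 504) 5 1 504 d → d = 36 ∨ d = 126 := by
  decide +kernel

theorem h34_2520_deg : ∀ x ∈ Nat.divisors 2520, 1 < x →
    ¬ ((35 ∣ x - 1 ∧ x + 1 ∣ 2520) ∨ (35 ∣ x + 1 ∧ x - 1 ∣ 2520)) := by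
  decide +kernel

/-- `N(H) ≤ N(C(H))` -/
theorem h34_normalizer_le_normalizer_centralizer {G : Type*} [Group G] (H : Subgroup G) :
    Subgroup.normalizer (H : Set G) ≤
      Subgroup.normalizer ((Subgroup.centralizer (H : Set G) : Subgroup G) : Set G) := by
  intro g hg
  rw [Subgroup.mem_normalizer_iff] at hg ⊢
  intro h
  constructor
  · intro hh
    rw [Subgroup.mem_centralizer_iff] at hh ⊢
    intro x hx
    have hx' : g⁻¹ * x * g ∈ H := by
      have e : g * (g⁻¹ * x * g) * g⁻¹ = x := by group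
      apply (hg (g⁻¹ * x * g)).2
      rw [e]; exact hx
    have hc := hh (g⁻¹ * x * g) hx'
    calc x * (g * h * g⁻¹) = g * ((g⁻¹ * x * g) * h) * g⁻¹ := by group
      _ = g * (h * (g⁻¹ * x * g)) * g⁻¹ := by rw [hc]
      _ = g * h * g⁻¹ * x := by group
  · intro hh
    rw [Subgroup.mem_centralizer_iff] at hh ⊢
    intro x hx
    have hx' : g * x * g⁻¹ ∈ H := (hg x).1 hx
    have hc := hh (g * x * g⁻¹) hx'
    have : g * (x * h) * g⁻¹ = g * (h * x) * g⁻¹ := by
      calc g * (x * h) * g⁻¹ = (g * x * g⁻¹) * (g * h * g⁻¹) := by group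
        _ = (g * h * g⁻¹) * (g * x * g⁻¹) := hc
        _ = g * (h * x) * g⁻¹ := by group
    exact mul_left_cancel (mul_right_cancel this)

/-- a subgroup between a Sylow subgroup and its normalizer has its normalizer inside `N(P)` -/
theorem h34_normalizer_le_of_sylow {G : Type*} [Group G] [Finite G] {p : ℕ} [Fact p.Prime]
    (P : Sylow p G) (K : Subgroup G) (hPK : (P : Subgroup G) ≤ K)
    (hKN : K ≤ Subgroup.normalizer ((P : Subgroup G) : Set G)) :
    Subgroup.normalizer (K : Set G) ≤ Subgroup.normalizer ((P : Subgroup G) : Set G) := by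
  intro g hg
  have hP'p : IsPGroup p ↥((P : Subgroup G).map (MulAut.conj g).toMonoidHom) := P.2.map _
  have hP'K : (P : Subgroup G).map (MulAut.conj g).toMonoidHom ≤ K := by
    rintro _ ⟨x, hx, rfl⟩
    have := (Subgroup.mem_normalizer_iff.1 hg x).1 (hPK hx)
    simpa using this
  have hP'P : (P : Subgroup G).map (MulAut.conj g).toMonoidHom ≤ (P : Subgroup G) := by
    have h1 : (P : Subgroup G).map (MulAut.conj g).toMonoidHom ⊓
        Subgroup.normalizer ((P : Subgroup G) : Set G) =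
        (P : Subgroup G).map (MulAut.conj g).toMonoidHom ⊓ (P : Subgroup G) :=
      hP'p.inf_normalizer_sylow P
    have h2 : (P : Subgroup G).map (MulAut.conj g).toMonoidHom ⊓
        Subgroup.normalizer ((P : Subgroup G) : Set G) =
        (P : Subgroup G).map (MulAut.conj g).toMonoidHom := inf_eq_left.2 (hP'K.trans hKN)
    rw [h2] at h1
    exact inf_eq_left.1 h1.symm
  have hcard : Nat.card ↥((P : Subgroup G).map (MulAut.conj g).toMonoidHom) =
      Nat.card (P : Subgroup G) :=
    Subgroup.card_map_of_injective (MulAut.conj g).injective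
  have heq : (P : Subgroup G).map (MulAut.conj g).toMonoidHom = (P : Subgroup G) :=
    Subgroup.eq_of_le_of_card_ge hP'P (by rw [hcard])
  rw [Subgroup.mem_normalizer_iff]
  intro h
  constructor
  · intro hh
    have : g * h * g⁻¹ ∈ (P : Subgroup G).map (MulAut.conj g).toMonoidHom :=
      ⟨h, hh, by simp⟩
    rw [heq] at this
    exact this
  · intro hh
    rw [← heq] at hh
    obtain ⟨h', hh', he⟩ := hh
    have he' : g * h' * g⁻¹ = g * h * g⁻¹ := by simpa using he
    have : h' = h := mul_left_cancel (mul_right_cancel he')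
    rw [← this]; exact hh'

/-- T.I. from `C(k) = K` -/
theorem h34_ti_of_centralizer_eq {G : Type*} [Group G] (K : Subgroup G)
    (hC : ∀ k ∈ K, k ≠ 1 → Subgroup.centralizer ({k} : Set G) = K) :
    ∀ g : G, g ∉ Subgroup.normalizer (K : Set G) → ∀ k ∈ K, g * k * g⁻¹ ∈ K → k = 1 := by
  intro g hg k hk hgk
  by_contra hk1
  apply hg
  have hk2 : g * k * g⁻¹ ≠ 1 := by
    intro h
    apply hk1
    have : g * k * g⁻¹ = g * 1 * g⁻¹ := by rw [h]; group
    exact mul_left_cancel (mul_right_cancel this)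
  have h1 := hC k hk hk1
  have h2 := hC _ hgk hk2
  rw [Subgroup.mem_normalizer_iff]
  intro h
  constructor
  · intro hh
    rw [← h2, Subgroup.mem_centralizer_iff]
    intro y hy
    rw [Set.mem_singleton_iff] at hy
    rw [hy]
    have hkh : k * h = h * k := by
      rw [← h1, Subgroup.mem_centralizer_iff] at hh
      exact hh k rfl
    calc g * k * g⁻¹ * (g * h * g⁻¹) = g * (k * h) * g⁻¹ := by group
      _ = g * (h * k) * g⁻¹ := by rw [hkh]
      _ = g * h * g⁻¹ * (g * k * g⁻¹) := by group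
  · intro hh
    rw [← h2, Subgroup.mem_centralizer_iff] at hh
    have hc := hh (g * k * g⁻¹) rfl
    rw [← h1, Subgroup.mem_centralizer_iff]
    intro y hy
    rw [Set.mem_singleton_iff] at hy
    rw [hy]
    have : g * (k * h) * g⁻¹ = g * (h * k) * g⁻¹ := by
      calc g * (k * h) * g⁻¹ = g * k * g⁻¹ * (g * h * g⁻¹) := by group
        _ = g * h * g⁻¹ * (g * k * g⁻¹) := hc
        _ = g * (h * k) * g⁻¹ := by group
    exact mul_left_cancel (mul_right_cancel this)

/-- `n_7 ≠ 36` -/
theorem h34_2520_ne36 {G : Type u} [Group G] [Finite G] [IsSimpleGroup G]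
    (hna : ¬ IsMulCommutative G) (hn0 : Nat.card G = 2520) : Nat.card (Sylow 7 G) ≠ 36 := by
  intro hc7
  have h7 : Fact (Nat.Prime 7) := ⟨by norm_num⟩
  have h5 : Fact (Nat.Prime 5) := ⟨by norm_num⟩
  have hn7 : Nat.card G = 7 ^ 1 * 360 := by rw [hn0]; norm_num
  have hn5 : Nat.card G = 5 ^ 1 * 504 := by rw [hn0]; norm_num
  obtain ⟨hP7, hr7, hd7, hm7, hb7, -, he7⟩ :=
    h87_data hna 7 360 (by norm_num) hn7 (by norm_num)
  obtain ⟨hP5, hr5, hd5, hm5, hb5, -, he5⟩ :=
    h87_data hna 5 504 (by norm_num) hn5 (by norm_num)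
  obtain ⟨P7⟩ : Nonempty (Sylow 7 G) := inferInstance
  have := Fintype.ofFinite G
  have hperf : commutator G = ⊤ :=
    Cfsg.Agent.Helper17.PrimeTI.perfect_of_simple (by rw [hn0]; norm_num)
  -- `|C(P7)| = 35`
  have hK : Nat.card (Subgroup.centralizer ((P7 : Subgroup G) : Set G)) = 35 := by
    obtain ⟨e, hea, heb, hec⟩ := he7 P7
    have hele : e ≤ 6 := Nat.le_of_dvd (by norm_num) hea
    rw [hc7] at hec
    generalize Nat.card (Subgroup.centralizer ((P7 : Subgroup G) : Set G)) = c at hec ⊢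
    interval_cases e <;> omega
  -- the link: `n_5 = 36`
  have h5c : 5 ∣ Nat.card (Subgroup.centralizer ((P7 : Subgroup G) : Set G)) := by
    rw [hK]; norm_num
  obtain ⟨Q5, hQ5⟩ := sylow_link hP7 hP5 P7 h5c
  have hc5 : Nat.card (Sylow 5 G) = 36 := by
    obtain ⟨e5, he5a, he5b, he5c⟩ := he5 Q5
    have hele : e5 ≤ 4 := Nat.le_of_dvd (by norm_num) he5a
    rcases h34_2520_adm5 _ hr5 hd5 hm5 hb5 with h | h
    · exact h
    · exfalso
      rw [h] at he5c
      generalize Nat.card (Subgroup.centralizer ((Q5 : Subgroup G) : Set G)) = c at he5c hQ5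
      interval_cases e5 <;> omega
  have hC5 : ∀ Q : Sylow 5 G, Nat.card (Subgroup.centralizer ((Q : Subgroup G) : Set G)) = 35 := by
    intro Q
    obtain ⟨e, hea, heb, hec⟩ := he5 Q
    have hele : e ≤ 4 := Nat.le_of_dvd (by norm_num) hea
    rw [hc5] at hec
    generalize Nat.card (Subgroup.centralizer ((Q : Subgroup G) : Set G)) = c at hec ⊢
    interval_cases e <;> omega
  -- `K = C(P7)`
  obtain ⟨K, hKdef⟩ : ∃ K : Subgroup G, K = Subgroup.centralizer ((P7 : Subgroup G) : Set G) :=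
    ⟨_, rfl⟩
  rw [← hKdef] at hK
  have hcyc : IsCyclic ↥(P7 : Subgroup G) := isCyclic_of_prime_card (hP7 P7)
  have hcomm : IsMulCommutative ↥(P7 : Subgroup G) := ⟨⟨IsCyclic.commGroup.mul_comm⟩⟩
  have hPK : (P7 : Subgroup G) ≤ K := by
    rw [hKdef]; exact Subgroup.le_centralizer_iff_isMulCommutative.2 hcomm
  have hKN : K ≤ Subgroup.normalizer ((P7 : Subgroup G) : Set G) := by
    rw [hKdef]; exact Subgroup.centralizer_le_normalizer _
  -- elements of order `7` and `5` in `K`
  obtain ⟨x, hxP, hx1⟩ := Cfsg.Agent.Helper17.PrimeTI.exists_ne_one_of_prime_card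
    (P7 : Subgroup G) (hP7 P7)
  obtain ⟨hzx, hox⟩ := zpowers_eq_of_card_prime (P7 : Subgroup G) (hP7 P7) x hxP hx1
  obtain ⟨y', hy'⟩ := exists_prime_orderOf_dvd_card' (G := ↥K) 5 (by rw [hK]; norm_num)
  have hoy : orderOf (y' : G) = 5 := by rw [Subgroup.orderOf_coe]; exact hy'
  have hyK : (y' : G) ∈ K := y'.2
  have hxy : Commute x (y' : G) := by
    have h' : (y' : G) ∈ Subgroup.centralizer ((P7 : Subgroup G) : Set G) := by
      rw [← hKdef]; exact hyK
    rw [Subgroup.mem_centralizer_iff] at h'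
    exact h' x hxP
  have hoz : orderOf (x * (y' : G)) = 35 := by
    rw [hxy.orderOf_mul_eq_mul_orderOf_of_coprime (by rw [hox, hoy]; norm_num), hox, hoy]
  have hzK : x * (y' : G) ∈ K := K.mul_mem (hPK hxP) hyK
  have hKz : Subgroup.zpowers (x * (y' : G)) = K := by
    apply Subgroup.eq_of_le_of_card_ge
    · rw [Subgroup.zpowers_le]; exact hzK
    · rw [Nat.card_zpowers, hoz, hK]
  -- `K` is abelian
  have hab : ∀ a ∈ K, ∀ b ∈ K, a * b = b * a := by
    intro a ha b hb
    rw [← hKz] at ha hb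
    obtain ⟨i, rfl⟩ := Subgroup.mem_zpowers_iff.1 ha
    obtain ⟨j, rfl⟩ := Subgroup.mem_zpowers_iff.1 hb
    rw [← zpow_add, ← zpow_add, add_comm]
  -- centralizers of elements of order `7`
  have hC7el : ∀ k ∈ K, orderOf k = 7 → Subgroup.centralizer ({k} : Set G) = K := by
    intro k hk hok
    have hk1 : k ≠ 1 := by
      intro h; rw [h, orderOf_one] at hok; omega
    have hpg : IsPGroup 7 ↥(Subgroup.zpowers k) := by
      apply IsPGroup.of_card (n := 1)
      rw [Nat.card_zpowers, hok, pow_one]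
    have hle : Subgroup.zpowers k ≤ (P7 : Subgroup G) := by
      have h1 : Subgroup.zpowers k ⊓ Subgroup.normalizer ((P7 : Subgroup G) : Set G) =
          Subgroup.zpowers k ⊓ (P7 : Subgroup G) := hpg.inf_normalizer_sylow P7
      have h2 : Subgroup.zpowers k ⊓ Subgroup.normalizer ((P7 : Subgroup G) : Set G) =
          Subgroup.zpowers k := by
        apply inf_eq_left.2
        rw [Subgroup.zpowers_le]
        exact hKN hk
      rw [h2] at h1
      exact inf_eq_left.1 h1.symm
    have hkP : k ∈ (P7 : Subgroup G) := hle (Subgroup.mem_zpowers k)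
    obtain ⟨hzk, -⟩ := zpowers_eq_of_card_prime (P7 : Subgroup G) (hP7 P7) k hkP hk1
    rw [hKdef, ← hzk, Subgroup.zpowers_eq_closure, Subgroup.centralizer_closure]
  -- centralizers of elements of order `5`
  have hC5el : ∀ k ∈ K, orderOf k = 5 → Subgroup.centralizer ({k} : Set G) = K := by
    intro k hk hok
    have hk1 : k ≠ 1 := by
      intro h; rw [h, orderOf_one] at hok; omega
    have hpg : IsPGroup 5 ↥(Subgroup.zpowers k) := by
      apply IsPGroup.of_card (n := 1)
      rw [Nat.card_zpowers, hok, pow_one]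
    obtain ⟨Q, hQ⟩ := hpg.exists_le_sylow
    have hkQ : k ∈ (Q : Subgroup G) := hQ (Subgroup.mem_zpowers k)
    obtain ⟨hzk, -⟩ := zpowers_eq_of_card_prime (Q : Subgroup G) (hP5 Q) k hkQ hk1
    have hcard : Nat.card (Subgroup.centralizer ({k} : Set G)) = 35 := by
      rw [← hC5 Q, ← hzk, Subgroup.zpowers_eq_closure, Subgroup.centralizer_closure]
    have hKle : K ≤ Subgroup.centralizer ({k} : Set G) := by
      intro a ha
      rw [Subgroup.mem_centralizer_iff]
      intro b hb
      rw [Set.mem_singleton_iff] at hb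
      rw [hb]
      exact hab k hk a ha
    exact (Subgroup.eq_of_le_of_card_ge hKle (by rw [hcard, hK])).symm
  -- all centralizers
  have hCel : ∀ k ∈ K, k ≠ 1 → Subgroup.centralizer ({k} : Set G) = K := by
    intro k hk hk1
    have hod : orderOf k ∣ 35 := by
      rw [← hK]; exact Subgroup.orderOf_dvd_natCard K hk
    have ho1 : orderOf k ≠ 1 := by
      intro h; exact hk1 (orderOf_eq_one_iff.1 h)
    have hole : orderOf k ≤ 35 := Nat.le_of_dvd (by norm_num) hod
    have hcases : orderOf k = 5 ∨ orderOf k = 7 ∨ orderOf k = 35 := by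
      have hpos : 0 < orderOf k := Nat.pos_of_dvd_of_pos hod (by norm_num)
      interval_cases (orderOf k) <;> omega
    rcases hcases with h | h | h
    · exact hC5el k hk h
    · exact hC7el k hk h
    · -- order `35`: use `k ^ 5`
      have ho5 : orderOf (k ^ 5) = 7 := by
        rw [orderOf_pow' k (by norm_num : (5 : ℕ) ≠ 0), h]
        norm_num
      have h5K : k ^ 5 ∈ K := K.pow_mem hk 5
      have hC := hC7el (k ^ 5) h5K ho5
      apply le_antisymm
      · rw [← hC]
        intro a ha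
        rw [Subgroup.mem_centralizer_iff] at ha ⊢
        intro b hb
        rw [Set.mem_singleton_iff] at hb
        rw [hb]
        have hc : Commute k a := ha k rfl
        exact (hc.pow_left 5).eq
      · intro a ha
        rw [Subgroup.mem_centralizer_iff]
        intro b hb
        rw [Set.mem_singleton_iff] at hb
        rw [hb]
        exact hab k hk a ha
  -- `|N(K)| = 70`
  have hNK : Subgroup.normalizer (K : Set G) = Subgroup.normalizer ((P7 : Subgroup G) : Set G) := by
    apply le_antisymm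
    · exact h34_normalizer_le_of_sylow P7 K hPK hKN
    · rw [hKdef]; exact h34_normalizer_le_normalizer_centralizer _
  have hN : Nat.card (Subgroup.normalizer (K : Set G)) = 35 * 2 := by
    rw [hNK, h87_card_normalizer P7, hn0, hc7]
  obtain ⟨d, hd1, hdd, hd⟩ := Cfsg.Agent.Helper34.TI2.h34_ti2_degrees hperf K 35 17 hK hab
    (fun k hk hk1 => (hCel k hk hk1).le) (h34_ti_of_centralizer_eq K hCel) hN (by norm_num)
    (by norm_num)
  rw [hn0] at hdd hd
  exact h34_2520_deg d (Nat.mem_divisors.2 ⟨hdd, by norm_num⟩) hd1 hd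

/-- (N7) -/
theorem card_sylow7 {G : Type u} [Group G] [Finite G] [IsSimpleGroup G]
    (hG : Nat.card G = 2520) : Nat.card (Sylow 7 G) = 120 := by
  have hna : ¬ IsMulCommutative G :=
    Cfsg.Agent.Helper17.not_comm_of_not_prime (by rw [hG]; norm_num)
  have h7 : Fact (Nat.Prime 7) := ⟨by norm_num⟩
  have hn7 : Nat.card G = 7 ^ 1 * 360 := by rw [hG]; norm_num
  obtain ⟨hP7, hr7, hd7, hm7, hb7, hone7, he7⟩ :=
    h87_data hna 7 360 (by norm_num) hn7 (by norm_num)
  obtain ⟨P7⟩ : Nonempty (Sylow 7 G) := inferInstance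
  rcases h34_2520_adm7 _ hr7 hd7 hm7 hb7 with h | h | h
  · -- `n_7 = 15`: an involution in `C(P7)`
    exfalso
    obtain ⟨e, hea, heb, hec⟩ := he7 P7
    have hele : e ≤ 6 := Nat.le_of_dvd (by norm_num) hea
    rw [h] at hec
    have h2c : 2 ∣ Nat.card (Subgroup.centralizer ((P7 : Subgroup G) : Set G)) := by
      generalize Nat.card (Subgroup.centralizer ((P7 : Subgroup G) : Set G)) = c at hec
      interval_cases e <;> omega
    have h2 : Fact (Nat.Prime 2) := ⟨Nat.prime_two⟩
    obtain ⟨f, m', -, hf1, hf2, hf4, hf3, -⟩ :=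
      exists_fix (G := G) (by rw [hG]; norm_num) (p := 7) (r := 2) (by norm_num) P7
        (hP7 P7) hone7 h2c
    have hf4' := hf4 rfl
    rw [h] at hf2 hf3 hf4'
    omega
  · exact absurd h (h34_2520_ne36 hna hG)
  · exact h

/-- (N5) -/
theorem card_sylow5 {G : Type u} [Group G] [Finite G] [IsSimpleGroup G]
    (hG : Nat.card G = 2520) (h7 : Nat.card (Sylow 7 G) = 120) : Nat.card (Sylow 5 G) = 126 := by
  have hna : ¬ IsMulCommutative G :=
    Cfsg.Agent.Helper17.not_comm_of_not_prime (by rw [hG]; norm_num)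
  have hf7 : Fact (Nat.Prime 7) := ⟨by norm_num⟩
  have hf5 : Fact (Nat.Prime 5) := ⟨by norm_num⟩
  have hn7 : Nat.card G = 7 ^ 1 * 360 := by rw [hG]; norm_num
  have hn5 : Nat.card G = 5 ^ 1 * 504 := by rw [hG]; norm_num
  obtain ⟨hP7, -, -, -, -, -, -⟩ :=
    h87_data hna 7 360 (by norm_num) hn7 (by norm_num)
  obtain ⟨hP5, hr5, hd5, hm5, hb5, -, he5⟩ :=
    h87_data hna 5 504 (by norm_num) hn5 (by norm_num)
  obtain ⟨P5⟩ : Nonempty (Sylow 5 G) := inferInstance
  rcases h34_2520_adm5 _ hr5 hd5 hm5 hb5 with h | h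
  · exfalso
    obtain ⟨e, hea, heb, hec⟩ := he5 P5
    have hele : e ≤ 4 := Nat.le_of_dvd (by norm_num) hea
    rw [h] at hec
    have h7c : 7 ∣ Nat.card (Subgroup.centralizer ((P5 : Subgroup G) : Set G)) := by
      generalize Nat.card (Subgroup.centralizer ((P5 : Subgroup G) : Set G)) = c at hec
      interval_cases e <;> omega
    have := h87_link hP5 hP7 P5 h7c
    rw [hG, h7] at this
    omega
  · exact h

end Cfsg.Agent.Helper34.O2520
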