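import Mathlib
import Cfsg.Agent.Lib.Helper55.O2520Defs

/-!
# O2520 / S3C piece Q3 (helper34, for helper20's sub-server of helper55's O2520 server, S0984):
`C(x) ≤ N(<x>) = N(P)` and `b ∈ N(P) ∖ C(x)`, so `|C(x)|` is a proper divisor of `36`.
-/

set_option autoImplicit false

namespace Cfsg.Agent.Helper34.O2520

open Cfsg.Agent.Helper55.O2520

universe u

/-- in a finite group, `g H g⁻¹ ≤ H` puts `g` in `N(H)` -/
theorem h34_mem_normalizer_of_map_le {G : Type*} [Group G] [Finite G] (H : Subgroup G) (g : G)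
    (h : H.map (MulAut.conj g).toMonoidHom ≤ H) : g ∈ Subgroup.normalizer (H : Set G) := by
  have hcard : Nat.card ↥(H.map (MulAut.conj g).toMonoidHom) = Nat.card H :=
    Subgroup.card_map_of_injective (MulAut.conj g).injective
  have heq : H.map (MulAut.conj g).toMonoidHom = H :=
    Subgroup.eq_of_le_of_card_ge h (by rw [hcard])
  rw [Subgroup.mem_normalizer_iff]
  intro k
  constructor
  · intro hk
    have : g * k * g⁻¹ ∈ H.map (MulAut.conj g).toMonoidHom := ⟨k, hk, by simp⟩
    rw [heq] at this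
    exact this
  · intro hk
    rw [← heq] at hk
    obtain ⟨k', hk', he⟩ := hk
    have he' : g * k' * g⁻¹ = g * k * g⁻¹ := by simpa using he
    have : k' = k := mul_left_cancel (mul_right_cancel he')
    rw [← this]; exact hk'

/-- (Q3) [M] K = N_G(<x>) contains N(P) by `hnorm`; K ≠ ⊤ (G simple, <x> of order 3 is not normal);
`hovg` + not Done: K = N(P). C(x) ≤ K = N(P), and b ∈ N(P) is not in C(x) (x ≠ x⁻¹ as x³ = 1, x ≠ 1):
|C(x)| is a proper divisor of 36. -/
theorem s3c_card_centralizer_le {G : Type u} [Group G] [Finite G] [IsSimpleGroup G]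
    (hG : Nat.card G = 2520) (P : Subgroup G)
    (hN : Nat.card (Subgroup.normalizer (P : Set G)) = 36)
    (hovg : ∀ K : Subgroup G, Subgroup.normalizer (P : Set G) < K → K ≠ ⊤ → Nat.card K = 360)
    (hD : ¬ Done G) (x b : G) (hx1 : x ≠ 1) (hx3 : x ^ 3 = 1)
    (hb : b ∈ Subgroup.normalizer (P : Set G)) (hbx : b * x * b⁻¹ = x⁻¹)
    (hnorm : ∀ g ∈ Subgroup.normalizer (P : Set G), g * x * g⁻¹ = x ∨ g * x * g⁻¹ = x⁻¹) :
    Nat.card (Subgroup.centralizer ({x} : Set G)) ≤ 18 := by
  -- `N(P) ≤ N(<x>)`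
  have hNK : Subgroup.normalizer (P : Set G) ≤
      Subgroup.normalizer ((Subgroup.zpowers x : Subgroup G) : Set G) := by
    intro g hg
    apply h34_mem_normalizer_of_map_le
    rw [MonoidHom.map_zpowers, Subgroup.zpowers_le]
    have : (MulAut.conj g).toMonoidHom x = g * x * g⁻¹ := by simp
    rw [this]
    rcases hnorm g hg with h | h
    · rw [h]; exact Subgroup.mem_zpowers x
    · rw [h]; exact (Subgroup.zpowers x).inv_mem (Subgroup.mem_zpowers x)
  -- `N(<x>) ≠ ⊤`
  have hKtop : Subgroup.normalizer ((Subgroup.zpowers x : Subgroup G) : Set G) ≠ ⊤ := by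
    intro htop
    have hnormal : (Subgroup.zpowers x).Normal := Subgroup.normalizer_eq_top_iff.1 htop
    rcases hnormal.eq_bot_or_eq_top with h | h
    · apply hx1
      have : x ∈ (⊥ : Subgroup G) := by rw [← h]; exact Subgroup.mem_zpowers x
      exact Subgroup.mem_bot.1 this
    · have hc : Nat.card (Subgroup.zpowers x) = Nat.card G := by
        rw [h]; exact Subgroup.card_top
      rw [Nat.card_zpowers, hG] at hc
      have : orderOf x ≤ 3 := Nat.le_of_dvd (by norm_num) (orderOf_dvd_of_pow_eq_one hx3)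
      omega
  -- `N(<x>) = N(P)`
  have hKeq : Subgroup.normalizer ((Subgroup.zpowers x : Subgroup G) : Set G) =
      Subgroup.normalizer (P : Set G) := by
    by_contra hne
    have hlt : Subgroup.normalizer (P : Set G) <
        Subgroup.normalizer ((Subgroup.zpowers x : Subgroup G) : Set G) :=
      lt_of_le_of_ne hNK (Ne.symm hne)
    exact hD ⟨_, hovg _ hlt hKtop⟩
  -- `C(x) ≤ N(P)`
  have hCN : Subgroup.centralizer ({x} : Set G) ≤ Subgroup.normalizer (P : Set G) := by
    rw [← hKeq]
    have h1 : Subgroup.centralizer ({x} : Set G) =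
        Subgroup.centralizer ((Subgroup.zpowers x : Subgroup G) : Set G) := by
      rw [Subgroup.zpowers_eq_closure, Subgroup.centralizer_closure]
    rw [h1]
    exact Subgroup.centralizer_le_normalizer _
  -- `b ∉ C(x)`
  have hbC : b ∉ Subgroup.centralizer ({x} : Set G) := by
    intro hbc
    rw [Subgroup.mem_centralizer_iff] at hbc
    have hc : x * b = b * x := hbc x rfl
    have h1 : b * x * b⁻¹ = x := by rw [← hc]; group
    rw [h1] at hbx
    -- `x = x⁻¹`, so `x² = 1`, with `x³ = 1`: `x = 1`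
    apply hx1
    have h2 : x * x = 1 := by
      nth_rewrite 2 [hbx]; exact mul_inv_cancel x
    have h3 : x ^ 3 = x * x * x := by rw [pow_succ, pow_two]
    rw [h3, h2, one_mul] at hx3
    exact hx3
  have hdvd : Nat.card (Subgroup.centralizer ({x} : Set G)) ∣ 36 := by
    rw [← hN]; exact Subgroup.card_dvd_of_le hCN
  have hne : Nat.card (Subgroup.centralizer ({x} : Set G)) ≠ 36 := by
    intro h
    have heq : Subgroup.centralizer ({x} : Set G) = Subgroup.normalizer (P : Set G) :=
      Subgroup.eq_of_le_of_card_ge hCN (by rw [h, hN])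
    apply hbC
    rw [heq]; exact hb
  obtain ⟨k, hk⟩ := hdvd
  rcases k with _ | _ | k
  · omega
  · omega
  · have : Nat.card (Subgroup.centralizer ({x} : Set G)) * 2 ≤
        Nat.card (Subgroup.centralizer ({x} : Set G)) * (k + 1 + 1) :=
      Nat.mul_le_mul_left _ (by omega)
    omega

end Cfsg.Agent.Helper34.O2520
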