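import Mathlib
import Cfsg.Agent.Lib.Helper55.O2520Defs

/-!
# O2520 / S3C piece Q7a (helper34, for helper20's sub-server of helper55's O2520 server, S0984):
`(h, o) ↦ (h (o z) h⁻¹, rep⁻¹ h)` is an injection `G × Option I → {g | g⁴ ~ z} × C(z)`.
-/

set_option autoImplicit false

namespace Cfsg.Agent.Helper34.O2520

open Cfsg.Agent.Helper55.O2520

universe u

/-- the element attached to an optional involution -/
def h34Elt {G : Type u} [Group G] (z : G) :
    Option {i : G // orderOf i = 2 ∧ i * z = z * i} → G :=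
  fun o => o.elim 1 (fun i => i.1)

theorem h34Elt_injective {G : Type u} [Group G] (z : G) : Function.Injective (h34Elt z) := by
  intro o o' h
  cases o with
  | none =>
    cases o' with
    | none => rfl
    | some i' =>
      exfalso
      have h1 : (1 : G) = i'.1 := h
      have h2 := i'.2.1
      rw [← h1, orderOf_one] at h2
      omega
  | some i =>
    cases o' with
    | none =>
      exfalso
      have h1 : i.1 = (1 : G) := h
      have h2 := i.2.1
      rw [h1, orderOf_one] at h2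
      omega
    | some i' =>
      have h1 : i.1 = i'.1 := h
      rw [Subtype.ext h1]

theorem h34Elt_pow {G : Type u} [Group G] (z : G) (hz : z ^ 3 = 1)
    (o : Option {i : G // orderOf i = 2 ∧ i * z = z * i}) : (h34Elt z o * z) ^ 4 = z := by
  have hz4 : z ^ 4 = z := by rw [pow_succ, hz, one_mul]
  cases o with
  | none =>
    show (1 * z) ^ 4 = z
    rw [one_mul, hz4]
  | some i =>
    show (i.1 * z) ^ 4 = z
    have hc : Commute i.1 z := i.2.2
    have hi2 : i.1 ^ 2 = 1 := by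
      have h := pow_orderOf_eq_one i.1
      rw [i.2.1] at h
      exact h
    have hi4 : i.1 ^ 4 = 1 := by
      have : i.1 ^ 4 = (i.1 ^ 2) ^ 2 := by rw [← pow_mul]
      rw [this, hi2, one_pow]
    rw [hc.mul_pow, hi4, one_mul, hz4]

/-- (Q7a) -/
theorem s3c_card_over_class {G : Type u} [Group G] [Finite G] (z : G) (hz : z ^ 3 = 1) :
    Nat.card G * (1 + Nat.card {i : G // orderOf i = 2 ∧ i * z = z * i}) ≤
      Nat.card {g : G // IsConj (g ^ 4) z} * Nat.card (Subgroup.centralizer ({z} : Set G)) := by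
  classical
  -- the fourth power of `h (o z) h⁻¹`
  have hpow : ∀ (h : G) (o : Option {i : G // orderOf i = 2 ∧ i * z = z * i}),
      (h * (h34Elt z o * z) * h⁻¹) ^ 4 = h * z * h⁻¹ := by
    intro h o
    rw [conj_pow, h34Elt_pow z hz o]
  have hmem : ∀ (h : G) (o : Option {i : G // orderOf i = 2 ∧ i * z = z * i}),
      IsConj ((h * (h34Elt z o * z) * h⁻¹) ^ 4) z := by
    intro h o
    rw [hpow, isConj_iff]
    exact ⟨h⁻¹, by group⟩
  -- representatives
  have hrep : ∀ g : {g : G // IsConj (g ^ 4) z}, ∃ r : G, r * z * r⁻¹ = g.1 ^ 4 := by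
    intro g
    obtain ⟨c, hc⟩ := isConj_iff.1 g.2
    refine ⟨c⁻¹, ?_⟩
    have h1 : g.1 ^ 4 = c⁻¹ * (c * g.1 ^ 4 * c⁻¹) * c⁻¹⁻¹ := by group
    rw [h1, hc]
  choose rep hrep' using hrep
  -- the injection
  have hcen : ∀ (h : G) (o : Option {i : G // orderOf i = 2 ∧ i * z = z * i}),
      (rep ⟨h * (h34Elt z o * z) * h⁻¹, hmem h o⟩)⁻¹ * h ∈
        Subgroup.centralizer ({z} : Set G) := by
    intro h o
    have h1 := hrep' ⟨h * (h34Elt z o * z) * h⁻¹, hmem h o⟩
    simp only at h1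
    rw [hpow] at h1
    rw [Subgroup.mem_centralizer_iff]
    intro y hy
    rw [Set.mem_singleton_iff] at hy
    rw [hy]
    set r := rep ⟨h * (h34Elt z o * z) * h⁻¹, hmem h o⟩ with hr
    -- `r z r⁻¹ = h z h⁻¹`
    have h2 : z * (r⁻¹ * h) = r⁻¹ * (r * z * r⁻¹) * h := by group
    rw [h2, h1]; group
  let Ψ : G × Option {i : G // orderOf i = 2 ∧ i * z = z * i} →
      {g : G // IsConj (g ^ 4) z} × ↥(Subgroup.centralizer ({z} : Set G)) :=
    fun q => (⟨q.1 * (h34Elt z q.2 * z) * q.1⁻¹, hmem q.1 q.2⟩,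
      ⟨(rep ⟨q.1 * (h34Elt z q.2 * z) * q.1⁻¹, hmem q.1 q.2⟩)⁻¹ * q.1, hcen q.1 q.2⟩)
  have hinj : Function.Injective Ψ := by
    rintro ⟨h, o⟩ ⟨h', o'⟩ he
    have he1 : h * (h34Elt z o * z) * h⁻¹ = h' * (h34Elt z o' * z) * h'⁻¹ :=
      congrArg (fun q => (q.1 : G)) he
    have he2 : (rep ⟨h * (h34Elt z o * z) * h⁻¹, hmem h o⟩)⁻¹ * h =
        (rep ⟨h' * (h34Elt z o' * z) * h'⁻¹, hmem h' o'⟩)⁻¹ * h' :=
      congrArg (fun q => (q.2 : G)) he
    have hsub : (⟨h * (h34Elt z o * z) * h⁻¹, hmem h o⟩ : {g : G // IsConj (g ^ 4) z}) =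
        ⟨h' * (h34Elt z o' * z) * h'⁻¹, hmem h' o'⟩ := Subtype.ext he1
    rw [hsub] at he2
    have hh : h = h' := mul_left_cancel he2
    subst hh
    have h3 : h34Elt z o * z = h34Elt z o' * z :=
      mul_left_cancel (mul_right_cancel he1)
    have h4 : h34Elt z o = h34Elt z o' := mul_right_cancel h3
    rw [h34Elt_injective z h4]
  have hle := Nat.card_le_card_of_injective Ψ hinj
  rw [Nat.card_prod, Nat.card_prod, Finite.card_option] at hle
  rw [add_comm 1]
  exact hle

end Cfsg.Agent.Helper34.O2520
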