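import Mathlib
import Cfsg.Prelude.Def_LieExceptional

/-!
# REE piece BN (helper34): a split rank one configuration `T = B ∪ B n0 B` gives a `Cfsg.BNPair` on `↥T`.
-/

set_option autoImplicit false

namespace Cfsg.Agent.Helper34.REE

open Cfsg

universe u

theorem bnpair_rank_one {M : Type u} [Group M] (T B N H : Subgroup M) (hBT : B ≤ T) (hNT : N ≤ T)
    (n0 : M) (hn0N : n0 ∈ N)
    (hBN : B ⊓ N = H) (hHnorm : ∀ n ∈ N, ∀ h ∈ H, n * h * n⁻¹ ∈ H) (hn0H : n0 ∉ H)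
    (hN : ∀ n ∈ N, n ∈ H ∨ n0 * n ∈ H)
    (hG : ∀ g ∈ T, g ∈ B ∨ ∃ b ∈ B, ∃ b' ∈ B, g = b * n0 * b')
    (hne : ∃ b ∈ B, n0 * b * n0 ∉ B) :
    ∃ P : Cfsg.BNPair ↥T, P.B = B.subgroupOf T ∧ P.N = N.subgroupOf T ∧
      P.S = {(⟨n0, hNT hn0N⟩ : ↥T)} := by
  have hHB : H ≤ B := hBN ▸ inf_le_left
  have hHN : H ≤ N := hBN ▸ inf_le_right
  have hn0T : n0 ∈ T := hNT hn0N
  have hsq : n0 * n0 ∈ H := (hN n0 hn0N).resolve_left hn0H
  have hmemH : ∀ x : M, x ∈ B → x ∈ N → x ∈ H := fun x hx hx' => hBN ▸ ⟨hx, hx'⟩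
  have hn0N' : (⟨n0, hn0T⟩ : ↥T) ∈ N.subgroupOf T := Subgroup.mem_subgroupOf.mpr hn0N
  refine ⟨{ B := B.subgroupOf T, N := N.subgroupOf T, S := {⟨n0, hn0T⟩}, sup_eq_top := ?_,
            conj_mem := ?_, subset := ?_, sq_mem := ?_, inj := ?_, closure_sup := ?_,
            mul_mem_union := ?_, conj_ne := ?_ }, rfl, rfl, rfl⟩
  · -- sup_eq_top
    rw [eq_top_iff]
    intro g _
    rcases hG g.1 g.2 with hg | ⟨b, hb, b', hb', hg⟩
    · exact Subgroup.mem_sup_left (Subgroup.mem_subgroupOf.mpr hg)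
    · have h1 : g = (⟨b, hBT hb⟩ : ↥T) * ⟨n0, hn0T⟩ * ⟨b', hBT hb'⟩ := Subtype.ext hg
      rw [h1]
      refine Subgroup.mul_mem _ (Subgroup.mul_mem _ ?_ ?_) ?_
      · exact Subgroup.mem_sup_left (Subgroup.mem_subgroupOf.mpr hb)
      · exact Subgroup.mem_sup_right hn0N'
      · exact Subgroup.mem_sup_left (Subgroup.mem_subgroupOf.mpr hb')
  · -- conj_mem
    intro n hn t ht
    rw [Subgroup.mem_subgroupOf] at hn
    have htB : (t : M) ∈ B := Subgroup.mem_subgroupOf.mp ht.1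
    have htN : (t : M) ∈ N := Subgroup.mem_subgroupOf.mp ht.2
    rw [Subgroup.mem_subgroupOf]
    have := hHnorm n.1 hn t.1 (hmemH _ htB htN)
    exact hHB (by simpa using this)
  · -- subset
    intro x hx
    rw [Set.mem_singleton_iff] at hx
    rw [hx]
    exact hn0N'
  · -- sq_mem
    intro s hs
    rw [Set.mem_singleton_iff] at hs
    rw [hs, Subgroup.mem_subgroupOf]
    exact hHB hsq
  · -- inj
    intro s hs s' hs' _
    rw [Set.mem_singleton_iff] at hs hs'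
    rw [hs, hs']
  · -- closure_sup
    apply le_antisymm
    · refine sup_le ?_ inf_le_right
      rw [Subgroup.closure_le]
      intro x hx
      rw [Set.mem_singleton_iff] at hx
      rw [hx]
      exact hn0N'
    · intro n hn
      have hnN : (n : M) ∈ N := Subgroup.mem_subgroupOf.mp hn
      rcases hN n.1 hnN with h1 | h1
      · refine Subgroup.mem_sup_right ⟨?_, hn⟩
        exact Subgroup.mem_subgroupOf.mpr (hHB h1)
      · have h2 : n = (⟨n0, hn0T⟩ : ↥T)⁻¹ * (⟨n0, hn0T⟩ * n) := by group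
        rw [h2]
        refine Subgroup.mul_mem_sup ?_ ⟨?_, ?_⟩
        · exact Subgroup.inv_mem _ (Subgroup.subset_closure (Set.mem_singleton _))
        · exact Subgroup.mem_subgroupOf.mpr (hHB h1)
        · exact Subgroup.mem_subgroupOf.mpr (hHN h1)
  · -- mul_mem_union
    intro s hs n hn b hb
    rw [Set.mem_singleton_iff] at hs
    subst hs
    have hnN : (n : M) ∈ N := Subgroup.mem_subgroupOf.mp hn
    have hbB : (b : M) ∈ B := Subgroup.mem_subgroupOf.mp hb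
    rcases hN n.1 hnN with h1 | h1
    · -- n ∈ H
      left
      rw [DoubleCoset.mem_doubleCoset]
      refine ⟨1, Subgroup.one_mem _, n⁻¹ * b * n, ?_, by group⟩
      have hnB : (n : M) ∈ B := hHB h1
      exact Subgroup.mem_subgroupOf.mpr
        (by simpa using B.mul_mem (B.mul_mem (B.inv_mem hnB) hbB) hnB)
    · -- h := n0 * n ∈ H
      have hxT : n0 * b.1 * n.1 ∈ T := T.mul_mem (T.mul_mem hn0T b.2) n.2
      rcases hG _ hxT with h2 | ⟨b1, hb1, b2, hb2, h2⟩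
      · left
        rw [DoubleCoset.mem_doubleCoset]
        refine ⟨(⟨n0, hn0T⟩ * b * n) * (⟨n0, hn0T⟩ * n)⁻¹, ?_, 1, Subgroup.one_mem _, by group⟩
        rw [SetLike.mem_coe, Subgroup.mem_subgroupOf]
        have h3 : (n0 * b.1 * n.1) * (n0 * n.1)⁻¹ ∈ B := B.mul_mem h2 (B.inv_mem (hHB h1))
        simpa using h3
      · right
        rw [DoubleCoset.mem_doubleCoset]
        -- n0 = n * ((n0 n)⁻¹ * (n0 n0))
        have h4 : (n0 * n.1)⁻¹ * (n0 * n0) * b2 ∈ B :=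
          B.mul_mem (B.mul_mem (B.inv_mem (hHB h1)) (hHB hsq)) hb2
        refine ⟨⟨b1, hBT hb1⟩, Subgroup.mem_subgroupOf.mpr hb1,
          ⟨(n0 * n.1)⁻¹ * (n0 * n0) * b2, hBT h4⟩, Subgroup.mem_subgroupOf.mpr h4, ?_⟩
        apply Subtype.ext
        simp only [Subgroup.coe_mul]
        rw [h2]
        group
  · -- conj_ne
    intro s hs
    rw [Set.mem_singleton_iff] at hs
    subst hs
    obtain ⟨b, hb, hnb⟩ := hne
    intro heq
    have h1 : (⟨n0, hn0T⟩ : ↥T) * ⟨b, hBT hb⟩ * ⟨n0, hn0T⟩ ∈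
        (fun b : ↥T => (⟨n0, hn0T⟩ : ↥T) * b * ⟨n0, hn0T⟩) '' (B.subgroupOf T : Set ↥T) :=
      ⟨⟨b, hBT hb⟩, Subgroup.mem_subgroupOf.mpr hb, rfl⟩
    rw [heq] at h1
    exact hnb (Subgroup.mem_subgroupOf.mp h1)

end Cfsg.Agent.Helper34.REE
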