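import Mathlib

/-!
# RJ piece F4 (helper34, for helper35's server, S2279): the Lucas piece.
`C(p^a n' - 1 + p^a, p^a n' - 1) ≡ n' (mod p)`, one base-`p` digit at a time.
-/

set_option autoImplicit false

namespace Cfsg.Agent.Helper34.RJ

/-- Lucas, one digit at a time: `C(p^a m + (p^a - 1), p^a) ≡ m (mod p)`. -/
theorem h34_choose_pow_modEq (p : ℕ) [hp : Fact p.Prime] (a m : ℕ) :
    Nat.choose (p ^ a * m + (p ^ a - 1)) (p ^ a) ≡ m [MOD p] := by
  induction a with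
  | zero => simp [Nat.ModEq]
  | succ a ih =>
    have hp0 : 0 < p := hp.out.pos
    have hpa : 0 < p ^ a := pow_pos hp0 a
    have hN : p ^ (a + 1) * m + (p ^ (a + 1) - 1) = p * (p ^ a * m + (p ^ a - 1)) + (p - 1) := by
      have h1 : p ^ (a + 1) = p * p ^ a := by rw [pow_succ]; ring
      rw [h1]
      have h2 : 1 ≤ p * p ^ a := Nat.mul_pos hp0 hpa
      have h3 : p * (p ^ a * m + (p ^ a - 1)) = p * p ^ a * m + (p * p ^ a - p) := by
        rw [mul_add, Nat.mul_sub, mul_one, mul_assoc]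
      rw [h3]
      have h4 : p ≤ p * p ^ a := Nat.le_mul_of_pos_right p hpa
      omega
    have hmod : (p ^ (a + 1) * m + (p ^ (a + 1) - 1)) % p = p - 1 := by
      rw [hN, Nat.mul_add_mod]
      exact Nat.mod_eq_of_lt (by omega)
    have hdiv : (p ^ (a + 1) * m + (p ^ (a + 1) - 1)) / p = p ^ a * m + (p ^ a - 1) := by
      rw [hN, Nat.mul_add_div hp0, Nat.div_eq_of_lt (by omega), add_zero]
    have hKmod : p ^ (a + 1) % p = 0 := by
      rw [pow_succ]; exact Nat.mul_mod_left _ _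
    have hKdiv : p ^ (a + 1) / p = p ^ a := by
      rw [pow_succ]; exact Nat.mul_div_cancel _ hp0
    have h := Choose.choose_modEq_choose_mod_mul_choose_div_nat (p := p)
      (n := p ^ (a + 1) * m + (p ^ (a + 1) - 1)) (k := p ^ (a + 1))
    rw [hmod, hdiv, hKmod, hKdiv, Nat.choose_zero_right, one_mul] at h
    exact h.trans ih

/-- (F4) Lucas.  `Choose.choose_modEq_choose_mod_mul_choose_div_nat`, induction on `a`:
`p^a n' - 1 + p^a ≡ p - 1`, `p^a n' - 1 ≡ p - 1 (mod p)` and the quotients have the same shape with `a - 1`;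
`a = 0`: `C(n', n'-1) = n'`. -/
theorem luc (p : ℕ) (hp : p.Prime) (a n' : ℕ) (hn' : 2 ≤ n') (hpn : ¬ p ∣ n') :
    ¬ p ∣ Nat.choose (p ^ a * n' - 1 + p ^ a) (p ^ a * n' - 1) := by
  have : Fact p.Prime := ⟨hp⟩
  have hpa : 0 < p ^ a := pow_pos hp.pos a
  have hsum : p ^ a * n' - 1 + p ^ a = p ^ a * n' + (p ^ a - 1) := by
    have : 1 ≤ p ^ a * n' := Nat.mul_pos hpa (by omega)
    omega
  have hsymm : Nat.choose (p ^ a * n' - 1 + p ^ a) (p ^ a * n' - 1) =
      Nat.choose (p ^ a * n' - 1 + p ^ a) (p ^ a) := Nat.choose_symm_add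
  rw [hsymm, hsum]
  intro hdvd
  have h := h34_choose_pow_modEq p a n'
  have h0 : Nat.choose (p ^ a * n' + (p ^ a - 1)) (p ^ a) ≡ 0 [MOD p] :=
    (Nat.modEq_zero_iff_dvd).2 hdvd
  have h1 : n' ≡ 0 [MOD p] := h.symm.trans h0
  exact hpn ((Nat.modEq_zero_iff_dvd).1 h1)

end Cfsg.Agent.Helper34.RJ
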