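import Mathlib
import Cfsg.Agent.Lib.Helper93.RU0
import Cfsg.Agent.Lib.Helper35.RJ0
import Cfsg.Agent.Lib.Helper34.RJF4

/-!
# RJ pieces F1 F2 F3 F5 F6 (helper34, for helper35's server, S2279): the whole field argument
in ONE file, with one copy of `Mult` (pure algebra, no matrices).
-/

set_option autoImplicit false

namespace Cfsg.Agent.Helper34.RJ

open Matrix Cfsg.Agent.Helper93.RU Cfsg.Agent.Helper35.RJ

variable {F : Type*} [Field F] {m : ℕ}

/-- the multiplier set -/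
def Mult (m : ℕ) (L : ℕ → AddSubgroup F) : Set F :=
  {r | ∀ d, d ≤ m + 1 → ∀ x ∈ L d, r * x ∈ L d}

/-- (F1) induction with `h1`, `h2`. -/
theorem pow_mem_L (lam : F) (L : ℕ → AddSubgroup F) (h1 : lam ^ 3 ∈ L 2)
    (h2 : ∀ d, d ≤ m → ∀ x ∈ L d, lam * x ∈ L (d + 1)) (d : ℕ) (hd2 : 2 ≤ d) (hd : d ≤ m + 1) :
    lam ^ (d + 1) ∈ L d := by
  induction d, hd2 using Nat.le_induction with
  | base => exact h1
  | succ d hd2 ih =>
    have h := h2 d (by omega) _ (ih (by omega))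
    rw [← pow_succ'] at h
    exact h

/-- powers of a multiplier -/
theorem h34_Mult_pow (L : ℕ → AddSubgroup F) (r : F) (hr : r ∈ Mult m L) (k : ℕ) :
    r ^ k ∈ Mult m L := by
  induction k with
  | zero =>
    intro d _ x hx
    rw [pow_zero, one_mul]; exact hx
  | succ k ih =>
    intro d hd x hx
    rw [pow_succ, mul_assoc]
    exact ih d hd _ (hr d hd x hx)

/-- (F2) `Mult` is closed under `0, 1, +, -, *`, natural numbers, and (finite field: `r⁻¹ = r^(q-2)`) inverses. -/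
theorem Mult_closed [Fintype F] (L : ℕ → AddSubgroup F) :
    (1 : F) ∈ Mult m L ∧ (∀ r s, r ∈ Mult m L → s ∈ Mult m L → r + s ∈ Mult m L) ∧
    (∀ r s, r ∈ Mult m L → s ∈ Mult m L → r * s ∈ Mult m L) ∧
    (∀ r, r ∈ Mult m L → -r ∈ Mult m L) ∧ (∀ k : ℕ, (k : F) ∈ Mult m L) ∧
    (∀ r, r ∈ Mult m L → r⁻¹ ∈ Mult m L) := by
  refine ⟨?_, ?_, ?_, ?_, ?_, ?_⟩
  · intro d _ x hx
    rw [one_mul]; exact hx
  · intro r s hr hs d hd x hx
    rw [add_mul]
    exact (L d).add_mem (hr d hd x hx) (hs d hd x hx)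
  · intro r s hr hs d hd x hx
    rw [mul_assoc]
    exact hr d hd _ (hs d hd x hx)
  · intro r hr d hd x hx
    rw [neg_mul]
    exact (L d).neg_mem (hr d hd x hx)
  · intro k d _ x hx
    rw [← nsmul_eq_mul]
    exact (L d).nsmul_mem hx k
  · intro r hr
    by_cases hr0 : r = 0
    · intro d _ x _
      rw [hr0, _root_.inv_zero, zero_mul]
      exact (L d).zero_mem
    · have hq : 2 ≤ Fintype.card F := Fintype.one_lt_card
      have h1 : r ^ (Fintype.card F - 1) = 1 := FiniteField.pow_card_sub_one_eq_one r hr0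
      have h2 : r⁻¹ = r ^ (Fintype.card F - 2) := by
        apply inv_eq_of_mul_eq_one_left
        rw [← pow_succ, ← h1]
        congr 1
        omega
      rw [h2]
      exact h34_Mult_pow L r hr _

/-- iterating `h2` -/
theorem h34_iter (lam : F) (L : ℕ → AddSubgroup F)
    (h2 : ∀ d, d ≤ m → ∀ x ∈ L d, lam * x ∈ L (d + 1)) (k d : ℕ) (hk : d + k ≤ m + 1)
    (x : F) (hx : x ∈ L d) : lam ^ k * x ∈ L (d + k) := by
  induction k with
  | zero => rw [pow_zero, one_mul]; exact hx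
  | succ k ih =>
    have h := h2 (d + k) (by omega) _ (ih (by omega))
    rw [← mul_assoc, ← pow_succ'] at h
    exact h

/-- (F3) for `x ∈ L d`: put `j = t + 1 - d` (truncated); `λ^j x ∈ L (d+j)` (`h2`, `d + j ≤ m+1`), then `h3` with
`d' = m+1`, `r = m+2+t`: `C λ^j x y₀ ∈ L (d+j-1-t)`, then `h2` `(t+1-j)` times back to `L d`. -/
theorem mult_path (lam : F) (L : ℕ → AddSubgroup F)
    (h2 : ∀ d, d ≤ m → ∀ x ∈ L d, lam * x ∈ L (d + 1))
    (h3 : ∀ d d' r, d ≤ m + 1 → d' ≤ m + 1 → m + 2 ≤ r → r ≤ d + d' → ∀ x ∈ L d, ∀ y ∈ L d',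
      (Nat.choose r (m + 2) : F) * x * y ∈ L (d + d' - r))
    (t : ℕ) (ht : t ≤ m) (y₀ : F) (hy₀ : y₀ ∈ L (m + 1)) :
    (Nat.choose (m + 2 + t) (m + 2) : F) * lam ^ (t + 1) * y₀ ∈ Mult m L := by
  intro d hd x hx
  by_cases hdt : d ≤ t + 1
  · -- up to `L (t+1)`, down to `L 0`, up to `L d`
    have hup := h34_iter lam L h2 (t + 1 - d) d (by omega) x hx
    have hidx : d + (t + 1 - d) = t + 1 := by omega
    rw [hidx] at hup
    have hdown := h3 (t + 1) (m + 1) (m + 2 + t) (by omega) le_rfl (by omega) (by omega) _ hup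
      y₀ hy₀
    have hidx2 : t + 1 + (m + 1) - (m + 2 + t) = 0 := by omega
    rw [hidx2] at hdown
    have hback := h34_iter lam L h2 d 0 (by omega) _ hdown
    rw [zero_add] at hback
    have hpow : lam ^ (t + 1) = lam ^ d * lam ^ (t + 1 - d) := by
      rw [← pow_add]; congr 1; omega
    have heq : (Nat.choose (m + 2 + t) (m + 2) : F) * lam ^ (t + 1) * y₀ * x =
        lam ^ d * ((Nat.choose (m + 2 + t) (m + 2) : F) * (lam ^ (t + 1 - d) * x) * y₀) := by
      rw [hpow]; ring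
    rw [heq]
    exact hback
  · -- down to `L (d - 1 - t)`, up to `L d`
    have hdown := h3 d (m + 1) (m + 2 + t) hd le_rfl (by omega) (by omega) x hx y₀ hy₀
    have hback := h34_iter lam L h2 (t + 1) (d + (m + 1) - (m + 2 + t)) (by omega) _ hdown
    have hidx : d + (m + 1) - (m + 2 + t) + (t + 1) = d := by omega
    rw [hidx] at hback
    have heq : (Nat.choose (m + 2 + t) (m + 2) : F) * lam ^ (t + 1) * y₀ * x =
        lam ^ (t + 1) * ((Nat.choose (m + 2 + t) (m + 2) : F) * x * y₀) := by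
      ring
    rw [heq]
    exact hback

/-- (F5) LONG POLE. -/
theorem lam_mem_Mult [Fintype F] (hm : 1 ≤ m) (lam : F) (hlam : lam ≠ 0) (L : ℕ → AddSubgroup F)
    (h1 : lam ^ 3 ∈ L 2) (h2 : ∀ d, d ≤ m → ∀ x ∈ L d, lam * x ∈ L (d + 1))
    (h3 : ∀ d d' r, d ≤ m + 1 → d' ≤ m + 1 → m + 2 ≤ r → r ≤ d + d' → ∀ x ∈ L d, ∀ y ∈ L d',
      (Nat.choose r (m + 2) : F) * x * y ∈ L (d + d' - r)) :
    lam ∈ Mult m L := by
  obtain ⟨hM1, hMadd, hMmul, hMneg, hMnat, hMinv⟩ := Mult_closed (m := m) L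
  -- `y₀ = λ^(m+2) ∈ L (m+1)`
  have hy₀ : lam ^ (m + 2) ∈ L (m + 1) := pow_mem_L lam L h1 h2 (m + 1) (by omega) le_rfl
  -- `λ^(m+3) ∈ Mult`
  have hn : lam ^ (m + 3) ∈ Mult m L := by
    have h := mult_path lam L h2 h3 0 (Nat.zero_le m) _ hy₀
    have heq : (Nat.choose (m + 2 + 0) (m + 2) : F) * lam ^ (0 + 1) * lam ^ (m + 2) =
        lam ^ (m + 3) := by
      rw [add_zero, Nat.choose_self, Nat.cast_one, one_mul, zero_add, pow_one, ← pow_succ']
    rw [heq] at h
    exact h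
  -- the characteristic
  obtain ⟨p, hchar⟩ := CharP.exists F
  have hp : p.Prime := by
    rcases CharP.char_is_prime_or_zero F p with h | h
    · exact h
    · exfalso
      subst h
      have := CharP.charP_to_charZero F
      exact not_finite F
  have hfact : Fact p.Prime := ⟨hp⟩
  obtain ⟨a, n', hpn, hnn⟩ := Nat.exists_eq_pow_mul_and_not_dvd (by omega : m + 3 ≠ 0) p hp.ne_one
  have hpa : 0 < p ^ a := pow_pos hp.pos a
  have hn'0 : n' ≠ 0 := by
    intro h; rw [h, mul_zero] at hnn; omega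
  -- `λ^(p^a) ∈ Mult`
  have hpow : lam ^ (p ^ a) ∈ Mult m L := by
    by_cases hn1 : n' = 1
    · rw [hn1, mul_one] at hnn
      rw [← hnn]; exact hn
    · have hn2 : 2 ≤ n' := by omega
      -- `t = p^a ≤ m`
      have htm : p ^ a ≤ m := by
        by_cases hs1 : p ^ a = 1
        · omega
        · by_cases hs2 : p ^ a = 2
          · have hp2 : p = 2 := by
              have h1 : p ∣ 2 := by
                rw [← hs2]
                have ha0 : a ≠ 0 := by
                  intro h0; rw [h0, pow_zero] at hs2; omega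
                exact dvd_pow_self p ha0
              exact (Nat.prime_dvd_prime_iff_eq hp Nat.prime_two).1 h1
            have hn3 : 3 ≤ n' := by
              by_contra h
              have : n' = 2 := by omega
              apply hpn
              rw [this, hp2]
            rw [hs2] at hnn ⊢
            omega
          · have hs3 : 3 ≤ p ^ a := by omega
            have : p ^ a * 2 ≤ p ^ a * n' := Nat.mul_le_mul_left _ hn2
            omega
      have h := mult_path lam L h2 h3 (p ^ a) htm _ hy₀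
      -- the binomial coefficient is a unit
      have hm2 : m + 2 = p ^ a * n' - 1 := by omega
      have hC : ((Nat.choose (m + 2 + p ^ a) (m + 2) : ℕ) : F) ≠ 0 := by
        intro h0
        rw [CharP.cast_eq_zero_iff F p] at h0
        rw [hm2] at h0
        exact luc p hp a n' hn2 hpn h0
      have hCinv := hMinv _ (hMnat (Nat.choose (m + 2 + p ^ a) (m + 2)))
      have h' := hMmul _ _ hCinv h
      have heq : ((Nat.choose (m + 2 + p ^ a) (m + 2) : ℕ) : F)⁻¹ *
          ((Nat.choose (m + 2 + p ^ a) (m + 2) : F) * lam ^ (p ^ a + 1) * lam ^ (m + 2)) =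
          lam ^ (p ^ a) * lam ^ (m + 3) := by
        rw [mul_assoc, inv_mul_cancel_left₀ hC, ← pow_add, ← pow_add]
        congr 1
        omega
      rw [heq] at h'
      have h'' := hMmul _ _ h' (hMinv _ hn)
      rw [mul_assoc, mul_inv_cancel₀ (pow_ne_zero _ hlam), mul_one] at h''
      exact h''
  -- Frobenius
  obtain ⟨f, hf⟩ : ∃ f : ℕ+, Fintype.card F = p ^ (f : ℕ) := by
    obtain ⟨f, -, hf⟩ := FiniteField.card F p
    exact ⟨f, hf⟩
  have hfa : a ≤ (f : ℕ) * a := Nat.le_mul_of_pos_left a f.pos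
  have hlast : lam = (lam ^ (p ^ a)) ^ (p ^ ((f : ℕ) * a - a)) := by
    rw [← pow_mul, ← pow_add, Nat.add_sub_cancel' hfa, pow_mul, ← hf]
    exact (FiniteField.pow_card_pow a lam).symm
  rw [hlast]
  exact h34_Mult_pow L _ hpow _

/-- (F6) -/
theorem field_fill [Fintype F] (hm : 1 ≤ m) (lam : F) (hlam : lam ≠ 0)
    (hgen : ∀ a : F, a ≠ 0 → ∃ k : ℕ, a = lam ^ k) (L : ℕ → AddSubgroup F)
    (h1 : lam ^ 3 ∈ L 2) (h2 : ∀ d, d ≤ m → ∀ x ∈ L d, lam * x ∈ L (d + 1))
    (h3 : ∀ d d' r, d ≤ m + 1 → d' ≤ m + 1 → m + 2 ≤ r → r ≤ d + d' → ∀ x ∈ L d, ∀ y ∈ L d',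
      (Nat.choose r (m + 2) : F) * x * y ∈ L (d + d' - r)) :
    ∀ d, d ≤ m + 1 → L d = ⊤ := by
  have hlamM := lam_mem_Mult hm lam hlam L h1 h2 h3
  -- every element is a multiplier
  have hall : ∀ r : F, r ∈ Mult m L := by
    intro r
    by_cases hr : r = 0
    · intro d _ x _
      rw [hr, zero_mul]; exact (L d).zero_mem
    · obtain ⟨k, hk⟩ := hgen r hr
      rw [hk]
      exact h34_Mult_pow L lam hlamM k
  -- a nonzero element in each `L d`
  have hy₀ : lam ^ (m + 2) ∈ L (m + 1) := pow_mem_L lam L h1 h2 (m + 1) (by omega) le_rfl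
  have hx1 : lam ^ 3 * lam ^ (m + 2) ∈ L 1 := by
    have h := h3 2 (m + 1) (m + 2) (by omega) le_rfl le_rfl (by omega) _ h1 _ hy₀
    have hidx : 2 + (m + 1) - (m + 2) = 1 := by omega
    rw [hidx, Nat.choose_self, Nat.cast_one, one_mul] at h
    exact h
  have hx0 : lam ^ 3 * lam ^ (m + 2) * lam ^ (m + 2) ∈ L 0 := by
    have h := h3 1 (m + 1) (m + 2) (by omega) le_rfl le_rfl (by omega) _ hx1 _ hy₀
    have hidx : 1 + (m + 1) - (m + 2) = 0 := by omega
    rw [hidx, Nat.choose_self, Nat.cast_one, one_mul] at h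
    exact h
  have hnz : ∀ d, d ≤ m + 1 → ∃ x₀ ∈ L d, x₀ ≠ 0 := by
    intro d hd
    rcases Nat.lt_or_ge d 2 with hlt | hge
    · interval_cases d
      · exact ⟨_, hx0, mul_ne_zero (mul_ne_zero (pow_ne_zero _ hlam) (pow_ne_zero _ hlam))
          (pow_ne_zero _ hlam)⟩
      · exact ⟨_, hx1, mul_ne_zero (pow_ne_zero _ hlam) (pow_ne_zero _ hlam)⟩
    · exact ⟨_, pow_mem_L lam L h1 h2 d hge hd, pow_ne_zero _ hlam⟩
  intro d hd
  obtain ⟨x₀, hx₀, hx₀ne⟩ := hnz d hd
  rw [eq_top_iff]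
  intro y _
  have h := hall (y * x₀⁻¹) d hd x₀ hx₀
  rw [mul_assoc, inv_mul_cancel₀ hx₀ne, mul_one] at h
  exact h

end Cfsg.Agent.Helper34.RJ
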