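import Mathlib
import Cfsg.Prelude.Def_Characters
import Cfsg.Prelude.Def_Blocks
import Cfsg.Agent.Lib.Helper80.RPDDefs
import Cfsg.Agent.Lib.Helper79.Inflation

/-!
# RPD (HQ): the hypothesis package of S4861 passes to quotients (helper80's lemma server)
-/

set_option autoImplicit false

namespace Cfsg.Agent.Helper34.RPD

open Cfsg Cfsg.Agent.Helper80.RPD
open scoped ComplexConjugate

universe u

/-- the image of a `2`-element is a `2`-element -/
theorem h34_two_elt_map {G H : Type*} [Group G] [Group H] (f : G →* H) {g : G}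
    (hg : ∃ k : ℕ, orderOf g = 2 ^ k) : ∃ k : ℕ, orderOf (f g) = 2 ^ k := by
  obtain ⟨k, hk⟩ := hg
  have h1 : orderOf (f g) ∣ 2 ^ k := hk ▸ orderOf_map_dvd f g
  obtain ⟨j, _, hj⟩ := (Nat.dvd_prime_pow Nat.prime_two).1 h1
  exact ⟨j, hj⟩

/-- (HQ) the hypothesis package passes to quotients -/
theorem hyp_quotient (p : ℕ) {G : Type u} [Group G] [Finite G] (N : Subgroup G) [N.Normal]
    (h : Hyp p G) : Hyp p (G ⧸ N) := by
  obtain ⟨h2, ⟨L, hLn, hLs, hLi⟩, hreal⟩ := h
  have hsurj : Function.Surjective (QuotientGroup.mk' N) := QuotientGroup.mk'_surjective N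
  refine ⟨?_, ⟨L.map (QuotientGroup.mk' N), ?_, ?_, ?_⟩, ?_⟩
  · -- generation by 2-elements
    rw [eq_top_iff]
    have h3 : Subgroup.map (QuotientGroup.mk' N) ⊤ = ⊤ :=
      (Subgroup.map_top_of_surjective _ hsurj)
    rw [← h3, ← h2, MonoidHom.map_closure]
    apply Subgroup.closure_mono
    rintro _ ⟨g, hg, rfl⟩
    exact h34_two_elt_map (QuotientGroup.mk' N) hg
  · exact hLn.map _ hsurj
  · -- solvable
    let f : ↥L →* ↥(L.map (QuotientGroup.mk' N)) := (QuotientGroup.mk' N).subgroupMap L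
    have hf : Function.Surjective f := (QuotientGroup.mk' N).subgroupMap_surjective L
    exact Group.isSolvable_of_surjective hf
  · intro hp
    exact hLi (dvd_trans hp (Subgroup.index_map_dvd L hsurj))
  · intro ψ hψ
    have h4 := hreal (Cfsg.Agent.Helper79.inflate N ψ) (fun g => by
      rw [Cfsg.Agent.Helper79.inflate_apply]; exact hψ _)
    rwa [Cfsg.Agent.Helper79.charDegree_inflate] at h4

end Cfsg.Agent.Helper34.RPD
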