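import Mathlib
import Cfsg.Prelude.Def_Characters
import Cfsg.Prelude.Def_Blocks
import Cfsg.Agent.Lib.Helper80.RPD3Defs
import Cfsg.Agent.Lib.Helper79.Inflation
import Cfsg.Agent.Lib.Helper34.RPDHQ

/-!
# RPD3 (HQ3): the hypothesis package of S4863 passes to quotients (helper80's lemma server)
-/

set_option autoImplicit false

namespace Cfsg.Agent.Helper34.RPD3

open Cfsg Cfsg.Agent.Helper80.RPD3
open scoped ComplexConjugate

universe u

/-- (HQ3) the hypothesis package passes to quotients (images of `K`, `U`). -/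
theorem hyp3_quotient (p : ℕ) [Fact p.Prime] {G : Type u} [Group G] [Finite G] (N : Subgroup G)
    [N.Normal] (K U : Subgroup G) (h : Hyp3 p G K U) :
    Hyp3 p (G ⧸ N) (K.map (QuotientGroup.mk' N)) (U.map (QuotientGroup.mk' N)) := by
  obtain ⟨hKn, hUn, hKU, ⟨a, ha⟩, hgen, ⟨L, hLn, hLs, hLi⟩, hreal⟩ := h
  have hp : p.Prime := Fact.out
  have hsurj : Function.Surjective (QuotientGroup.mk' N) := QuotientGroup.mk'_surjective N
  refine ⟨hKn.map _ hsurj, hUn.map _ hsurj, Subgroup.map_mono hKU, ?_, ?_,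
    ⟨L.map (QuotientGroup.mk' N), hLn.map _ hsurj, ?_, ?_⟩, ?_⟩
  · -- the relative index is a power of `p`
    have h1 : (K.map (QuotientGroup.mk' N)).relIndex (U.map (QuotientGroup.mk' N)) ∣
        K.relIndex U := by
      rw [Subgroup.relIndex_map_map, QuotientGroup.ker_mk']
      have hKN : (K ⊔ N).Normal := inferInstance
      have h2 : U ⊔ N = U ⊔ (K ⊔ N) := by
        rw [← sup_assoc, sup_eq_left.2 hKU]
      rw [h2, Subgroup.relIndex_sup_right]
      exact Subgroup.relIndex_dvd_of_le_left U le_sup_left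
    rw [ha] at h1
    obtain ⟨j, _, hj⟩ := (Nat.dvd_prime_pow hp).1 h1
    exact ⟨j, hj⟩
  · -- generation by 2-elements
    apply le_antisymm
    · rw [Subgroup.closure_le]
      intro g hg
      exact hg.1
    · conv_lhs => rw [← hgen]
      rw [MonoidHom.map_closure]
      apply Subgroup.closure_mono
      rintro _ ⟨g, ⟨hgK, hg2⟩, rfl⟩
      exact ⟨Subgroup.mem_map_of_mem _ hgK,
        Cfsg.Agent.Helper34.RPD.h34_two_elt_map (QuotientGroup.mk' N) hg2⟩
  · let f : ↥L →* ↥(L.map (QuotientGroup.mk' N)) := (QuotientGroup.mk' N).subgroupMap L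
    have hf : Function.Surjective f := (QuotientGroup.mk' N).subgroupMap_surjective L
    exact Group.isSolvable_of_surjective hf
  · intro hpd
    exact hLi (dvd_trans hpd (Subgroup.index_map_dvd L hsurj))
  · intro ψ hψ
    have h4 := hreal (Cfsg.Agent.Helper79.inflate N ψ) (fun g => by
      rw [Cfsg.Agent.Helper79.inflate_apply]; exact hψ _)
    rwa [Cfsg.Agent.Helper79.charDegree_inflate] at h4

end Cfsg.Agent.Helper34.RPD3
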