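import Mathlib
import Cfsg.Prelude.Def_Characters
import Cfsg.Prelude.Def_Blocks
import Cfsg.Agent.Lib.Helper79.LinearChars
import Cfsg.Agent.Lib.Helper80.CharBasic

/-!
# RPD (RE), core: the even case of S4861, with the parity lemma (PAR) as an explicit hypothesis
(helper80's lemma server)
-/

set_option autoImplicit false

namespace Cfsg.Agent.Helper34.RPD

open Cfsg
open scoped ComplexConjugate

universe u

/-- (RE) even case, with (PAR) as a hypothesis -/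
theorem h34_real_over_even_of {G : Type u} [Group G] [Finite G]
    (hPAR : ∀ (N : Subgroup G) [N.Normal] (Q : Subgroup G) (φ : IrrCharacter ↥N), N ⊓ Q = ⊥ →
      (∃ m : ℕ, Odd m ∧ Nat.card G = m * (Nat.card ↥N * Nat.card ↥Q)) →
      (φ : ↥N → ℂ) 1 = 1 →
      (∃ g : G, ∀ n n' : ↥N, (n' : G) = g * (n : G) * g⁻¹ →
        (φ : ↥N → ℂ) n' = conj ((φ : ↥N → ℂ) n)) →
      ∃ χ : IrrCharacter G, (∀ g : G, ((χ : G → ℂ) g).im = 0) ∧
        (∑ᶠ n : ↥N, (χ : G → ℂ) n * conj ((φ : ↥N → ℂ) n)) ≠ 0)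
    (N H : Subgroup G) (hN : N.Normal)
    (hcomm : ∀ a ∈ N, ∀ b ∈ N, a * b = b * a) (hsq : ∀ a ∈ N, a * a = 1) (hN1 : N ≠ ⊥)
    (hNH : N ⊓ H = ⊥) (hNH' : N ⊔ H = ⊤) :
    ∃ χ : IrrCharacter G, (∀ g : G, ((χ : G → ℂ) g).im = 0) ∧
      ∃ n ∈ N, (χ : G → ℂ) n ≠ (χ : G → ℂ) 1 := by
  classical
  have := hN
  have : Fintype ↥N := Fintype.ofFinite _
  -- the Sylow 2-subgroup of `H`
  obtain ⟨Q₀⟩ : Nonempty (Sylow 2 ↥H) := inferInstance
  set Q : Subgroup G := (Q₀ : Subgroup ↥H).map H.subtype with hQ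
  have hQH : Q ≤ H := by
    rw [hQ]
    exact Subgroup.map_subtype_le _
  have hNQ : N ⊓ Q = ⊥ := by
    rw [eq_bot_iff, ← hNH]
    exact inf_le_inf_left N hQH
  -- counting
  have hcompl : Subgroup.IsComplement' N H := by
    apply Subgroup.isComplement'_of_disjoint_and_mul_eq_univ
    · rw [disjoint_iff]; exact hNH
    · rw [← Subgroup.normal_mul, hNH']; rfl
  have hcard : Nat.card ↥N * Nat.card ↥H = Nat.card G := hcompl.card_mul_card
  have hQcard : Nat.card ↥Q = Nat.card ↥(Q₀ : Subgroup ↥H) :=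
    Subgroup.card_map_of_injective H.subtype_injective
  have hidx : Nat.card ↥(Q₀ : Subgroup ↥H) * (Q₀ : Subgroup ↥H).index = Nat.card ↥H :=
    (Q₀ : Subgroup ↥H).card_mul_index
  have hodd : Odd (Q₀ : Subgroup ↥H).index := by
    rw [← Nat.not_even_iff_odd, even_iff_two_dvd]
    exact Q₀.not_dvd_index
  have hcount : ∃ m : ℕ, Odd m ∧ Nat.card G = m * (Nat.card ↥N * Nat.card ↥Q) := by
    refine ⟨(Q₀ : Subgroup ↥H).index, hodd, ?_⟩
    rw [← hcard, ← hidx, hQcard]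
    ring
  -- a nonprincipal linear character of `N`
  have : Nontrivial ↥N := (Subgroup.nontrivial_iff_ne_bot N).2 hN1
  have hcommN : commutator ↥N ≠ ⊤ := by
    have h0 : commutator ↥N = ⊥ := by
      rw [commutator_def, Subgroup.commutator_eq_bot_iff_le_centralizer]
      intro a _
      rw [Subgroup.mem_centralizer_iff]
      intro b _
      apply Subtype.ext
      exact hcomm _ b.2 _ a.2
    rw [h0]
    exact bot_ne_top
  obtain ⟨φ, hφdeg, hφne⟩ := Cfsg.Agent.Helper79.exists_nontrivial_linear hcommN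
  have hφ1 : (φ : ↥N → ℂ) 1 = 1 := by
    rw [(Cfsg.Agent.Helper79.irr_one_eq φ).1, hφdeg]; simp
  have hφreal : ∀ n : ↥N, (φ : ↥N → ℂ) n = conj ((φ : ↥N → ℂ) n) := by
    intro n
    obtain ⟨h1, h2⟩ := Cfsg.Agent.Helper79.irr_mul_of_degree_one φ hφdeg n n
    have h3 : n * n = 1 := Subtype.ext (hsq _ n.2)
    rw [h3, hφ1] at h1
    have hne : (φ : ↥N → ℂ) n ≠ 0 := by
      intro h0
      rw [h0, zero_mul] at h1
      exact one_ne_zero h1
    exact mul_left_cancel₀ hne (h1.symm.trans h2.symm)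
  have hconj : ∃ g : G, ∀ n n' : ↥N, (n' : G) = g * (n : G) * g⁻¹ →
      (φ : ↥N → ℂ) n' = conj ((φ : ↥N → ℂ) n) := by
    refine ⟨1, fun n n' h => ?_⟩
    have : n' = n := Subtype.ext (by rw [h]; group)
    rw [this]
    exact hφreal n
  obtain ⟨χ, hχreal, hχφ⟩ := hPAR N Q φ hNQ hcount hφ1 hconj
  refine ⟨χ, hχreal, ?_⟩
  by_contra hcon
  push Not at hcon
  apply hχφ
  rw [finsum_eq_sum_of_fintype]
  have h1 : ∀ n : ↥N, (χ : G → ℂ) n * conj ((φ : ↥N → ℂ) n) =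
      (χ : G → ℂ) 1 * (((Cfsg.Agent.Helper79.trivChar ↥N : IrrCharacter ↥N) : ↥N → ℂ) n *
        conj ((φ : ↥N → ℂ) n)) := by
    intro n
    rw [hcon n n.2, Cfsg.Agent.Helper79.trivChar_apply, one_mul]
  rw [Finset.sum_congr rfl (fun n _ => h1 n), ← Finset.mul_sum,
    Cfsg.Agent.Helper80.irr_first_orthogonality, if_neg (fun h => hφne h.symm), mul_zero]

end Cfsg.Agent.Helper34.RPD
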