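import Mathlib
import Cfsg.Prelude.Def_Characters
import Cfsg.Prelude.Def_Blocks
import Cfsg.Agent.Lib.Helper34.RPDREcore
import Cfsg.Agent.Lib.Helper80.RPDPar

/-!
# RPD (RE): the even case of S4861 (helper80's lemma server)
-/

set_option autoImplicit false

namespace Cfsg.Agent.Helper34.RPD

open Cfsg
open scoped ComplexConjugate

universe u

/-- (RE) even case -/
theorem real_over_even {G : Type u} [Group G] [Finite G] (N H : Subgroup G) (hN : N.Normal)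
    (hcomm : ∀ a ∈ N, ∀ b ∈ N, a * b = b * a) (hsq : ∀ a ∈ N, a * a = 1) (hN1 : N ≠ ⊥)
    (hNH : N ⊓ H = ⊥) (hNH' : N ⊔ H = ⊤) :
    ∃ χ : IrrCharacter G, (∀ g : G, ((χ : G → ℂ) g).im = 0) ∧
      ∃ n ∈ N, (χ : G → ℂ) n ≠ (χ : G → ℂ) 1 :=
  h34_real_over_even_of
    (fun N _ Q φ h1 h2 h3 h4 =>
      Cfsg.Agent.Helper80.RPD.exists_real_over_of_count_odd N Q φ h1 h2 h3 h4)
    N H hN hcomm hsq hN1 hNH hNH'

end Cfsg.Agent.Helper34.RPD
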