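import Mathlib
import Cfsg.Agent.Lib.Helper98.RT0

/-!
# RT piece G1 (helper34): a generator `ζ` of `Fˣ` has `ζ³ ≠ 1` and `Gen3 ζ` when `|F| ≠ 2, 4`.
-/

set_option autoImplicit false

namespace Cfsg.Agent.Helper34.RT

open Matrix Cfsg.Agent.Helper93.RU Cfsg.Agent.Helper98.RT

variable {F : Type*} [Field F]

/-- if `|K|^e = q`, `e ≥ 2`, `|K| ≥ 2` and `q - 1 ≤ 3 (|K| - 1)` then `q = 4` -/
theorem h34_rt_arith (q r e : ℕ) (hq : q = r ^ e) (hr : 2 ≤ r) (he : 2 ≤ e)
    (hle : q - 1 ≤ 3 * (r - 1)) : q = 4 := by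
  have h1 : r ^ 2 ≤ r ^ e := Nat.pow_le_pow_right (by omega) he
  have h2 : r ^ 2 ≤ q := by rw [hq]; exact h1
  have h3 : r ≤ 2 := by
    by_contra hcon
    have h4 : 3 ≤ r := by omega
    have h5 : r * r ≥ 3 * r := Nat.mul_le_mul_right r h4
    have h6 : r ^ 2 = r * r := by ring
    omega
  have hr2 : r = 2 := by omega
  subst hr2
  have h7 : q ≤ 4 := by omega
  have h8 : (2 : ℕ) ^ 2 ≤ q := h2
  omega

theorem exists_zeta [Fintype F] (h2 : Fintype.card F ≠ 2) (h4 : Fintype.card F ≠ 4) :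
    ∃ ζ : F, ζ ≠ 0 ∧ ζ ^ 3 ≠ 1 ∧ Gen3 ζ := by
  classical
  have hq1 : 1 < Fintype.card F := Fintype.one_lt_card
  obtain ⟨g, hg⟩ := IsCyclic.exists_generator (α := Fˣ)
  have hordg : orderOf g = Fintype.card F - 1 := by
    rw [orderOf_eq_card_of_forall_mem_zpowers hg, Nat.card_eq_fintype_card, Fintype.card_units]
  have hord : orderOf (g : F) = Fintype.card F - 1 := by
    rw [orderOf_units, hordg]
  have hg0 : (g : F) ≠ 0 := g.ne_zero
  have hg3 : (g : F) ^ 3 ≠ 1 := by
    intro h3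
    have h5 : orderOf (g : F) ∣ 3 := orderOf_dvd_of_pow_eq_one h3
    rw [hord] at h5
    have h6 : Fintype.card F - 1 ≤ 3 := Nat.le_of_dvd (by norm_num) h5
    have h7 : Fintype.card F - 1 ≠ 2 := by
      intro h8
      rw [h8] at h5
      norm_num at h5
    omega
  refine ⟨(g : F), hg0, hg3, ?_⟩
  intro M hM hne
  obtain ⟨μ₀, hμ₀M, hμ₀⟩ := hne
  -- the subfield generated by `θ = ζ³`
  set θ : F := (g : F) ^ 3 with hθ
  have hθ0 : θ ≠ 0 := pow_ne_zero 3 hg0
  have hP : ∀ a ∈ Subfield.closure ({θ} : Set F), ∀ μ ∈ M, a * μ ∈ M := by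
    intro a ha
    induction ha using Subfield.closure_induction with
    | mem x hx =>
      rw [Set.mem_singleton_iff] at hx
      subst hx
      exact hM
    | one => intro μ hμ; simpa using hμ
    | add x y _ _ ihx ihy =>
      intro μ hμ
      rw [add_mul]
      exact M.add_mem (ihx μ hμ) (ihy μ hμ)
    | neg x _ ihx =>
      intro μ hμ
      rw [neg_mul]
      exact M.neg_mem (ihx μ hμ)
    | inv x _ ihx =>
      intro μ hμ
      by_cases hx0 : x = 0
      · rw [hx0, _root_.inv_zero, zero_mul]; exact M.zero_mem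
      · have hpow : ∀ k : ℕ, ∀ ν ∈ M, x ^ k * ν ∈ M := by
          intro k
          induction k with
          | zero => intro ν hν; simpa using hν
          | succ k ih =>
            intro ν hν
            rw [pow_succ, mul_assoc]
            exact ih _ (ihx ν hν)
        have h1 : x ^ (Fintype.card F - 1) = 1 := FiniteField.pow_card_sub_one_eq_one x hx0
        have h2' : x⁻¹ = x ^ (Fintype.card F - 2) := by
          have h3 : x ^ (Fintype.card F - 2) * x = 1 := by
            rw [← pow_succ]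
            have : Fintype.card F - 2 + 1 = Fintype.card F - 1 := by omega
            rw [this, h1]
          exact (eq_inv_of_mul_eq_one_left h3).symm
        rw [h2']
        exact hpow _ μ hμ
    | mul x y _ _ ihx ihy =>
      intro μ hμ
      rw [mul_assoc]
      exact ihx _ (ihy μ hμ)
  -- cardinalities
  set K : Subfield F := Subfield.closure ({θ} : Set F) with hK
  have hθK : θ ∈ K := Subfield.subset_closure (Set.mem_singleton θ)
  let _instK : Fintype ↥K := Fintype.ofFinite ↥K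
  have hcard : Nat.card F = Nat.card ↥K ^ Module.finrank ↥K F :=
    Module.natCard_eq_pow_finrank (K := ↥K) (V := F)
  have hr2 : 2 ≤ Nat.card ↥K := by
    rw [Nat.card_eq_fintype_card]
    exact Fintype.one_lt_card
  -- `orderOf θ ∣ |K| - 1`
  have hθK1 : θ ^ (Nat.card ↥K - 1) = 1 := by
    have h1 : (⟨θ, hθK⟩ : ↥K) ≠ 0 := by
      intro h0
      exact hθ0 (congrArg Subtype.val h0)
    have h3 := FiniteField.pow_card_sub_one_eq_one (⟨θ, hθK⟩ : ↥K) h1
    rw [← Nat.card_eq_fintype_card] at h3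
    have h5 := congrArg Subtype.val h3
    simpa using h5
  have hdvd : orderOf θ ∣ Nat.card ↥K - 1 := orderOf_dvd_of_pow_eq_one hθK1
  have hordθ : orderOf θ = (Fintype.card F - 1) / Nat.gcd (Fintype.card F - 1) 3 := by
    rw [hθ, orderOf_pow' _ (by norm_num : (3 : ℕ) ≠ 0), hord]
  have hle : Fintype.card F - 1 ≤ 3 * (Nat.card ↥K - 1) := by
    have hgd : Nat.gcd (Fintype.card F - 1) 3 ∣ Fintype.card F - 1 := Nat.gcd_dvd_left _ _
    have hg3' : Nat.gcd (Fintype.card F - 1) 3 ≤ 3 := Nat.le_of_dvd (by norm_num) (Nat.gcd_dvd_right _ _)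
    have hpos : 0 < Nat.card ↥K - 1 := by omega
    have h6 : orderOf θ ≤ Nat.card ↥K - 1 := Nat.le_of_dvd hpos hdvd
    have h7 : Fintype.card F - 1 = orderOf θ * Nat.gcd (Fintype.card F - 1) 3 := by
      rw [hordθ, Nat.div_mul_cancel hgd]
    calc Fintype.card F - 1 = orderOf θ * Nat.gcd (Fintype.card F - 1) 3 := h7
      _ ≤ (Nat.card ↥K - 1) * 3 := Nat.mul_le_mul h6 hg3'
      _ = 3 * (Nat.card ↥K - 1) := by ring
  have hqF : Nat.card F = Fintype.card F := Nat.card_eq_fintype_card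
  have he1 : Module.finrank ↥K F = 1 := by
    by_contra hne1
    have he0 : Module.finrank ↥K F ≠ 0 := by
      intro h0
      rw [h0, pow_zero] at hcard
      omega
    have he2 : 2 ≤ Module.finrank ↥K F := by omega
    have := h34_rt_arith (Fintype.card F) (Nat.card ↥K) (Module.finrank ↥K F)
      (by rw [← hqF]; exact hcard) hr2 he2 hle
    exact h4 this
  have hcardeq : Nat.card ↥K = Nat.card F := by
    rw [hcard, he1, pow_one]
  have hsurj : Function.Surjective (K.subtype) :=
    (Function.Injective.bijective_of_nat_card_le (Subtype.val_injective) (le_of_eq hcardeq.symm)).2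
  rw [AddSubgroup.eq_top_iff']
  intro x
  obtain ⟨k, hk⟩ := hsurj (x * μ₀⁻¹)
  have h9 := hP (x * μ₀⁻¹) (by rw [← hk]; exact k.2) μ₀ hμ₀M
  rwa [mul_assoc, inv_mul_cancel₀ hμ₀, mul_one] at h9

end Cfsg.Agent.Helper34.RT
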