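import Mathlib
import Cfsg.Agent.Lib.Helper64.S4017Defs
import Cfsg.Agent.Lib.Helper3.S4017DDefs
import Cfsg.Agent.Lib.Helper17.S4017Defs

/-!
S4017M (BR) for helper64's lemma server (row S4017): helper17's `Setting` gives helper64's `Setting`.
-/

set_option autoImplicit false

namespace Cfsg.Agent.Helper34.S4017M

open Cfsg.Agent.Helper64.S4017

variable {G : Type*} [Group G] [Finite G] {a p : ℕ} {Q : Subgroup G} {x : G}

theorem setting_of_setting17 (h : Cfsg.Agent.Helper17.S4017.Setting a p Q x) : Setting a p Q x := by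
  refine ⟨h.simple, h.two_le, h.prime, h.p_eq, h.card_Q, h.sylow, h.elem, h.star, h.abel, ?_,
    h.x_pel, h.x_trans⟩
  intro s hs
  exact (Subgroup.mem_normalizer_iff.mp h.x_mem s).mp hs

end Cfsg.Agent.Helper34.S4017M
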