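import Mathlib
import Cfsg.Agent.Lib.Helper64.S4017Defs
import Cfsg.Agent.Lib.Helper3.S4017DDefs
import Cfsg.Agent.Lib.Helper17.S4017Defs

/-!
S4017M (CQ) for helper64's lemma server (row S4017): `C(Q) = Q` when `P₁ = 1`.
-/

set_option autoImplicit false

namespace Cfsg.Agent.Helper34.S4017M

open Cfsg.Agent.Helper64.S4017

variable {G : Type*} [Group G] [Finite G] {a p : ℕ} {Q : Subgroup G} {x : G}

/-- `Q` is abelian (exponent 2). -/
theorem h34_Q_comm (h : Setting a p Q x) : ∀ y ∈ Q, ∀ z ∈ Q, y * z = z * y := by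
  intro y hy z hz
  have h1 := h.elem y hy
  have h2 := h.elem z hz
  have h3 := h.elem (y * z) (Q.mul_mem hy hz)
  have hy' : y⁻¹ = y := inv_eq_of_mul_eq_one_left h1
  have hz' : z⁻¹ = z := inv_eq_of_mul_eq_one_left h2
  have h4 : (y * z)⁻¹ = y * z := inv_eq_of_mul_eq_one_left h3
  rw [mul_inv_rev, hy', hz'] at h4
  exact h4.symm

/-- `Q` contains a nontrivial element. -/
theorem h34_exists_ne_one (h : Setting a p Q x) : ∃ t ∈ Q, t ≠ 1 := by
  have ha := h.two_le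
  have h4 : 2 ^ a ≥ 2 ^ 2 := Nat.pow_le_pow_right (by norm_num) ha
  have h1 : 1 < Nat.card Q := by rw [h.card_Q]; omega
  rw [Finite.one_lt_card_iff_nontrivial] at h1
  obtain ⟨t, ht⟩ := exists_ne (1 : Q)
  exact ⟨t, t.2, fun h1 => ht (Subtype.ext h1)⟩

theorem mem_of_centralizes (h : Setting a p Q x) (T : Tools a p Q x) (hP1 : ¬ P1ne p Q)
    {g : G} (hg : ∀ s ∈ Q, g * s = s * g) : g ∈ Q := by
  obtain ⟨t, ht, ht1⟩ := h34_exists_ne_one h
  obtain ⟨z, s, hz, _, hs, hgz⟩ := T.ct1 t ht ht1 g (hg t ht)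
  have hcomm := h34_Q_comm h
  have hzg : z = g * s⁻¹ := by rw [hgz]; group
  have hzQ : ∀ y ∈ Q, z * y = y * z := by
    intro y hy
    have h1 : s⁻¹ * y = y * s⁻¹ := by
      have := hcomm y hy s hs
      calc s⁻¹ * y = s⁻¹ * (y * s) * s⁻¹ := by group
        _ = s⁻¹ * (s * y) * s⁻¹ := by rw [this]
        _ = y * s⁻¹ := by group
    rw [hzg]
    calc g * s⁻¹ * y = g * (s⁻¹ * y) := by rw [mul_assoc]
      _ = g * (y * s⁻¹) := by rw [h1]
      _ = (g * y) * s⁻¹ := by rw [mul_assoc]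
      _ = (y * g) * s⁻¹ := by rw [hg y hy]
      _ = y * (g * s⁻¹) := by rw [mul_assoc]
  have hz1 : z = 1 := by
    by_contra hz1
    exact hP1 ⟨z, hz1, hz, hzQ⟩
  rw [hgz, hz1, one_mul]
  exact hs

end Cfsg.Agent.Helper34.S4017M
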