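import Mathlib
import Cfsg.Agent.Lib.Helper17.S4017Defs
import Cfsg.Agent.Lib.Helper17.S4017FDefs
import Cfsg.Agent.Lib.Helper17.SylowFixed
import Cfsg.Agent.Lib.Helper9.ConjFixed
import Cfsg.Agent.Lib.Helper4.CYCTools

/-!
S4017F (CT1) for helper17's lemma server (row S4017): in the boundary `Setting`, an element of `N(Q)`
commuting with an involution `t` of `Q` centralises `Q`.
-/

set_option autoImplicit false

namespace Cfsg.Agent.Helper34.S4017F

open Subgroup Cfsg.Agent.Helper17.S4017

universe u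

variable {G : Type u} [Group G] [Finite G] {p q : ℕ}

theorem ct_centralizes {a : ℕ} {Q : Subgroup G} {x : G} (h : Setting a p Q x) {t : G} (ht : t ∈ Q)
    (ht1 : t ≠ 1) (g : G) (hg : g ∈ normalizer (Q : Set G)) (hgt : g * t = t * g) :
    g ∈ centralizer (Q : Set G) := by
  have hsimple := h.simple
  have hp := h.prime
  have hfp : Fact p.Prime := ⟨hp⟩
  have hf2 : Fact (Nat.Prime 2) := ⟨Nat.prime_two⟩
  have ha := h.two_le
  have hG0 : Nat.card G ≠ 0 := Nat.card_pos.ne'
  -- N(Q) is a proper subgroup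
  have hNtop : normalizer (Q : Set G) ≠ ⊤ := by
    intro htop
    have hQn : Q.Normal := Subgroup.normalizer_eq_top_iff.mp htop
    rcases hQn.eq_bot_or_eq_top with hb | hb
    · have h1 := h.card_Q
      rw [hb, Subgroup.card_bot] at h1
      have : 2 ^ a ≥ 2 ^ 2 := Nat.pow_le_pow_right (by norm_num) ha
      omega
    · obtain ⟨r, hr, hrG, hr2, _⟩ := h.third
      have h1 := h.card_Q
      rw [hb, Subgroup.card_top] at h1
      rw [h1] at hrG
      exact hr2 ((Nat.prime_dvd_prime_iff_eq hr Nat.prime_two).mp (hr.dvd_of_dvd_pow hrG))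
  have hQle : Q ≤ normalizer (Q : Set G) := Subgroup.le_normalizer
  have h2N : 2 ∣ Nat.card (normalizer (Q : Set G)) := by
    have h1 : Nat.card Q ∣ Nat.card (normalizer (Q : Set G)) := Subgroup.card_dvd_of_le hQle
    rw [h.card_Q] at h1
    exact Dvd.dvd.trans (dvd_pow_self 2 (by omega)) h1
  have hprimes := h.star _ hNtop h2N
  -- Q as a Sylow 2-subgroup
  have hfac : (Nat.card G).factorization 2 = a := by
    have h1 : 2 ^ a ∣ Nat.card G := by
      rw [← h.card_Q]; exact Subgroup.card_subgroup_dvd_card Q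
    have h2 := h.sylow
    rw [Nat.prime_two.pow_dvd_iff_le_factorization hG0] at h1 h2
    omega
  let S : Sylow 2 G := Sylow.ofCard Q (by rw [hfac]; exact h.card_Q)
  have hSQ : (S : Subgroup G) = Q := rfl
  -- decomposition of g
  obtain ⟨u, v, hu, hv, hguv, ⟨k, hk⟩, hvodd⟩ := Cfsg.Agent.Helper4.CYC.h4_decomp 2 g
  have hzle : zpowers g ≤ normalizer (Q : Set G) := by
    rw [Subgroup.zpowers_le]; exact hg
  have huN : u ∈ normalizer (Q : Set G) := hzle hu
  have hvN : v ∈ normalizer (Q : Set G) := hzle hv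
  -- u lies in Q
  have huQ : u ∈ Q := by
    have hupg : IsPGroup 2 (zpowers u) := by
      have hou : orderOf u ∣ 2 ^ k := orderOf_dvd_of_pow_eq_one hk
      obtain ⟨j, _, hj⟩ := (Nat.dvd_prime_pow Nat.prime_two).mp hou
      exact IsPGroup.of_card (n := j) (by rw [Nat.card_zpowers, hj])
    have := Cfsg.Agent.Helper17.mem_sylow_of_mem_normalizer S u hupg (by rw [hSQ]; exact huN)
    rwa [hSQ] at this
  -- Q is abelian
  have hQab : ∀ y ∈ Q, ∀ z ∈ Q, y * z = z * y := by
    intro y hy z hz
    have h1 := h.elem y hy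
    have h2 := h.elem z hz
    have h3 := h.elem (y * z) (Q.mul_mem hy hz)
    have hy' : y⁻¹ = y := inv_eq_of_mul_eq_one_left h1
    have hz' : z⁻¹ = z := inv_eq_of_mul_eq_one_left h2
    have h4 : (y * z)⁻¹ = y * z := inv_eq_of_mul_eq_one_left h3
    rw [mul_inv_rev, hy', hz'] at h4
    exact h4.symm
  -- v is a p-element
  have hvord : ∃ j, orderOf v = p ^ j := by
    have hdvd : orderOf v ∣ Nat.card (normalizer (Q : Set G)) := by
      have h1 : orderOf (⟨v, hvN⟩ : normalizer (Q : Set G)) = orderOf v := Subgroup.orderOf_mk v hvN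
      rw [← h1]; exact orderOf_dvd_natCard _
    refine ⟨_, Nat.eq_prime_pow_of_unique_prime_dvd (orderOf_pos v).ne' ?_⟩
    intro d hd hdv
    rcases hprimes d hd (hdv.trans hdvd) with h1 | h1
    · exfalso
      rw [h1] at hdv
      have : (2 : ℕ) ∣ Nat.gcd (orderOf v) 2 := Nat.dvd_gcd hdv dvd_rfl
      rw [Nat.Coprime] at hvodd
      rw [hvodd] at this
      omega
    · exact h1
  obtain ⟨j, hj⟩ := hvord
  -- v commutes with t
  have hvt : v * t = t * v := by
    obtain ⟨n, rfl⟩ := Subgroup.mem_zpowers_iff.mp hv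
    exact ((show Commute g t from hgt).zpow_left n).eq
  -- v centralises Q
  have hvQ : ∀ y ∈ Q, v * y = y * v := by
    have hvconj : ∀ y ∈ Q, v * y * v⁻¹ ∈ Q := by
      intro y hy
      exact (Subgroup.mem_normalizer_iff.mp hvN y).mp hy
    have hpow : v ^ (p ^ j) = 1 := by rw [← hj]; exact pow_orderOf_eq_one v
    have hmod := Cfsg.Agent.Helper9.card_modEq_card_inf_centralizer Q v hvconj p j hpow
    have hcQ : Nat.card Q = p + 1 := by rw [h.card_Q, h.p_eq]
    have hdvd : Nat.card (Q ⊓ centralizer {v} : Subgroup G) ∣ Nat.card Q :=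
      Subgroup.card_dvd_of_le inf_le_left
    have htmem : t ∈ (Q ⊓ centralizer {v} : Subgroup G) := by
      refine Subgroup.mem_inf.mpr ⟨ht, ?_⟩
      rw [Subgroup.mem_centralizer_iff]
      intro z hz
      rw [Set.mem_singleton_iff] at hz
      rw [hz]; exact hvt
    have hc2 : 2 ≤ Nat.card (Q ⊓ centralizer {v} : Subgroup G) := by
      rw [Nat.succ_le_iff, Finite.one_lt_card_iff_nontrivial]
      exact ⟨⟨⟨1, Subgroup.one_mem _⟩, ⟨t, htmem⟩, fun he => ht1 (congrArg Subtype.val he).symm⟩⟩
    have hceq : Nat.card (Q ⊓ centralizer {v} : Subgroup G) = Nat.card Q := by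
      set c := Nat.card (Q ⊓ centralizer {v} : Subgroup G) with hc
      rw [hcQ] at hmod hdvd ⊢
      have hcle : c ≤ p + 1 := Nat.le_of_dvd (by omega) hdvd
      have hp2 : 2 ≤ p := hp.two_le
      -- c ≡ p + 1 ≡ 1 mod p
      have h1 : c % p = 1 := by
        have := hmod.symm
        unfold Nat.ModEq at this
        rw [this, Nat.add_mod_left, Nat.mod_eq_of_lt (by omega)]
      -- c = p * (c / p) + 1
      have h2 := Nat.div_add_mod c p
      rw [h1] at h2
      rcases Nat.eq_zero_or_pos (c / p) with h3 | h3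
      · rw [h3] at h2; omega
      · have : p * 1 ≤ p * (c / p) := Nat.mul_le_mul_left p h3
        omega
    have hle : (Q ⊓ centralizer {v} : Subgroup G) = Q :=
      Subgroup.eq_of_le_of_card_ge inf_le_left hceq.ge
    intro y hy
    have hy' : y ∈ (Q ⊓ centralizer {v} : Subgroup G) := by rw [hle]; exact hy
    have := (Subgroup.mem_centralizer_iff.mp (Subgroup.mem_inf.mp hy').2) v (Set.mem_singleton v)
    exact this
  -- conclusion
  rw [Subgroup.mem_centralizer_iff]
  intro y hy
  have hy' : y ∈ Q := hy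
  have h1 : u * y = y * u := hQab u huQ y hy'
  have h2 : v * y = y * v := hvQ y hy'
  rw [hguv]
  calc y * (u * v) = (y * u) * v := by rw [mul_assoc]
    _ = (u * y) * v := by rw [h1]
    _ = u * (y * v) := by rw [mul_assoc]
    _ = u * (v * y) := by rw [h2]
    _ = u * v * y := by rw [mul_assoc]

end Cfsg.Agent.Helper34.S4017F
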