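import Mathlib
import Cfsg.Agent.Lib.Helper17.S4017Defs
import Cfsg.Agent.Lib.Helper17.S4017FDefs

/-!
S4017F (QUOT) for helper17's lemma server (row S4017): the inductive hypotheses `Hyp p q G` pass to the
quotient by a normal `p`-subgroup, provided (*) holds in `G` and `p` still divides the order of the quotient.
-/

set_option autoImplicit false

namespace Cfsg.Agent.Helper34.S4017F

open Subgroup Cfsg.Agent.Helper17.S4017

universe u

variable {G : Type u} [Group G] [Finite G] {p q : ℕ}

/-- Order of the preimage of a subgroup of the quotient. -/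
theorem h34_card_comap_mk (N : Subgroup G) [N.Normal] (K' : Subgroup (G ⧸ N)) :
    Nat.card (K'.comap (QuotientGroup.mk' N)) = Nat.card K' * Nat.card N := by
  have hsurj : Function.Surjective (QuotientGroup.mk' N) := QuotientGroup.mk'_surjective N
  have hidx : (K'.comap (QuotientGroup.mk' N)).index = K'.index :=
    Subgroup.index_comap_of_surjective K' hsurj
  have h1 : Nat.card (K'.comap (QuotientGroup.mk' N)) * K'.index = Nat.card G := by
    rw [← hidx]; exact Subgroup.card_mul_index _
  have h2 : Nat.card K' * K'.index = Nat.card (G ⧸ N) := Subgroup.card_mul_index _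
  have h3 : Nat.card G = Nat.card (G ⧸ N) * Nat.card N :=
    Subgroup.card_eq_card_quotient_mul_card_subgroup N
  have hpos : 0 < K'.index := Nat.pos_of_ne_zero (Subgroup.index_ne_zero_of_finite)
  have : Nat.card (K'.comap (QuotientGroup.mk' N)) * K'.index =
      (Nat.card K' * Nat.card N) * K'.index := by
    rw [h1, h3, ← h2]; ring
  exact Nat.eq_of_mul_eq_mul_right hpos this

theorem hyp_quotient (h : Hyp p q G) (hstar : Star p q G) (N : Subgroup G) [N.Normal]
    (hN : IsPGroup p N) (hpN : p ∣ Nat.card (G ⧸ N)) : Hyp p q (G ⧸ N) := by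
  have hp := h.hp
  have hq := h.hq
  have hpq := h.hpq
  have : Fact p.Prime := ⟨hp⟩
  obtain ⟨k, hk⟩ := hN.exists_card_eq
  have hGc : Nat.card G = Nat.card (G ⧸ N) * p ^ k := by
    rw [← hk]; exact Subgroup.card_eq_card_quotient_mul_card_subgroup N
  have hcop : Nat.Coprime q (p ^ k) :=
    ((Nat.coprime_primes hq hp).mpr (Ne.symm hpq)).pow_right k
  have hqQ : q ∣ Nat.card (G ⧸ N) := by
    have := h.hqG
    rw [hGc] at this
    exact hcop.dvd_of_dvd_mul_right this
  have hfac : (Nat.card G).factorization q = (Nat.card (G ⧸ N)).factorization q := by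
    have hQ0 : Nat.card (G ⧸ N) ≠ 0 := Nat.card_pos.ne'
    have hpk0 : p ^ k ≠ 0 := pow_ne_zero _ hp.ne_zero
    rw [hGc, Nat.factorization_mul hQ0 hpk0, Finsupp.add_apply, Nat.factorization_pow,
      Finsupp.smul_apply, hp.factorization, Finsupp.single_apply, if_neg hpq]
    simp
  have hsurj : Function.Surjective (QuotientGroup.mk' N) := QuotientGroup.mk'_surjective N
  refine ⟨hp, hq, hpq, h.hp2, hpN, hqQ, ?_, ?_⟩
  · intro K' hK' hK'q hqK'
    by_contra hpK'
    set H := K'.comap (QuotientGroup.mk' N) with hH
    have hHcard : Nat.card H = Nat.card K' * Nat.card N := h34_card_comap_mk N K'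
    have hHne : H ≠ ⊤ := by
      intro htop
      apply hK'
      have : K'.comap (QuotientGroup.mk' N) = (⊤ : Subgroup (G ⧸ N)).comap (QuotientGroup.mk' N) := by
        rw [← hH, htop, Subgroup.comap_top]
      exact Subgroup.comap_injective hsurj this
    have hqH : q ∣ Nat.card H := by rw [hHcard]; exact Dvd.dvd.mul_right hqK' _
    have hall := hstar H hHne hqH
    apply hK'q
    have hK0 : Nat.card K' ≠ 0 := Nat.card_pos.ne'
    have hpow : Nat.card K' = q ^ (Nat.card K').primeFactorsList.length := by
      apply Nat.eq_prime_pow_of_unique_prime_dvd hK0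
      intro d hd hdK
      have hdH : d ∣ Nat.card H := by rw [hHcard]; exact Dvd.dvd.mul_right hdK _
      rcases hall d hd hdH with h1 | h1
      · exact absurd (h1 ▸ hdK) hpK'
      · exact h1
    exact IsPGroup.of_card hpow
  · rcases h.hlarge with h1 | ⟨h1, h2⟩
    · left; rw [← hfac]; exact h1
    · right
      refine ⟨by rw [← hfac]; exact h1, ?_⟩
      intro P' hP' g' hg' k' hk'
      have hker : IsPGroup p (QuotientGroup.mk' N).ker := by
        rw [QuotientGroup.ker_mk']; exact hN
      have hH : IsPGroup p (P'.comap (QuotientGroup.mk' N)) :=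
        hP'.comap_of_ker_isPGroup (QuotientGroup.mk' N) hker
      obtain ⟨g, rfl⟩ := hsurj g'
      obtain ⟨k0, rfl⟩ := hsurj k'
      have := h2 _ hH g (by simpa using hg') k0 (by simpa using hk')
      rw [← map_mul, ← map_mul, this]

end Cfsg.Agent.Helper34.S4017F
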