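import Mathlib
import Cfsg.Agent.Lib.Helper64.S4017Defs
import Cfsg.Agent.Lib.Helper3.S4017DDefs
import Cfsg.Agent.Lib.Helper17.S4017Defs

/-!
S4017M (INVC) for helper64's lemma server (row S4017): all involutions are conjugate to `t ∈ Q \ {1}`.
-/

set_option autoImplicit false

namespace Cfsg.Agent.Helper34.S4017M

open Cfsg.Agent.Helper64.S4017

variable {G : Type*} [Group G] [Finite G] {a p : ℕ} {Q : Subgroup G} {x : G}

theorem inv_conj (h : Setting a p Q x) {t : G} (ht : t ∈ Q) (ht1 : t ≠ 1) {u : G}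
    (hu : IsInv u) : ∃ g : G, g * t * g⁻¹ = u := by
  have hf2 : Fact (Nat.Prime 2) := ⟨Nat.prime_two⟩
  have hG0 : Nat.card G ≠ 0 := Nat.card_pos.ne'
  have hfac : (Nat.card G).factorization 2 = a := by
    have h1 : 2 ^ a ∣ Nat.card G := by
      rw [← h.card_Q]; exact Subgroup.card_subgroup_dvd_card Q
    have h2 := h.sylow
    rw [Nat.prime_two.pow_dvd_iff_le_factorization hG0] at h1 h2
    omega
  let S : Sylow 2 G := Sylow.ofCard Q (by rw [hfac]; exact h.card_Q)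
  have hSQ : (S : Subgroup G) = Q := rfl
  obtain ⟨hu1, hu2⟩ := hu
  have hupg : IsPGroup 2 (Subgroup.zpowers u) := by
    have hou : orderOf u ∣ 2 ^ 1 := orderOf_dvd_of_pow_eq_one (by rw [pow_one, pow_two]; exact hu2)
    obtain ⟨j, _, hj⟩ := (Nat.dvd_prime_pow Nat.prime_two).mp hou
    exact IsPGroup.of_card (n := j) (by rw [Nat.card_zpowers, hj])
  obtain ⟨S', hS'⟩ := hupg.exists_le_sylow
  have huS' : u ∈ (S' : Subgroup G) := hS' (Subgroup.mem_zpowers u)
  obtain ⟨g, hg⟩ := MulAction.exists_smul_eq G S' S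
  have hgu : g * u * g⁻¹ ∈ Q := by
    rw [← hSQ, ← hg, Sylow.coe_subgroup_smul]
    have := Subgroup.smul_mem_pointwise_smul u (MulAut.conj g) (S' : Subgroup G) huS'
    simpa [MulAut.smul_def] using this
  have hgu1 : g * u * g⁻¹ ≠ 1 := by
    intro h1
    apply hu1
    have : u = g⁻¹ * (g * u * g⁻¹) * g := by group
    rw [this, h1]; group
  obtain ⟨i, hi⟩ := h.x_trans t ht ht1 _ hgu hgu1
  refine ⟨g⁻¹ * x ^ i, ?_⟩
  calc g⁻¹ * x ^ i * t * (g⁻¹ * x ^ i)⁻¹ = g⁻¹ * (x ^ i * t * (x ^ i)⁻¹) * g := by group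
    _ = g⁻¹ * (g * u * g⁻¹) * g := by rw [hi]
    _ = u := by group

end Cfsg.Agent.Helper34.S4017M
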