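import Mathlib
import Cfsg.Agent.Lib.Helper64.S4017Defs
import Cfsg.Agent.Lib.Helper17.SylowFixed
import Cfsg.Agent.Lib.Helper9.ConjFixed
import Cfsg.Agent.Lib.Helper4.CYCTools

/-!
S4017M (M2) for helper64's lemma server (row S4017): `N(Q) ∩ C(t) ≤ C(Q)` in helper64's `Setting`
(port of S4017F (CT1), which is the same statement over helper17's `Setting`).
-/

set_option autoImplicit false

namespace Cfsg.Agent.Helper34.S4017M

open Subgroup Cfsg.Agent.Helper64.S4017

variable {G : Type*} [Group G] [Finite G] {a p : ℕ} {Q : Subgroup G} {x : G}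

/-- For a finite subgroup, `g Q g⁻¹ ⊆ Q` puts `g` in the normaliser. -/
theorem h34_mem_normalizer_of_conj_mem (Q : Subgroup G) (g : G) (hg : ∀ s ∈ Q, g * s * g⁻¹ ∈ Q) :
    g ∈ normalizer (Q : Set G) := by
  rw [Subgroup.mem_normalizer_iff]
  intro y
  refine ⟨hg y, fun hy => ?_⟩
  let f : Q → Q := fun s => ⟨g * s * g⁻¹, hg s s.2⟩
  have hinj : Function.Injective f := by
    intro s1 s2 h12
    have : g * s1 * g⁻¹ = g * s2 * g⁻¹ := congrArg Subtype.val h12
    apply Subtype.ext
    simpa using this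
  have hsurj : Function.Surjective f := Finite.surjective_of_injective hinj
  obtain ⟨s, hs⟩ := hsurj ⟨g * y * g⁻¹, hy⟩
  have : g * s * g⁻¹ = g * y * g⁻¹ := congrArg Subtype.val hs
  have hsy : (s : G) = y := by simpa using this
  rw [← hsy]; exact s.2

/-- Core of (M2)/(CT1): purely local version. -/
theorem h34_m2_core (hp : p.Prime) (hpa : p + 1 = 2 ^ a) (hQ : Nat.card Q = 2 ^ a)
    (hsyl : ¬ 2 ^ (a + 1) ∣ Nat.card G) (helem : ∀ g ∈ Q, g * g = 1)
    (hprimes : ∀ r : ℕ, r.Prime → r ∣ Nat.card (normalizer (Q : Set G)) → r = 2 ∨ r = p)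
    {t : G} (ht : t ∈ Q) (ht1 : t ≠ 1) (g : G) (hg : g ∈ normalizer (Q : Set G))
    (hgt : g * t = t * g) : ∀ s ∈ Q, g * s = s * g := by
  have hfp : Fact p.Prime := ⟨hp⟩
  have hf2 : Fact (Nat.Prime 2) := ⟨Nat.prime_two⟩
  have hG0 : Nat.card G ≠ 0 := Nat.card_pos.ne'
  -- Q as a Sylow 2-subgroup
  have hfac : (Nat.card G).factorization 2 = a := by
    have h1 : 2 ^ a ∣ Nat.card G := by
      rw [← hQ]; exact Subgroup.card_subgroup_dvd_card Q
    have h2 := hsyl
    rw [Nat.prime_two.pow_dvd_iff_le_factorization hG0] at h1 h2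
    omega
  let S : Sylow 2 G := Sylow.ofCard Q (by rw [hfac]; exact hQ)
  have hSQ : (S : Subgroup G) = Q := rfl
  -- decomposition of g
  obtain ⟨u, v, hu, hv, hguv, ⟨k, hk⟩, hvodd⟩ := Cfsg.Agent.Helper4.CYC.h4_decomp 2 g
  have hzle : zpowers g ≤ normalizer (Q : Set G) := by
    rw [Subgroup.zpowers_le]; exact hg
  have huN : u ∈ normalizer (Q : Set G) := hzle hu
  have hvN : v ∈ normalizer (Q : Set G) := hzle hv
  -- u lies in Q
  have huQ : u ∈ Q := by
    have hupg : IsPGroup 2 (zpowers u) := by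
      have hou : orderOf u ∣ 2 ^ k := orderOf_dvd_of_pow_eq_one hk
      obtain ⟨j, _, hj⟩ := (Nat.dvd_prime_pow Nat.prime_two).mp hou
      exact IsPGroup.of_card (n := j) (by rw [Nat.card_zpowers, hj])
    have := Cfsg.Agent.Helper17.mem_sylow_of_mem_normalizer S u hupg (by rw [hSQ]; exact huN)
    rwa [hSQ] at this
  -- Q is abelian
  have hQab : ∀ y ∈ Q, ∀ z ∈ Q, y * z = z * y := by
    intro y hy z hz
    have h1 := helem y hy
    have h2 := helem z hz
    have h3 := helem (y * z) (Q.mul_mem hy hz)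
    have hy' : y⁻¹ = y := inv_eq_of_mul_eq_one_left h1
    have hz' : z⁻¹ = z := inv_eq_of_mul_eq_one_left h2
    have h4 : (y * z)⁻¹ = y * z := inv_eq_of_mul_eq_one_left h3
    rw [mul_inv_rev, hy', hz'] at h4
    exact h4.symm
  -- v is a p-element
  have hvord : ∃ j, orderOf v = p ^ j := by
    have hdvd : orderOf v ∣ Nat.card (normalizer (Q : Set G)) := by
      have h1 : orderOf (⟨v, hvN⟩ : normalizer (Q : Set G)) = orderOf v := Subgroup.orderOf_mk v hvN
      rw [← h1]; exact orderOf_dvd_natCard _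
    refine ⟨_, Nat.eq_prime_pow_of_unique_prime_dvd (orderOf_pos v).ne' ?_⟩
    intro d hd hdv
    rcases hprimes d hd (hdv.trans hdvd) with h1 | h1
    · exfalso
      rw [h1] at hdv
      have : (2 : ℕ) ∣ Nat.gcd (orderOf v) 2 := Nat.dvd_gcd hdv dvd_rfl
      rw [Nat.Coprime] at hvodd
      rw [hvodd] at this
      omega
    · exact h1
  obtain ⟨j, hj⟩ := hvord
  -- v commutes with t
  have hvt : v * t = t * v := by
    obtain ⟨n, rfl⟩ := Subgroup.mem_zpowers_iff.mp hv
    exact ((show Commute g t from hgt).zpow_left n).eq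
  -- v centralises Q
  have hvQ : ∀ y ∈ Q, v * y = y * v := by
    have hvconj : ∀ y ∈ Q, v * y * v⁻¹ ∈ Q := by
      intro y hy
      exact (Subgroup.mem_normalizer_iff.mp hvN y).mp hy
    have hpow : v ^ (p ^ j) = 1 := by rw [← hj]; exact pow_orderOf_eq_one v
    have hmod := Cfsg.Agent.Helper9.card_modEq_card_inf_centralizer Q v hvconj p j hpow
    have hcQ : Nat.card Q = p + 1 := by rw [hQ, hpa]
    have hdvd : Nat.card (Q ⊓ centralizer {v} : Subgroup G) ∣ Nat.card Q :=
      Subgroup.card_dvd_of_le inf_le_left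
    have htmem : t ∈ (Q ⊓ centralizer {v} : Subgroup G) := by
      refine Subgroup.mem_inf.mpr ⟨ht, ?_⟩
      rw [Subgroup.mem_centralizer_iff]
      intro z hz
      rw [Set.mem_singleton_iff] at hz
      rw [hz]; exact hvt
    have hc2 : 2 ≤ Nat.card (Q ⊓ centralizer {v} : Subgroup G) := by
      rw [Nat.succ_le_iff, Finite.one_lt_card_iff_nontrivial]
      exact ⟨⟨⟨1, Subgroup.one_mem _⟩, ⟨t, htmem⟩, fun he => ht1 (congrArg Subtype.val he).symm⟩⟩
    have hceq : Nat.card (Q ⊓ centralizer {v} : Subgroup G) = Nat.card Q := by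
      set c := Nat.card (Q ⊓ centralizer {v} : Subgroup G) with hc
      rw [hcQ] at hmod hdvd ⊢
      have hcle : c ≤ p + 1 := Nat.le_of_dvd (by omega) hdvd
      have hp2 : 2 ≤ p := hp.two_le
      have h1 : c % p = 1 := by
        have := hmod.symm
        unfold Nat.ModEq at this
        rw [this, Nat.add_mod_left, Nat.mod_eq_of_lt (by omega)]
      have h2 := Nat.div_add_mod c p
      rw [h1] at h2
      rcases Nat.eq_zero_or_pos (c / p) with h3 | h3
      · rw [h3] at h2; omega
      · have : p * 1 ≤ p * (c / p) := Nat.mul_le_mul_left p h3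
        omega
    have hle : (Q ⊓ centralizer {v} : Subgroup G) = Q :=
      Subgroup.eq_of_le_of_card_ge inf_le_left hceq.ge
    intro y hy
    have hy' : y ∈ (Q ⊓ centralizer {v} : Subgroup G) := by rw [hle]; exact hy
    have := (Subgroup.mem_centralizer_iff.mp (Subgroup.mem_inf.mp hy').2) v (Set.mem_singleton v)
    exact this
  -- conclusion
  intro y hy
  have h1 : u * y = y * u := hQab u huQ y hy
  have h2 : v * y = y * v := hvQ y hy
  rw [hguv]
  calc u * v * y = u * (v * y) := by rw [mul_assoc]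
    _ = u * (y * v) := by rw [h2]
    _ = (u * y) * v := by rw [mul_assoc]
    _ = (y * u) * v := by rw [h1]
    _ = y * (u * v) := by rw [mul_assoc]

/-- `N(Q)` is a proper subgroup in helper64's setting. -/
theorem h34_normalizer_Q_ne_top (h : Setting a p Q x) : normalizer (Q : Set G) ≠ ⊤ := by
  have hsimple := h.simple
  have ha := h.two_le
  have hp := h.prime
  have h4 : 2 ^ a ≥ 2 ^ 2 := Nat.pow_le_pow_right (by norm_num) ha
  intro htop
  have hQn : Q.Normal := Subgroup.normalizer_eq_top_iff.mp htop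
  rcases hQn.eq_bot_or_eq_top with hb | hb
  · have h1 := h.card_Q
    rw [hb, Subgroup.card_bot] at h1
    omega
  · -- G = Q: x is a p-element of exponent 2, so x = 1, so Q \ {1} has at most one element
    have hxQ : x ∈ Q := by rw [hb]; trivial
    have hx2 : x * x = 1 := h.elem x hxQ
    obtain ⟨j, hj⟩ := h.x_pel
    have hx1 : x = 1 := by
      have h2 : orderOf x ∣ 2 := orderOf_dvd_of_pow_eq_one (by rw [pow_two]; exact hx2)
      rw [hj] at h2
      have hpodd : p ≠ 2 := by
        intro hp2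
        have := h.p_eq
        rw [hp2] at this
        omega
      rcases Nat.eq_zero_or_pos j with hj0 | hj0
      · rw [hj0, pow_zero] at hj
        exact orderOf_eq_one_iff.mp hj
      · exfalso
        have : p ∣ 2 := Dvd.dvd.trans (dvd_pow_self p hj0.ne') h2
        exact hpodd ((Nat.prime_dvd_prime_iff_eq hp Nat.prime_two).mp this)
    -- at most two elements
    have hkey : ∀ y ∈ Q, y ≠ 1 → ∀ z ∈ Q, z ≠ 1 → y = z := by
      intro y hy hy1 z hz hz1
      obtain ⟨i, hi⟩ := h.x_trans y hy hy1 z hz hz1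
      rw [hx1] at hi
      simpa using hi
    have hfin : Fintype Q := Fintype.ofFinite Q
    have h3 : 2 < Fintype.card Q := by
      rw [← Nat.card_eq_fintype_card, h.card_Q]; omega
    obtain ⟨a1, b1, c1, hab, hac, hbc⟩ := Fintype.two_lt_card_iff.mp h3
    by_cases ha1 : (a1 : G) = 1
    · have hb1 : (b1 : G) ≠ 1 := fun hb1 => hab (Subtype.ext (ha1.trans hb1.symm))
      have hc1 : (c1 : G) ≠ 1 := fun hc1 => hac (Subtype.ext (ha1.trans hc1.symm))
      exact hbc (Subtype.ext (hkey _ b1.2 hb1 _ c1.2 hc1))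
    · by_cases hb1 : (b1 : G) = 1
      · have hc1 : (c1 : G) ≠ 1 := fun hc1 => hbc (Subtype.ext (hb1.trans hc1.symm))
        exact hac (Subtype.ext (hkey _ a1.2 ha1 _ c1.2 hc1))
      · exact hab (Subtype.ext (hkey _ a1.2 ha1 _ b1.2 hb1))

theorem m2 (h : Setting a p Q x) {t : G} (ht : t ∈ Q) (ht1 : t ≠ 1) {g : G}
    (hg : ∀ s ∈ Q, g * s * g⁻¹ ∈ Q) (hgt : g * t = t * g) : ∀ s ∈ Q, g * s = s * g := by
  have hNtop := h34_normalizer_Q_ne_top h
  have hQle : Q ≤ normalizer (Q : Set G) := Subgroup.le_normalizer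
  have h2N : 2 ∣ Nat.card (normalizer (Q : Set G)) := by
    have h1 : Nat.card Q ∣ Nat.card (normalizer (Q : Set G)) := Subgroup.card_dvd_of_le hQle
    rw [h.card_Q] at h1
    have ha := h.two_le
    exact Dvd.dvd.trans (dvd_pow_self 2 (by omega)) h1
  exact h34_m2_core h.prime h.p_eq h.card_Q h.sylow h.elem (h.star _ hNtop h2N) ht ht1 g
    (h34_mem_normalizer_of_conj_mem Q g hg) hgt

end Cfsg.Agent.Helper34.S4017M
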