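import Mathlib
import Cfsg.Agent.Lib.Helper87.SLNC0
import Cfsg.Agent.Lib.Helper78.U2Rbcd

/-!
# SLNC piece C6 (helper34, for helper87's sub-server of helper62's SLN server, S2332):
the weight spaces are independent, so the dimensions of those inside `Z` add up to at most `dim Z`.
(Same argument as helper33's `SLNC_INDX`, with the projectors `eOp` of the U2 pieces.)
-/

set_option autoImplicit false

namespace Cfsg.Agent.Helper34.SLN

open Matrix Module Cfsg.Agent.Helper93.U2 Cfsg.Agent.Helper62.SLN Cfsg.Agent.Helper87.SLN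

section GEN

variable {G : Type*} [Group G] {𝓐 : Type*} [AddCommGroup 𝓐] [Fintype 𝓐]
  {V : Type*} [AddCommGroup V] [Module ℂ V] [FiniteDimensional ℂ V]
  (pr : Pairing 𝓐) (el : 𝓐 → G) (ρ : Representation ℂ G V)

/-- piece C6 : independence of the weight spaces (U2-Rd `eOp_self`, `eOp_other`):
the map `(v_a)_{a ∈ S} ↦ ∑ v_a` into `Z` is injective, as `eOp a (∑ v_a') = v_a`. -/
theorem sum_finrank_wsp_le (S : Finset 𝓐) (Z : Submodule ℂ V)
    (h : ∀ a ∈ S, wsp pr el ρ a ≤ Z) :
    ∑ a ∈ S, finrank ℂ (wsp pr el ρ a) ≤ finrank ℂ Z := by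
  classical
  let Φ : (∀ a : S, ↥(wsp pr el ρ (a : 𝓐))) →ₗ[ℂ] Z :=
    ∑ a : S, (Submodule.inclusion (h (a : 𝓐) a.2)).comp (LinearMap.proj a)
  have hΦ : ∀ f : (∀ a : S, ↥(wsp pr el ρ (a : 𝓐))),
      ((Φ f : Z) : V) = ∑ a : S, ((f a : V)) := by
    intro f
    simp only [Φ, LinearMap.sum_apply, LinearMap.comp_apply, LinearMap.proj_apply,
      Submodule.coe_sum, Submodule.coe_inclusion]
  have hinj : Function.Injective Φ := by
    rw [injective_iff_map_eq_zero]
    intro f hf
    funext a'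
    have h0 : ((Φ f : Z) : V) = 0 := by rw [hf]; rfl
    rw [hΦ] at h0
    have h1 := congrArg (eOp pr el ρ (a' : 𝓐)) h0
    rw [map_sum, map_zero] at h1
    rw [Finset.sum_eq_single a'] at h1
    · rw [Cfsg.Agent.Helper78.U2.eOp_self pr el ρ (a' : 𝓐) _ (f a').2] at h1
      apply Subtype.ext
      rw [h1]
      rfl
    · intro b _ hb
      apply Cfsg.Agent.Helper78.U2.eOp_other pr el ρ (a' : 𝓐) (b : 𝓐) _ _ (f b).2
      intro h
      exact hb (Subtype.ext h.symm)
    · intro h
      exact absurd (Finset.mem_univ _) h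
  have h := LinearMap.finrank_le_finrank_of_injective hinj
  rw [Module.finrank_pi_fintype] at h
  rw [← Finset.sum_coe_sort S (fun a => finrank ℂ (wsp pr el ρ a))]
  exact h

end GEN

end Cfsg.Agent.Helper34.SLN
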