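import Mathlib
import Cfsg.Agent.Lib.Helper87.SLNC0

/-!
# SLNC piece C7 (helper34, for helper87's sub-server of helper62's SLN server, S2332):
counting the nonzero weights vanishing at one or two coordinates.
-/

set_option autoImplicit false

namespace Cfsg.Agent.Helper34.SLN

open Matrix Module Cfsg.Agent.Helper93.U2 Cfsg.Agent.Helper62.SLN Cfsg.Agent.Helper87.SLN

section CNT

variable {F : Type*} [Field F] [Fintype F] [DecidableEq F] {κ : Type} [Fintype κ] [DecidableEq κ]

/-- the functions vanishing on a set `s` of coordinates -/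
theorem h34_card_vanish (s : Finset κ) :
    (Finset.univ.filter (fun w : κ → F => ∀ i ∈ s, w i = 0)).card =
      Fintype.card F ^ (Fintype.card κ - s.card) := by
  classical
  have hset : (Finset.univ.filter (fun w : κ → F => ∀ i ∈ s, w i = 0)) =
      Fintype.piFinset (fun i : κ => if i ∈ s then ({0} : Finset F) else Finset.univ) := by
    ext w
    simp only [Finset.mem_filter, Finset.mem_univ, true_and, Fintype.mem_piFinset]
    constructor
    · intro h i
      by_cases hi : i ∈ s
      · rw [if_pos hi, Finset.mem_singleton]; exact h i hi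
      · rw [if_neg hi]; exact Finset.mem_univ _
    · intro h i hi
      have := h i
      rw [if_pos hi, Finset.mem_singleton] at this
      exact this
  rw [hset, Fintype.card_piFinset]
  have h1 : ∀ i : κ, (if i ∈ s then ({0} : Finset F) else Finset.univ).card =
      if i ∈ s then 1 else Fintype.card F := by
    intro i
    by_cases hi : i ∈ s
    · rw [if_pos hi, if_pos hi, Finset.card_singleton]
    · rw [if_neg hi, if_neg hi, Finset.card_univ]
  rw [Finset.prod_congr rfl (fun i _ => h1 i), Finset.prod_ite, Finset.prod_const_one, one_mul,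
    Finset.prod_const]
  congr 1
  rw [Finset.filter_not, Finset.card_sdiff_of_subset (Finset.filter_subset _ _), Finset.card_univ]
  congr 1
  congr 1
  ext i
  simp

/-- removing the zero weight -/
theorem h34_card_vanish_ne (s : Finset κ) :
    (Finset.univ.filter (fun w : κ → F => (∀ i ∈ s, w i = 0) ∧ w ≠ 0)).card =
      Fintype.card F ^ (Fintype.card κ - s.card) - 1 := by
  classical
  have hset : (Finset.univ.filter (fun w : κ → F => (∀ i ∈ s, w i = 0) ∧ w ≠ 0)) =
      (Finset.univ.filter (fun w : κ → F => ∀ i ∈ s, w i = 0)).erase 0 := by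
    ext w
    simp only [Finset.mem_filter, Finset.mem_univ, true_and, Finset.mem_erase]
    tauto
  rw [hset, Finset.card_erase_of_mem, h34_card_vanish]
  simp

/-- piece C7 (1) -/
theorem card_W1 (j : κ) :
    (Finset.univ.filter (fun w : κ → F => w j = 0 ∧ w ≠ 0)).card =
      Fintype.card F ^ (Fintype.card κ - 1) - 1 := by
  classical
  have h := h34_card_vanish_ne (F := F) ({j} : Finset κ)
  rw [Finset.card_singleton] at h
  rw [← h]
  congr 1
  ext w
  simp

/-- piece C7 (2) -/
theorem card_W2 (j jn : κ) (hne : j ≠ jn) :
    (Finset.univ.filter (fun w : κ → F => w j = 0 ∧ w jn = 0 ∧ w ≠ 0)).card =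
      Fintype.card F ^ (Fintype.card κ - 2) - 1 := by
  classical
  have h := h34_card_vanish_ne (F := F) ({j, jn} : Finset κ)
  rw [Finset.card_pair hne] at h
  rw [← h]
  congr 1
  ext w
  simp [and_assoc]

end CNT

end Cfsg.Agent.Helper34.SLN
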