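import Mathlib
import Cfsg.Agent.Lib.Helper62.SUO0

/-!
# SUO pieces X1 and X3 (helper34, for helper62's server, S2282): the field block.
X1: an additive subgroup containing `c`, `c - c^q` and stable under a generator of the fixed field is `F`.
X3: the parameters for `q` even.
-/

set_option autoImplicit false
set_option linter.unusedSectionVars false
set_option linter.unusedVariables false

namespace Cfsg.Agent.Helper34.SUO

open Matrix Cfsg Cfsg.Agent.Helper13 Cfsg.Agent.Helper87.PsuA Cfsg.Agent.Helper62.SUO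

section X
variable {F : Type*} [Field F] [Fintype F] {q : ℕ} (hF : Fintype.card F = q ^ 2)

include hF

/-- (X1) if the powers of `ρ` exhaust the nonzero elements of the fixed field, `S` is stable under
the fixed field; `x = β c + α κ` with `β = (x + x^q)/(c + c^q)`, `α = (x - β c)/κ` both fixed -/
theorem gen2_of_eta (ρ c : F) (hρ : ∀ x : F, x ≠ 0 → x ^ q = x → ∃ i : ℕ, x = ρ ^ i)
    (hT : c + c ^ q ≠ 0) (hκ : c - c ^ q ≠ 0) : Gen2 c (c - c ^ q) ρ := by
  intro S hc hk hst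
  -- stable under powers of `ρ`
  have hpow : ∀ (i : ℕ) (a : F), a ∈ S → ρ ^ i * a ∈ S := by
    intro i
    induction i with
    | zero => intro a ha; rw [pow_zero, one_mul]; exact ha
    | succ i ih =>
      intro a ha
      rw [pow_succ', mul_assoc]
      exact hst _ (ih a ha)
  -- stable under the fixed field
  have hfix : ∀ β : F, β ^ q = β → ∀ a ∈ S, β * a ∈ S := by
    intro β hβ a ha
    by_cases h0 : β = 0
    · rw [h0, zero_mul]; exact S.zero_mem
    · obtain ⟨i, hi⟩ := hρ β h0 hβ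
      rw [hi]; exact hpow i a ha
  rw [eq_top_iff]
  intro x _
  have hTq : (c + c ^ q) ^ q = c + c ^ q := by
    rw [Cfsg.Agent.Helper13.frob_add hF, Cfsg.Agent.Helper13.frob_frob hF, add_comm]
  have hκq : (c - c ^ q) ^ q = -(c - c ^ q) := by
    rw [frob_sub hF, Cfsg.Agent.Helper13.frob_frob hF]; ring
  have hxq : (x + x ^ q) ^ q = x + x ^ q := by
    rw [Cfsg.Agent.Helper13.frob_add hF, Cfsg.Agent.Helper13.frob_frob hF, add_comm]
  -- `β`
  have hβq : ((x + x ^ q) / (c + c ^ q)) ^ q = (x + x ^ q) / (c + c ^ q) := by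
    rw [div_pow, hxq, hTq]
  have hβT : (x + x ^ q) / (c + c ^ q) * (c + c ^ q) = x + x ^ q := div_mul_cancel₀ _ hT
  -- `α`
  have hαq : ((x - (x + x ^ q) / (c + c ^ q) * c) / (c - c ^ q)) ^ q =
      (x - (x + x ^ q) / (c + c ^ q) * c) / (c - c ^ q) := by
    rw [div_pow, hκq, frob_sub hF, mul_pow, hβq, div_neg, ← neg_div]
    congr 1
    -- `-(x^q - β c^q) = x - β c`
    have : (x + x ^ q) / (c + c ^ q) * c + (x + x ^ q) / (c + c ^ q) * c ^ q = x + x ^ q := by
      rw [← mul_add]; exact hβT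
    linear_combination this
  have hακ : (x - (x + x ^ q) / (c + c ^ q) * c) / (c - c ^ q) * (c - c ^ q) =
      x - (x + x ^ q) / (c + c ^ q) * c := div_mul_cancel₀ _ hκ
  have hx : x = (x + x ^ q) / (c + c ^ q) * c +
      (x - (x + x ^ q) / (c + c ^ q) * c) / (c - c ^ q) * (c - c ^ q) := by
    rw [hακ]; ring
  rw [hx]
  exact S.add_mem (hfix _ hβq c hc) (hfix _ hαq _ hk)

/-- characteristic two -/
theorem h34_two_eq_zero (hq : Even q) : (2 : F) = 0 := by
  obtain ⟨p, hchar⟩ := CharP.exists F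
  have hp : p.Prime := by
    rcases CharP.char_is_prime_or_zero F p with h | h
    · exact h
    · exfalso
      subst h
      have := CharP.charP_to_charZero F
      exact not_finite F
  have : Fact p.Prime := ⟨hp⟩
  obtain ⟨k, -, hk⟩ := FiniteField.card F p
  rw [hF] at hk
  have h2 : 2 ∣ p ^ (k : ℕ) := by
    rw [← hk]
    exact Dvd.dvd.pow hq.two_dvd two_ne_zero
  have h2p : 2 ∣ p := Nat.Prime.dvd_of_dvd_pow Nat.prime_two h2
  have hp2 : 2 = p := (Nat.prime_dvd_prime_iff_eq Nat.prime_two hp).1 h2p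
  subst hp2
  exact_mod_cast CharP.cast_eq_zero F 2

/-- (X3) `q` even: `t = 1`, `a + a^q = 1`, `κ` fixed with `κ^2 = ζ^(q+1) / (a * a^q)`,
`c + c^q = κ` -/
theorem exists_params_even (hq : Even q) :
    ∃ t a c : F, t ≠ 0 ∧ a + a ^ q + t * t ^ q = 0 ∧ a ≠ 0 ∧ c - c ^ q ≠ 0 ∧
      Gen2 c (c - c ^ q) ((c - c ^ q) ^ 2 * (a * a ^ q)) := by
  have h2 : (2 : F) = 0 := h34_two_eq_zero hF hq
  have hqpos : 0 < q := q_pos hF
  have hadd : ∀ z : F, z + z = 0 := by
    intro z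
    have : z + z = 2 * z := by ring
    rw [this, h2, zero_mul]
  have hsub : ∀ y z : F, y - z = y + z := by
    intro y z
    have := hadd z
    linear_combination -this
  -- a generator of `Fˣ`
  obtain ⟨g, hg⟩ := IsCyclic.exists_monoid_generator (α := Fˣ)
  have hgen : ∀ s : F, s ≠ 0 → ∃ j : ℕ, s = (g : F) ^ j := by
    intro s hs
    obtain ⟨j, hj⟩ := (Submonoid.mem_powers_iff _ _).1 (hg (Units.mk0 s hs))
    refine ⟨j, ?_⟩
    have := congrArg (fun u : Fˣ => (u : F)) hj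
    simpa using this.symm
  -- `ρ = ζ^(q+1)` generates the fixed field
  have hρgen : ∀ x : F, x ≠ 0 → x ^ q = x → ∃ i : ℕ, x = ((g : F) ^ (q + 1)) ^ i := by
    intro x hx hxq
    obtain ⟨s, hs⟩ := Cfsg.Agent.Helper87.PsuB0.exists_norm hF x hxq
    have hs0 : s ≠ 0 := by
      intro h0
      rw [h0, zero_mul] at hs
      exact hx hs.symm
    obtain ⟨j, hj⟩ := hgen s hs0
    refine ⟨j, ?_⟩
    rw [← hs, hj, ← pow_mul, ← pow_mul, ← pow_add]
    congr 1
    ring
  have hρq : ((g : F) ^ (q + 1)) ^ q = (g : F) ^ (q + 1) := by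
    rw [← pow_mul, add_mul, one_mul, pow_add, pow_mul, Cfsg.Agent.Helper13.frob_frob hF,
      pow_succ, mul_comm]
  have hρ0 : (g : F) ^ (q + 1) ≠ 0 := pow_ne_zero _ g.ne_zero
  -- `a`
  obtain ⟨a, ha⟩ := Cfsg.Agent.Helper87.PsuB0.exists_trace hF (1 : F) (one_pow q)
  have ha0 : a ≠ 0 := by
    intro h0
    rw [h0, zero_pow hqpos.ne', add_zero] at ha
    exact zero_ne_one ha
  have hNq : (a * a ^ q) ^ q = a * a ^ q := by
    rw [mul_pow, Cfsg.Agent.Helper13.frob_frob hF, mul_comm]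
  have hN0 : a * a ^ q ≠ 0 := mul_ne_zero ha0 (pow_ne_zero _ ha0)
  -- `y = ρ / N` and its square root `κ`
  have hyq : ((g : F) ^ (q + 1) / (a * a ^ q)) ^ q = (g : F) ^ (q + 1) / (a * a ^ q) := by
    rw [div_pow, hρq, hNq]
  have hy0 : (g : F) ^ (q + 1) / (a * a ^ q) ≠ 0 := div_ne_zero hρ0 hN0
  obtain ⟨m, hm⟩ := hq
  have hcardpow : ∀ z : F, z ^ (q ^ 2) = z := by
    intro z; rw [← hF]; exact FiniteField.pow_card z
  have hκsq : (((g : F) ^ (q + 1) / (a * a ^ q)) ^ (m * q)) ^ 2 =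
      (g : F) ^ (q + 1) / (a * a ^ q) := by
    rw [← pow_mul]
    have : m * q * 2 = q ^ 2 := by rw [hm]; ring
    rw [this, hcardpow]
  have hκq : (((g : F) ^ (q + 1) / (a * a ^ q)) ^ (m * q)) ^ q =
      ((g : F) ^ (q + 1) / (a * a ^ q)) ^ (m * q) := by
    rw [← pow_mul, mul_comm (m * q) q, pow_mul, hyq]
  have hκ0 : ((g : F) ^ (q + 1) / (a * a ^ q)) ^ (m * q) ≠ 0 := pow_ne_zero _ hy0
  -- `c`
  obtain ⟨c, hc⟩ := Cfsg.Agent.Helper87.PsuB0.exists_trace hF _ hκq
  have hcsub : c - c ^ q = ((g : F) ^ (q + 1) / (a * a ^ q)) ^ (m * q) := by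
    rw [hsub, hc]
  refine ⟨1, a, c, one_ne_zero, ?_, ha0, ?_, ?_⟩
  · rw [one_pow, mul_one, ha]; exact hadd 1
  · rw [hcsub]; exact hκ0
  · have hρeq : (c - c ^ q) ^ 2 * (a * a ^ q) = (g : F) ^ (q + 1) := by
      rw [hcsub, hκsq, div_mul_cancel₀ _ hN0]
    rw [hρeq]
    apply gen2_of_eta hF _ c hρgen
    · rw [hc]; exact hκ0
    · rw [hcsub]; exact hκ0

end X

end Cfsg.Agent.Helper34.SUO
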