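import Cfsg.Agent.Lib.Helper39.Stb3Defs

/-!
# STB3 (EX): every `w` factors as `a * d * b`, `a ∈ W_J`, `b ∈ W_K`, `d` bi-minimal
(helper39's lemma server for S2311).
-/

set_option autoImplicit false
set_option linter.unusedSectionVars false

namespace Cfsg.Agent.Helper34.Stb3

open Cfsg Cfsg.Agent.Helper6 Cfsg.Agent.Helper6.Weyl Cfsg.Agent.Helper59.Poincare Cfsg.Agent.Helper39.Stb Matrix

section Weyl

variable {n : ℕ} (D : VDatum n)
variable (J K : Fin n → Prop) [DecidablePred J] [DecidablePred K]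

/-- the length of the inverse is at most the length -/
theorem h34_nJ_inv_le {w : (Mat n)ˣ} (hw : w ∈ D.Wf) :
    D.nJ VDatum.allJ w⁻¹ ≤ D.nJ VDatum.allJ w := by
  obtain ⟨L, hL, hwL, hlen⟩ := D.exists_word_length_eq_nJ VDatum.allJ hw
  have h1 : D.wpM L.reverse = w⁻¹ := by rw [D.wpM_reverse, hwL]
  have h2 := D.nJ_wpM_le VDatum.allJ (L := L.reverse) (fun i _ => trivial)
  rw [h1, List.length_reverse, hlen] at h2
  exact h2

/-- the length of the inverse is the length -/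
theorem h34_nJ_inv {w : (Mat n)ˣ} (hw : w ∈ D.Wf) :
    D.nJ VDatum.allJ w⁻¹ = D.nJ VDatum.allJ w := by
  apply le_antisymm (h34_nJ_inv_le D hw)
  have := h34_nJ_inv_le D ((D.W VDatum.allJ).inv_mem hw)
  rwa [inv_inv] at this

theorem h34_exists_biMin_aux : ∀ (k : ℕ) (w : (Mat n)ˣ), D.nJ VDatum.allJ w = k → w ∈ D.Wf →
    ∃ a ∈ D.W J, ∃ d ∈ D.Wf, ∃ b ∈ D.W K, w = a * d * b ∧ IsBiMin D J K d := by
  intro k
  induction k using Nat.strong_induction_on with
  | _ k ih =>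
    intro w hk hw
    have hwi : w⁻¹ ∈ D.Wf := (D.W VDatum.allJ).inv_mem hw
    by_cases hl : ∀ j, J j → w⁻¹ • (Pi.single j 1 : Vec n) ∈ D.posJ VDatum.allJ
    · by_cases hr : ∀ j, K j → w • (Pi.single j 1 : Vec n) ∈ D.posJ VDatum.allJ
      · exact ⟨1, (D.W J).one_mem, w, hw, 1, (D.W K).one_mem, by simp, hl, hr⟩
      · obtain ⟨j, hj0⟩ := not_forall.1 hr
        obtain ⟨hj, hneg⟩ := Classical.not_imp.1 hj0
        have hj' : VDatum.allJ j := trivial
        have hneg' : -(w • (Pi.single j 1 : Vec n)) ∈ D.posJ VDatum.allJ := by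
          rcases isRoot_cases D VDatum.allJ hw (D.single_mem_posJ VDatum.allJ hj') with h | h
          · exact absurd h hneg
          · exact h
        have h1 := D.nJ_mul_s_of_neg VDatum.allJ w hj' hneg'
        have hw' : w * D.s j ∈ D.Wf := (D.W VDatum.allJ).mul_mem hw (D.s_mem_W VDatum.allJ hj')
        obtain ⟨a, ha, d, hd, b, hb, habd, hmin⟩ :=
          ih (D.nJ VDatum.allJ (w * D.s j)) (by omega) (w * D.s j) rfl hw'
        refine ⟨a, ha, d, hd, b * D.s j, (D.W K).mul_mem hb (D.s_mem_W K hj), ?_, hmin⟩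
        rw [← mul_assoc, ← habd, mul_assoc, D.s_mul_s, mul_one]
    · obtain ⟨j, hj0⟩ := not_forall.1 hl
      obtain ⟨hj, hneg⟩ := Classical.not_imp.1 hj0
      have hj' : VDatum.allJ j := trivial
      have hneg' : -(w⁻¹ • (Pi.single j 1 : Vec n)) ∈ D.posJ VDatum.allJ := by
        rcases isRoot_cases D VDatum.allJ hwi (D.single_mem_posJ VDatum.allJ hj') with h | h
        · exact absurd h hneg
        · exact h
      have h1 := D.nJ_mul_s_of_neg VDatum.allJ w⁻¹ hj' hneg'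
      have hw' : D.s j * w ∈ D.Wf := (D.W VDatum.allJ).mul_mem (D.s_mem_W VDatum.allJ hj') hw
      have h2 : (D.s j * w)⁻¹ = w⁻¹ * D.s j := by rw [_root_.mul_inv_rev, D.s_inv]
      have h3 : D.nJ VDatum.allJ (D.s j * w) + 1 = D.nJ VDatum.allJ w := by
        rw [← h34_nJ_inv D hw', ← h34_nJ_inv D hw, h2]
        exact h1
      obtain ⟨a, ha, d, hd, b, hb, habd, hmin⟩ :=
        ih (D.nJ VDatum.allJ (D.s j * w)) (by omega) (D.s j * w) rfl hw'
      refine ⟨D.s j * a, (D.W J).mul_mem (D.s_mem_W J hj) ha, d, hd, b, hb, ?_, hmin⟩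
      rw [mul_assoc, mul_assoc, ← mul_assoc a d b, ← habd, ← mul_assoc, D.s_mul_s, one_mul]

/-- (EX) every `w` factors as `a * d * b`, `a ∈ W_J`, `b ∈ W_K`, `d` bi-minimal. -/
theorem exists_biMin {w : (Mat n)ˣ} (hw : w ∈ D.Wf) :
    ∃ a ∈ D.W J, ∃ d ∈ D.Wf, ∃ b ∈ D.W K, w = a * d * b ∧ IsBiMin D J K d :=
  h34_exists_biMin_aux D J K _ w rfl hw

end Weyl

end Cfsg.Agent.Helper34.Stb3
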