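import Cfsg.Agent.Lib.Helper39.Stb3Defs

/-!
# STB3 (UN1): a bi-minimal element of the double coset of a minimal-length element `d₀` equals `d₀`
(helper39's lemma server for S2311).  The deletion argument.
-/

set_option autoImplicit false
set_option linter.unusedSectionVars false

namespace Cfsg.Agent.Helper34.Stb3

open Cfsg Cfsg.Agent.Helper6 Cfsg.Agent.Helper6.Weyl Cfsg.Agent.Helper59.Poincare Cfsg.Agent.Helper39.Stb Matrix

section Weyl

variable {n : ℕ} (D : VDatum n)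
variable (J K : Fin n → Prop) [DecidablePred J] [DecidablePred K]

/-- the core of the deletion argument: a one-letter-shorter subword of `La ++ L₀ ++ Lb` representing `e`
keeps the reduced middle part `L₀` (by the minimality of `d₀`), hence shortens `La` or `Lb` -/
theorem h34_un1_core {d₀ e a b : (Mat n)ˣ}
    (hmin₀ : ∀ a' ∈ D.W J, ∀ b' ∈ D.W K, D.nJ VDatum.allJ d₀ ≤ D.nJ VDatum.allJ (a' * d₀ * b'))
    {L₀ : List (Fin n)} (hL₀ : D.wpM L₀ = d₀) (hlen : L₀.length = D.nJ VDatum.allJ d₀)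
    (ha : a ∈ D.W J) (hb : b ∈ D.W K) (he : e = a * d₀ * b)
    {La Lb M : List (Fin n)} (hLa : ∀ i ∈ La, J i) (hLb : ∀ i ∈ Lb, K i)
    (hsub : M.Sublist (La ++ L₀ ++ Lb)) (hM : D.wpM M = e)
    (hlenM : M.length + 1 = (La ++ L₀ ++ Lb).length) :
    ∃ A B : List (Fin n), (∀ i ∈ A, J i) ∧ (∀ i ∈ B, K i) ∧ e = D.wpM A * d₀ * D.wpM B ∧
      A.length + B.length + 1 = La.length + Lb.length := by
  obtain ⟨l₁, B, rfl, h1, hB⟩ := List.sublist_append_iff.1 hsub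
  obtain ⟨A, M₀, rfl, hA, hM₀⟩ := List.sublist_append_iff.1 h1
  have hAl := hA.length_le
  have hMl := hM₀.length_le
  have hBl := hB.length_le
  have hAJ : ∀ i ∈ A, J i := fun i hi => hLa i (hA.subset hi)
  have hBK : ∀ i ∈ B, K i := fun i hi => hLb i (hB.subset hi)
  simp only [List.length_append] at hlenM
  by_cases hc : M₀.length = L₀.length
  · have hML : M₀ = L₀ := hM₀.eq_of_length hc
    subst hML
    refine ⟨A, B, hAJ, hBK, ?_, by omega⟩
    rw [← hM, D.wpM_append, D.wpM_append, hL₀]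
  · exfalso
    have hlt : M₀.length < L₀.length := lt_of_le_of_ne hMl hc
    have h1 : D.nJ VDatum.allJ (D.wpM M₀) ≤ M₀.length :=
      D.nJ_wpM_le VDatum.allJ (fun _ _ => trivial)
    have h2 := hmin₀ ((D.wpM A)⁻¹ * a)
      ((D.W J).mul_mem ((D.W J).inv_mem (D.wpM_mem_W J hAJ)) ha)
      (b * (D.wpM B)⁻¹) ((D.W K).mul_mem hb ((D.W K).inv_mem (D.wpM_mem_W K hBK)))
    have h0 : D.wpM A * D.wpM M₀ * D.wpM B = a * d₀ * b := by
      rw [← he, ← hM, D.wpM_append, D.wpM_append]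
    have h3 : (D.wpM A)⁻¹ * a * d₀ * (b * (D.wpM B)⁻¹) = D.wpM M₀ := by
      calc (D.wpM A)⁻¹ * a * d₀ * (b * (D.wpM B)⁻¹)
          = (D.wpM A)⁻¹ * (a * d₀ * b) * (D.wpM B)⁻¹ := by group
        _ = (D.wpM A)⁻¹ * (D.wpM A * D.wpM M₀ * D.wpM B) * (D.wpM B)⁻¹ := by rw [h0]
        _ = D.wpM M₀ := by group
    rw [h3] at h2
    omega

/-- left step: a first letter of `La` can be removed -/
theorem h34_un1_left
    (hXL : ∀ {L : List (Fin n)}, (∀ i ∈ L, VDatum.allJ i) → ∀ {t : Fin n},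
      -((D.wpM L)⁻¹ • (Pi.single t 1 : Vec n)) ∈ D.posJ VDatum.allJ →
      ∃ L' : List (Fin n), L'.Sublist L ∧ L'.length + 1 = L.length ∧ D.wpM L' = D.s t * D.wpM L)
    {d₀ e : (Mat n)ˣ}
    (hmin₀ : ∀ a' ∈ D.W J, ∀ b' ∈ D.W K, D.nJ VDatum.allJ d₀ ≤ D.nJ VDatum.allJ (a' * d₀ * b'))
    {L₀ : List (Fin n)} (hL₀ : D.wpM L₀ = d₀) (hlen : L₀.length = D.nJ VDatum.allJ d₀)
    (hemin : IsBiMin D J K e)
    {j : Fin n} {La Lb : List (Fin n)} (hLa : ∀ i ∈ j :: La, J i) (hLb : ∀ i ∈ Lb, K i)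
    (heq : e = D.wpM (j :: La) * d₀ * D.wpM Lb) :
    ∃ A B : List (Fin n), (∀ i ∈ A, J i) ∧ (∀ i ∈ B, K i) ∧ e = D.wpM A * d₀ * D.wpM B ∧
      A.length + B.length + 1 = La.length + Lb.length := by
  have hj : J j := hLa j List.mem_cons_self
  have hLa' : ∀ i ∈ La, J i := fun i hi => hLa i (List.mem_cons_of_mem _ hi)
  have hpos : e⁻¹ • (Pi.single j 1 : Vec n) ∈ D.posJ VDatum.allJ := hemin.1 j hj
  have hy : D.wpM (La ++ L₀ ++ Lb) = D.s j * e := by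
    rw [heq, D.wpM_cons, D.wpM_append, D.wpM_append, hL₀]
    simp only [← mul_assoc, D.s_mul_s, one_mul]
  have hneg : -((D.wpM (La ++ L₀ ++ Lb))⁻¹ • (Pi.single j 1 : Vec n)) ∈ D.posJ VDatum.allJ := by
    rw [hy, _root_.mul_inv_rev, D.s_inv, mul_smul, D.s_smul_single, VDatum.smul_neg', neg_neg]
    exact hpos
  obtain ⟨M, hsub, hlenM, hM⟩ := hXL (L := La ++ L₀ ++ Lb) (fun _ _ => trivial) hneg
  have hM' : D.wpM M = e := by rw [hM, hy, ← mul_assoc, D.s_mul_s, one_mul]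
  exact h34_un1_core D J K hmin₀ hL₀ hlen (D.wpM_mem_W J hLa) (D.wpM_mem_W K hLb) heq hLa' hLb
    hsub hM' hlenM

/-- right step: a last letter of `Lb` can be removed -/
theorem h34_un1_right {d₀ e : (Mat n)ˣ}
    (hmin₀ : ∀ a' ∈ D.W J, ∀ b' ∈ D.W K, D.nJ VDatum.allJ d₀ ≤ D.nJ VDatum.allJ (a' * d₀ * b'))
    {L₀ : List (Fin n)} (hL₀ : D.wpM L₀ = d₀) (hlen : L₀.length = D.nJ VDatum.allJ d₀)
    (hemin : IsBiMin D J K e)
    {k : Fin n} {La Lb : List (Fin n)} (hLa : ∀ i ∈ La, J i) (hLb : ∀ i ∈ Lb ++ [k], K i)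
    (heq : e = D.wpM La * d₀ * D.wpM (Lb ++ [k])) :
    ∃ A B : List (Fin n), (∀ i ∈ A, J i) ∧ (∀ i ∈ B, K i) ∧ e = D.wpM A * d₀ * D.wpM B ∧
      A.length + B.length + 1 = La.length + Lb.length := by
  have hk : K k := hLb k (by simp)
  have hLb' : ∀ i ∈ Lb, K i := fun i hi => hLb i (List.mem_append_left _ hi)
  have hpos : e • (Pi.single k 1 : Vec n) ∈ D.posJ VDatum.allJ := hemin.2 k hk
  have hy : D.wpM (La ++ L₀ ++ Lb) = e * D.s k := by
    rw [heq, D.wpM_append, D.wpM_append, D.wpM_append, D.wpM_cons, D.wpM_nil, mul_one, hL₀]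
    simp only [mul_assoc, D.s_mul_s, mul_one]
  have hneg : -(D.wpM (La ++ L₀ ++ Lb) • (Pi.single k 1 : Vec n)) ∈ D.posJ VDatum.allJ := by
    rw [hy, mul_smul, D.s_smul_single, VDatum.smul_neg', neg_neg]
    exact hpos
  obtain ⟨M, hsub, hlenM, hM⟩ :=
    D.exchange VDatum.allJ (L := La ++ L₀ ++ Lb) (fun _ _ => trivial) (t := k) trivial hneg
  have hM' : D.wpM M = e := by rw [hM, hy, mul_assoc, D.s_mul_s, mul_one]
  exact h34_un1_core D J K hmin₀ hL₀ hlen (D.wpM_mem_W J hLa) (D.wpM_mem_W K hLb) heq hLa hLb'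
    hsub hM' hlenM

theorem h34_un1_aux
    (hXL : ∀ {L : List (Fin n)}, (∀ i ∈ L, VDatum.allJ i) → ∀ {t : Fin n},
      -((D.wpM L)⁻¹ • (Pi.single t 1 : Vec n)) ∈ D.posJ VDatum.allJ →
      ∃ L' : List (Fin n), L'.Sublist L ∧ L'.length + 1 = L.length ∧ D.wpM L' = D.s t * D.wpM L)
    {d₀ e : (Mat n)ˣ}
    (hmin₀ : ∀ a' ∈ D.W J, ∀ b' ∈ D.W K, D.nJ VDatum.allJ d₀ ≤ D.nJ VDatum.allJ (a' * d₀ * b'))
    {L₀ : List (Fin n)} (hL₀ : D.wpM L₀ = d₀) (hlen : L₀.length = D.nJ VDatum.allJ d₀)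
    (hemin : IsBiMin D J K e) :
    ∀ (m : ℕ) (La Lb : List (Fin n)), La.length + Lb.length = m → (∀ i ∈ La, J i) →
      (∀ i ∈ Lb, K i) → e = D.wpM La * d₀ * D.wpM Lb → e = d₀ := by
  intro m
  induction m using Nat.strong_induction_on with
  | _ m ih =>
    intro La Lb hm hLa hLb heq
    cases La with
    | cons j La' =>
      obtain ⟨A, B, hA, hB, hAB, hl⟩ := h34_un1_left D J K hXL hmin₀ hL₀ hlen hemin hLa hLb heq
      simp only [List.length_cons] at hm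
      exact ih (A.length + B.length) (by omega) A B rfl hA hB hAB
    | nil =>
      rcases List.eq_nil_or_concat Lb with h | ⟨Lb', k, h⟩
      · subst h
        simpa using heq
      · subst h
        rw [List.concat_eq_append] at hLb heq hm
        obtain ⟨A, B, hA, hB, hAB, hl⟩ := h34_un1_right D J K hmin₀ hL₀ hlen hemin hLa hLb heq
        simp only [List.length_append, List.length_cons, List.length_nil] at hm hl
        exact ih (A.length + B.length) (by omega) A B rfl hA hB hAB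

/-- (UN1) a bi-minimal element `e` of the double coset of an element `d₀` of minimal length equals `d₀`. -/
theorem biMin_eq_of_minimal
    (hXL : ∀ {L : List (Fin n)}, (∀ i ∈ L, VDatum.allJ i) → ∀ {t : Fin n},
      -((D.wpM L)⁻¹ • (Pi.single t 1 : Vec n)) ∈ D.posJ VDatum.allJ →
      ∃ L' : List (Fin n), L'.Sublist L ∧ L'.length + 1 = L.length ∧ D.wpM L' = D.s t * D.wpM L)
    {d₀ e a b : (Mat n)ˣ} (hd₀ : d₀ ∈ D.Wf)
    (hmin₀ : ∀ a' ∈ D.W J, ∀ b' ∈ D.W K, D.nJ VDatum.allJ d₀ ≤ D.nJ VDatum.allJ (a' * d₀ * b'))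
    (ha : a ∈ D.W J) (hb : b ∈ D.W K) (he : e = a * d₀ * b) (hemin : IsBiMin D J K e) :
    e = d₀ := by
  obtain ⟨L₀, _, hL₀, hlen⟩ := D.exists_word_length_eq_nJ VDatum.allJ hd₀
  obtain ⟨La, hLa, rfl⟩ := D.exists_word J ha
  obtain ⟨Lb, hLb, rfl⟩ := D.exists_word K hb
  exact h34_un1_aux D J K hXL hmin₀ hL₀ hlen hemin _ La Lb rfl hLa hLb he

end Weyl

end Cfsg.Agent.Helper34.Stb3
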