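import Cfsg.Agent.Lib.Helper39.StbDefs

/-!
# STB (W4): existence of the factorisation `w = u * v`, `u` minimal, `v ∈ W_J`
(helper39's lemma server for S2327).  Copy of `Poincare.exists_min` without `lam`.
-/

set_option autoImplicit false
set_option linter.unusedSectionVars false

namespace Cfsg.Agent.Helper34.Stb

open Cfsg Cfsg.Agent.Helper6 Cfsg.Agent.Helper6.Weyl Cfsg.Agent.Helper59.Poincare Cfsg.Agent.Helper39.Stb Matrix

variable {n : ℕ} (D : VDatum n)
variable (J : Fin n → Prop) [DecidablePred J]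

theorem h34_exists_min_aux : ∀ (k : ℕ) (w : (Mat n)ˣ), D.nJ VDatum.allJ w = k → w ∈ D.Wf →
    ∃ u ∈ D.Wf, ∃ v ∈ D.W J, w = u * v ∧ IsMin D J u := by
  intro k
  induction k using Nat.strong_induction_on with
  | _ k ih =>
    intro w hk hw
    by_cases h : ∀ j, J j → w • (Pi.single j 1 : Vec n) ∈ D.posJ VDatum.allJ
    · exact ⟨w, hw, 1, (D.W J).one_mem, (mul_one w).symm, h⟩
    · obtain ⟨j, hj0⟩ := not_forall.1 h
      obtain ⟨hj, hneg⟩ := Classical.not_imp.1 hj0
      have hj' : VDatum.allJ j := trivial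
      have hneg' : -(w • (Pi.single j 1 : Vec n)) ∈ D.posJ VDatum.allJ := by
        rcases isRoot_cases D VDatum.allJ hw (D.single_mem_posJ VDatum.allJ hj') with h | h
        · exact absurd h hneg
        · exact h
      have h1 := D.nJ_mul_s_of_neg VDatum.allJ w hj' hneg'
      have hw' : w * D.s j ∈ D.Wf := (D.W VDatum.allJ).mul_mem hw (D.s_mem_W VDatum.allJ hj')
      obtain ⟨u, hu, v, hv, huv, hpos⟩ :=
        ih (D.nJ VDatum.allJ (w * D.s j)) (by omega) (w * D.s j) rfl hw'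
      refine ⟨u, hu, v * D.s j, (D.W J).mul_mem hv (D.s_mem_W J hj), ?_, hpos⟩
      rw [← mul_assoc, ← huv, mul_assoc, D.s_mul_s, mul_one]

/-- (W4) every element factors as (minimal) * (element of `W_J`) -/
theorem exists_min' {w : (Mat n)ˣ} (hw : w ∈ D.Wf) :
    ∃ u ∈ D.Wf, ∃ v ∈ D.W J, w = u * v ∧ IsMin D J u :=
  h34_exists_min_aux D J _ w rfl hw

end Cfsg.Agent.Helper34.Stb
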