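import Cfsg.Agent.Lib.Helper39.StbDefs

/-!
# STB (W4b): uniqueness of the factorisation `w = u * v`, `u` minimal, `v ∈ W_J`
(helper39's lemma server for S2327).
-/

set_option autoImplicit false
set_option linter.unusedSectionVars false

namespace Cfsg.Agent.Helper34.Stb

open Cfsg Cfsg.Agent.Helper6 Cfsg.Agent.Helper6.Weyl Cfsg.Agent.Helper59.Poincare Cfsg.Agent.Helper39.Stb Matrix

variable {n : ℕ} (D : VDatum n)
variable (J : Fin n → Prop) [DecidablePred J]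

/-- (W4b) `u' = u * x`, `x = v * v'⁻¹ ∈ W_J`; `n(u') = n(u) + n_J(x)` and `n(u) = n(u' x⁻¹) = n(u') + n_J(x⁻¹)`,
so `n_J(x) = 0`, `x = 1` (`eq_one_of_nJ_eq_zero`). -/
theorem min_factor_unique
    (hadd : ∀ u v : (Mat n)ˣ, u ∈ D.Wf → IsMin D J u → v ∈ D.W J →
      D.nJ VDatum.allJ (u * v) = D.nJ VDatum.allJ u + D.nJ J v)
    {u u' v v' : (Mat n)ˣ} (hu : u ∈ D.Wf) (hu' : u' ∈ D.Wf)
    (hmin : IsMin D J u) (hmin' : IsMin D J u') (hv : v ∈ D.W J) (hv' : v' ∈ D.W J)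
    (h : u * v = u' * v') : u = u' ∧ v = v' := by
  have hx : v * v'⁻¹ ∈ D.W J := (D.W J).mul_mem hv ((D.W J).inv_mem hv')
  have hx' : (v * v'⁻¹)⁻¹ ∈ D.W J := (D.W J).inv_mem hx
  have e1 : u' = u * (v * v'⁻¹) := by
    rw [← mul_assoc, h, mul_assoc, mul_inv_cancel, mul_one]
  have e2 : u = u' * (v * v'⁻¹)⁻¹ := by
    rw [e1, mul_assoc, mul_inv_cancel, mul_one]
  have h1 := hadd u (v * v'⁻¹) hu hmin hx
  have h2 := hadd u' (v * v'⁻¹)⁻¹ hu' hmin' hx'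
  rw [← e1] at h1
  rw [← e2] at h2
  have h3 : D.nJ J (v * v'⁻¹) = 0 := by omega
  have h4 := D.eq_one_of_nJ_eq_zero J hx h3
  have h5 : v = v' := by
    have := mul_inv_eq_one.1 h4
    exact this
  refine ⟨?_, h5⟩
  rw [e1, h4, mul_one]

end Cfsg.Agent.Helper34.Stb
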