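import Cfsg.Agent.Lib.Helper39.StbDefs

/-!
# STB (W6): existence of the longest element (helper39's lemma server for S2327).
-/

set_option autoImplicit false
set_option linter.unusedSectionVars false

namespace Cfsg.Agent.Helper34.Stb

open Cfsg Cfsg.Agent.Helper6 Cfsg.Agent.Helper6.Weyl Cfsg.Agent.Helper59.Poincare Cfsg.Agent.Helper39.Stb Matrix

variable {n : ℕ} (D : VDatum n)

/-- (W6) take `u ∈ Wf` (finite: `finite_Wf`) with `nJ allJ u` maximal; if `u • e_j ∈ posJ allJ` for some `j`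
then `nJ allJ (u * s_j) = nJ allJ u + 1` (`nJ_mul_s_of_pos`), contradiction; so `-(u • e_j) ∈ posJ allJ` (`isRoot_cases`). -/
theorem exists_longest : ∃ u ∈ D.Wf, IsLongest D u := by
  have := finite_Wf D
  obtain ⟨u, hu⟩ := Finite.exists_max (fun w : D.Wf => D.nJ VDatum.allJ (w : (Mat n)ˣ))
  refine ⟨u.1, u.2, ?_⟩
  intro j
  rcases isRoot_cases D VDatum.allJ u.2 (D.single_mem_posJ VDatum.allJ (i := j) trivial) with h | h
  · exfalso
    have h1 := D.nJ_mul_s_of_pos VDatum.allJ u.1 (i := j) trivial h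
    have hmem : u.1 * D.s j ∈ D.Wf := (D.W VDatum.allJ).mul_mem u.2 (D.s_mem_W VDatum.allJ trivial)
    have h2 := hu ⟨u.1 * D.s j, hmem⟩
    simp only at h2
    omega
  · exact h

end Cfsg.Agent.Helper34.Stb
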