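import Cfsg.Agent.Lib.Helper34.TNC3

/-!
# Thompson normal p-complement: transfer to subgroups, and general lemmas
-/

set_option autoImplicit false
set_option linter.unusedSectionVars false

namespace Cfsg.Agent.Helper34.TNC

open Cfsg

universe u

variable {G : Type u} [Group G]

/-- the hypotheses for a subgroup of `M`, from their intersections with `M` -/
theorem hyp_subgroupOf [Finite G] {p : ℕ} [Fact p.Prime] (M : Subgroup G) (T' : Subgroup M)
    (h1 : PN p (Subgroup.centralizer (ZS (T'.map M.subtype) : Set G) ⊓ M))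
    (h2 : PN p (Subgroup.normalizer (Cfsg.thompsonSubgroupAOf (T'.map M.subtype) : Set G) ⊓ M)) :
    Hyp p T' := by
  have hinj : ∀ x ∈ T', M.subtype x = 1 → x = 1 := fun x _ hx => Subtype.ext hx
  have hz : ZS (T'.map M.subtype) = (ZS T').map M.subtype := zs_map M.subtype T' hinj
  have hj : Cfsg.thompsonSubgroupAOf (T'.map M.subtype) =
      (Cfsg.thompsonSubgroupAOf T').map M.subtype := jA_map M.subtype T' hinj
  constructor
  · have e : Subgroup.centralizer (ZS T' : Set M) =
        (Subgroup.centralizer (ZS (T'.map M.subtype) : Set G) ⊓ M).subgroupOf M := by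
      ext x
      rw [Subgroup.mem_subgroupOf, Subgroup.mem_inf, Subgroup.mem_centralizer_iff,
        Subgroup.mem_centralizer_iff, hz]
      constructor
      · intro h
        refine ⟨?_, x.2⟩
        rintro _ ⟨z, hz', rfl⟩
        have := h z hz'
        exact congrArg Subtype.val this
      · rintro ⟨h, -⟩ z hz'
        apply Subtype.ext
        exact h _ ⟨z, hz', rfl⟩
    show PN p (Subgroup.centralizer (ZS T' : Set M))
    rw [e, pn_subgroupOf_iff inf_le_right]
    exact h1
  · have e : Subgroup.normalizer (Cfsg.thompsonSubgroupAOf T' : Set M) =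
        (Subgroup.normalizer (Cfsg.thompsonSubgroupAOf (T'.map M.subtype) : Set G) ⊓
          M).subgroupOf M := by
      ext x
      rw [Subgroup.mem_subgroupOf, Subgroup.mem_inf, Subgroup.mem_normalizer_iff,
        Subgroup.mem_normalizer_iff, hj]
      constructor
      · intro h
        refine ⟨?_, x.2⟩
        intro y
        constructor
        · rintro ⟨z, hz', rfl⟩
          exact ⟨x * z * x⁻¹, (h z).mp hz', rfl⟩
        · rintro ⟨z, hz', hzy⟩
          have hyM : y ∈ M := by
            have h3 : y = (x : G)⁻¹ * (z : G) * (x : G) := by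
              have : ((z : M) : G) = (x : G) * y * (x : G)⁻¹ := hzy
              rw [this]; group
            rw [h3]
            exact M.mul_mem (M.mul_mem (M.inv_mem x.2) z.2) x.2
          refine ⟨⟨y, hyM⟩, ?_, rfl⟩
          have h5 : x * ⟨y, hyM⟩ * x⁻¹ = z := Subtype.ext hzy.symm
          have h6 : x * ⟨y, hyM⟩ * x⁻¹ ∈ Cfsg.thompsonSubgroupAOf T' := by
            rw [h5]; exact hz'
          exact (h ⟨y, hyM⟩).mpr h6
      · rintro ⟨h, -⟩ z
        constructor
        · intro hz'
          obtain ⟨w, hw, hwz⟩ := (h z).mp ⟨z, hz', rfl⟩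
          have : w = x * z * x⁻¹ := Subtype.ext hwz
          rwa [← this]
        · intro hz'
          obtain ⟨w, hw, hwz⟩ := (h z).mpr ⟨x * z * x⁻¹, hz', rfl⟩
          have : w = z := Subtype.ext hwz
          rwa [← this]
    show PN p (Subgroup.normalizer (Cfsg.thompsonSubgroupAOf T' : Set M))
    rw [e, pn_subgroupOf_iff inf_le_right]
    exact h2

/-- product formula -/
theorem card_sup_mul_card_inf [Finite G] (X N : Subgroup G) [N.Normal] :
    Nat.card (X ⊔ N : Subgroup G) * Nat.card (X ⊓ N : Subgroup G) = Nat.card X * Nat.card N := by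
  have h1 : Nat.card N * N.relIndex (X ⊔ N) = Nat.card (X ⊔ N : Subgroup G) := by
    have := Subgroup.relIndex_mul_relIndex ⊥ N (X ⊔ N) bot_le le_sup_right
    rwa [Subgroup.relIndex_bot_left, Subgroup.relIndex_bot_left] at this
  have h2 : Nat.card (X ⊓ N : Subgroup G) * (X ⊓ N).relIndex X = Nat.card X := by
    have := Subgroup.relIndex_mul_relIndex ⊥ (X ⊓ N) X bot_le inf_le_left
    rwa [Subgroup.relIndex_bot_left, Subgroup.relIndex_bot_left] at this
  have h3 : N.relIndex (X ⊔ N) = N.relIndex X := Subgroup.relIndex_sup_right X N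
  have h4 : (X ⊓ N).relIndex X = N.relIndex X := by
    rw [inf_comm]; exact Subgroup.inf_relIndex_right N X
  rw [← h1, ← h2, h3, h4]
  ring

theorem le_normalizer_of_conj_mem {X P : Subgroup G}
    (h : ∀ g ∈ X, ∀ x ∈ P, g * x * g⁻¹ ∈ P) : X ≤ Subgroup.normalizer (P : Set G) := by
  intro g hg
  rw [Subgroup.mem_normalizer_iff]
  intro x
  constructor
  · exact h g hg x
  · intro hx
    have := h g⁻¹ (X.inv_mem hg) _ hx
    have e : g⁻¹ * (g * x * g⁻¹) * g⁻¹⁻¹ = x := by group
    rwa [e] at this

theorem mem_normalizer_of_conj_mem_finite [Finite G] {U : Subgroup G} {g : G}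
    (h : ∀ u ∈ U, g * u * g⁻¹ ∈ U) : g ∈ Subgroup.normalizer (U : Set G) := by
  apply mem_normalizer_of_map_conj_eq
  have hle : U.map (MulAut.conj g).toMonoidHom ≤ U := by
    rintro _ ⟨u, hu, rfl⟩
    exact h u hu
  apply Subgroup.eq_of_le_of_card_ge hle
  rw [Subgroup.card_map_of_injective (MulAut.conj g).injective]

/-- a subgroup of a finite group with no nontrivial elements of order prime to `p` is a
`p`-group -/
theorem isPGroup_of_coprime_eq_one [Finite G] {p : ℕ} [hp : Fact p.Prime] (L : Subgroup G)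
    (h : ∀ y ∈ L, (orderOf y).Coprime p → y = 1) : IsPGroup p L := by
  intro g
  have hn : orderOf (g : G) ≠ 0 := (orderOf_pos (g : G)).ne'
  obtain ⟨e, m, hm, hnm⟩ := Nat.exists_eq_pow_mul_and_not_dvd hn p hp.out.ne_one
  refine ⟨e, ?_⟩
  have hcop : Nat.Coprime m p := (Nat.Coprime.symm ((Nat.Prime.coprime_iff_not_dvd hp.out).2 hm))
  have h1 : ((g : G) ^ (p ^ e)) ^ m = 1 := by
    rw [← pow_mul, ← hnm, pow_orderOf_eq_one]
  have h2 : (orderOf ((g : G) ^ (p ^ e))).Coprime p :=
    Nat.Coprime.coprime_dvd_left (orderOf_dvd_of_pow_eq_one h1) hcop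
  have h3 := h ((g : G) ^ (p ^ e)) (L.pow_mem g.2 _) h2
  exact Subtype.ext (by simpa using h3)

/-- coprime action: an element of order prime to `p` normalizing an abelian `p`-group `W`
and centralizing `Ω₁(W)` centralizes `W` -/
theorem centralizes_of_centralizes_omega [Finite G] {p : ℕ} [hp : Fact p.Prime] {W : Subgroup G}
    (hWp : IsPGroup p W) (hWc : ∀ w ∈ W, ∀ w' ∈ W, w * w' = w' * w) {x : G}
    (hx : (orderOf x).Coprime p) (hxW : ∀ w ∈ W, x * w * x⁻¹ ∈ W)
    (hΩ : ∀ w ∈ W, w ^ p = 1 → x * w * x⁻¹ = w) : ∀ w ∈ W, x * w * x⁻¹ = w := by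
  have key : ∀ k : ℕ, ∀ w ∈ W, w ^ (p ^ k) = 1 → x * w * x⁻¹ = w := by
    intro k
    induction k with
    | zero =>
      intro w _ hw
      rw [pow_zero, pow_one] at hw
      rw [hw]; group
    | succ k ih =>
      intro w hwW hw
      have hwp : x * w ^ p * x⁻¹ = w ^ p := by
        apply ih _ (W.pow_mem hwW p)
        rw [← pow_mul, ← pow_succ']; exact hw
      set c := x * w * x⁻¹ * w⁻¹ with hc
      have hcW : c ∈ W := W.mul_mem (hxW w hwW) (W.inv_mem hwW)
      have hcomm : Commute (x * w * x⁻¹) w⁻¹ := hWc _ (hxW w hwW) _ (W.inv_mem hwW)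
      have hcp : c ^ p = 1 := by
        rw [hc, hcomm.mul_pow, inv_pow]
        have : (x * w * x⁻¹) ^ p = x * w ^ p * x⁻¹ := conj_pow
        rw [this, hwp, mul_inv_cancel]
      have hxc : x * c * x⁻¹ = c := hΩ c hcW hcp
      have hxw : x * w * x⁻¹ = c * w := by rw [hc]; group
      have hpow : ∀ n : ℕ, x ^ n * w * (x ^ n)⁻¹ = c ^ n * w := by
        intro n
        induction n with
        | zero => simp
        | succ n ihn =>
          have e1 : x ^ (n + 1) * w * (x ^ (n + 1))⁻¹ = x * (x ^ n * w * (x ^ n)⁻¹) * x⁻¹ := by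
            rw [pow_succ']; group
          have hcn : x * c ^ n * x⁻¹ = c ^ n := by
            have : x * c ^ n * x⁻¹ = (x * c * x⁻¹) ^ n := conj_pow.symm
            rw [this, hxc]
          rw [e1, ihn]
          calc x * (c ^ n * w) * x⁻¹ = (x * c ^ n * x⁻¹) * (x * w * x⁻¹) := by group
            _ = c ^ n * (c * w) := by rw [hcn, hxw]
            _ = c ^ (n + 1) * w := by rw [pow_succ]; group
      have h1 := hpow (orderOf x)
      rw [pow_orderOf_eq_one, inv_one, one_mul, mul_one] at h1
      have h2 : c ^ orderOf x = 1 := by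
        have : c ^ orderOf x * w = 1 * w := by rw [← h1, one_mul]
        exact mul_right_cancel this
      have h3 : orderOf c ∣ orderOf x := orderOf_dvd_of_pow_eq_one h2
      have h4 : orderOf c ∣ p := orderOf_dvd_of_pow_eq_one hcp
      have h5 : orderOf c = 1 := Nat.eq_one_of_dvd_coprimes hx h3 h4
      have h6 : c = 1 := orderOf_eq_one_iff.mp h5
      rw [hxw, h6, one_mul]
  intro w hw
  obtain ⟨k, hk⟩ := hWp ⟨w, hw⟩
  exact key k w hw (congrArg Subtype.val hk)

end Cfsg.Agent.Helper34.TNC
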