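import Mathlib.GroupTheory.Sylow
import Mathlib.GroupTheory.PGroup
import Mathlib.GroupTheory.Index
import Mathlib.Data.Set.Finite.Lemmas

/-!
# Offenders in characteristic two

An elementary abelian 2-group `E` of automorphisms of an elementary abelian 2-group `V`,
acting faithfully on an abelian group `Q` of automorphisms of odd order, with
`|V : C_V(E)| ≤ |E|`, contains a transvection inverting a nontrivial element of `Q`;
then `[V, y]` is a four-group.
-/

set_option autoImplicit false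
set_option linter.unusedSectionVars false

namespace Cfsg.Agent.Helper34.TNC

variable {V : Type*} [CommGroup V]

/-- common fixed points of a group of automorphisms -/
def fixedSub (E : Subgroup (MulAut V)) : Subgroup V where
  carrier := {v | ∀ α ∈ E, α v = v}
  one_mem' := fun α _ => map_one α
  mul_mem' := fun {a b} ha hb α hα => by rw [map_mul, ha α hα, hb α hα]
  inv_mem' := fun {a} ha α hα => by rw [map_inv, ha α hα]

/-- fixed points of one automorphism -/
def fixedOne (α : MulAut V) : Subgroup V where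
  carrier := {v | α v = v}
  one_mem' := map_one α
  mul_mem' := fun {a b} ha hb => by
    show α (a * b) = a * b
    rw [map_mul, ha, hb]
  inv_mem' := fun {a} ha => by
    show α a⁻¹ = a⁻¹
    rw [map_inv, ha]

/-- `v ↦ v⁻¹ * y v` -/
def kap (y : MulAut V) : V →* V where
  toFun v := v⁻¹ * y v
  map_one' := by simp
  map_mul' a b := by
    rw [map_mul, mul_inv]
    exact mul_mul_mul_comm _ _ _ _

theorem kap_apply (y : MulAut V) (v : V) : kap y v = v⁻¹ * y v := rfl

theorem ker_kap (y : MulAut V) : (kap y).ker = fixedOne y := by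
  ext v
  rw [MonoidHom.mem_ker, kap_apply]
  show v⁻¹ * y v = 1 ↔ y v = v
  rw [inv_mul_eq_one, eq_comm]

theorem card_range_kap [Finite V] (y : MulAut V) :
    Nat.card (kap y).range * Nat.card (fixedOne y) = Nat.card V := by
  rw [← ker_kap, ← Subgroup.index_ker, mul_comm, Subgroup.card_mul_index]

/-- in an abelian group of automorphisms of odd order, an element is a power of its square -/
theorem exists_pow_sq_eq {Q : Subgroup (MulAut V)} (hQodd : Odd (Nat.card Q)) {y : MulAut V}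
    (hy : y ∈ Q) : ∃ k : ℕ, (y * y) ^ k = y := by
  have h1 : orderOf y ∣ Nat.card Q := by
    have : orderOf (⟨y, hy⟩ : Q) ∣ Nat.card Q := orderOf_dvd_natCard _
    rwa [← Subgroup.orderOf_coe] at this
  have h2 : Odd (orderOf y) := Odd.of_dvd_nat hQodd h1
  obtain ⟨m, hm⟩ := h2
  refine ⟨m + 1, ?_⟩
  rw [← pow_two, ← pow_mul]
  have : 2 * (m + 1) = orderOf y + 1 := by omega
  rw [this, pow_succ, pow_orderOf_eq_one, one_mul]

theorem eq_one_of_sq_eq_one {Q : Subgroup (MulAut V)} (hQodd : Odd (Nat.card Q)) {y : MulAut V}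
    (hy : y ∈ Q) (h : y * y = 1) : y = 1 := by
  obtain ⟨k, hk⟩ := exists_pow_sq_eq hQodd hy
  rw [h, one_pow] at hk
  exact hk.symm

/-- `[V, y] ∩ C_V(y) = 1` for `y` of odd order and `V` of exponent two -/
theorem eq_one_of_kap_fixed (hV : ∀ v : V, v * v = 1) {Q : Subgroup (MulAut V)}
    (hQodd : Odd (Nat.card Q)) {y : MulAut V} (hy : y ∈ Q) (v : V)
    (hfix : y (kap y v) = kap y v) : kap y v = 1 := by
  set u := kap y v with hu
  have hyv : y v = v * u := by rw [hu, kap_apply]; simp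
  have hpow : ∀ i : ℕ, (y ^ i) v = v * u ^ i := by
    intro i
    induction i with
    | zero => simp
    | succ i ih =>
      rw [pow_succ', MulAut.mul_apply, ih, map_mul, map_pow, hfix, hyv, pow_succ]
      simp only [mul_assoc]
      congr 1
      exact mul_comm _ _
  have h1 : orderOf y ∣ Nat.card Q := by
    have : orderOf (⟨y, hy⟩ : Q) ∣ Nat.card Q := orderOf_dvd_natCard _
    rwa [← Subgroup.orderOf_coe] at this
  have h2 : Odd (orderOf y) := Odd.of_dvd_nat hQodd h1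
  obtain ⟨m, hm⟩ := h2
  have h3 := hpow (orderOf y)
  rw [pow_orderOf_eq_one, MulAut.one_apply] at h3
  have h4 : u ^ orderOf y = 1 := by
    have : v * u ^ orderOf y = v * 1 := by rw [← h3, mul_one]
    exact mul_left_cancel this
  rw [hm, pow_succ, pow_mul, pow_two, hV, one_pow, one_mul] at h4
  exact h4

/-- the action of a group of automorphisms on an invariant subgroup -/
@[reducible] def restrictAction (B : Subgroup (MulAut V)) (V' : Subgroup V)
    (h : ∀ b ∈ B, ∀ u ∈ V', b u ∈ V') : MulAction ↥B ↥V' where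
  smul b u := ⟨(b : MulAut V) u, h b b.2 u u.2⟩
  one_smul u := Subtype.ext (by show ((1 : B) : MulAut V) u = u; simp)
  mul_smul a b u := Subtype.ext rfl

/-- a 2-group of automorphisms fixes a nontrivial element of every nontrivial invariant subgroup -/
theorem exists_fixed_ne_one [Finite V] (hV : ∀ v : V, v * v = 1) (B : Subgroup (MulAut V))
    (hB : ∀ α ∈ B, α * α = 1) (V' : Subgroup V) (hV' : V' ≠ ⊥)
    (h : ∀ b ∈ B, ∀ u ∈ V', b u ∈ V') : ∃ u ∈ V', u ≠ 1 ∧ ∀ b ∈ B, b u = u := by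
  have : Fact (Nat.Prime 2) := ⟨Nat.prime_two⟩
  let _ := restrictAction B V' h
  have hBp : IsPGroup 2 ↥B := by
    intro b
    refine ⟨1, ?_⟩
    rw [pow_one, pow_two]
    exact Subtype.ext (hB b b.2)
  have hV'p : IsPGroup 2 ↥V' := by
    intro v
    refine ⟨1, ?_⟩
    rw [pow_one, pow_two]
    exact Subtype.ext (hV v)
  have hdvd : 2 ∣ Nat.card ↥V' := by
    obtain ⟨k, hk⟩ := IsPGroup.iff_card.mp hV'p
    have hk0 : k ≠ 0 := by
      rintro rfl
      rw [pow_zero] at hk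
      exact hV' (Subgroup.eq_bot_of_card_eq V' hk)
    rw [hk]
    exact dvd_pow_self 2 hk0
  have h1 : (1 : ↥V') ∈ MulAction.fixedPoints ↥B ↥V' := by
    intro b
    apply Subtype.ext
    show (b : MulAut V) 1 = 1
    exact map_one _
  obtain ⟨u, hu, hu1⟩ := hBp.exists_fixed_point_of_prime_dvd_card_of_fixed_point ↥V' hdvd h1
  refine ⟨u, u.2, ?_, ?_⟩
  · intro h2
    exact hu1 (Subtype.ext h2.symm)
  · intro b hb
    have := hu ⟨b, hb⟩
    exact congrArg Subtype.val this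


theorem fixedSub_bot : fixedSub (⊥ : Subgroup (MulAut V)) = ⊤ := by
  ext v
  simp only [Subgroup.mem_top, iff_true]
  intro α hα
  rw [Subgroup.mem_bot] at hα
  rw [hα]; rfl

/-- the main induction -/
theorem exists_transvection [Finite V] (hV : ∀ v : V, v * v = 1)
    (Q : Subgroup (MulAut V)) (hQc : ∀ β ∈ Q, ∀ γ ∈ Q, β * γ = γ * β)
    (hQodd : Odd (Nat.card Q)) :
    ∀ (n : ℕ) (E : Subgroup (MulAut V)), Nat.card E = n → E ≠ ⊥ →
      (∀ α ∈ E, ∀ α' ∈ E, α * α' = α' * α) → (∀ α ∈ E, α * α = 1) →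
      (∀ α ∈ E, ∀ β ∈ Q, α * β * α⁻¹ ∈ Q) →
      (∀ α ∈ E, (∀ β ∈ Q, α * β * α⁻¹ = β) → α = 1) →
      Nat.card V ≤ n * Nat.card (fixedSub E) →
      ∃ α ∈ E, ∃ y ∈ Q, y ≠ 1 ∧ α * y * α⁻¹ = y⁻¹ ∧
        Nat.card V = 2 * Nat.card (fixedOne α) := by
  intro n
  induction n using Nat.strong_induction_on with
  | _ n ih =>
  intro E hEn hE hEc hE2 hEQ hEf hoff
  have hfin : Finite (MulAut V) :=
    Finite.of_injective (fun f : MulAut V => (f : V → V)) DFunLike.coe_injective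
  have hinvE : ∀ α ∈ E, α⁻¹ = α := fun α hα => inv_eq_of_mul_eq_one_left (hE2 α hα)
  obtain ⟨α₀, hα₀E, hα₀1⟩ : ∃ α ∈ E, α ≠ 1 := by
    obtain ⟨x, hx⟩ := (Subgroup.ne_bot_iff_exists_ne_one (H := E)).mp hE
    exact ⟨x, x.2, fun h => hx (Subtype.ext h)⟩
  have hα₀i : α₀⁻¹ = α₀ := hinvE α₀ hα₀E
  obtain ⟨β, hβQ, hβ⟩ : ∃ β ∈ Q, α₀ * β * α₀⁻¹ ≠ β := by
    by_contra hcon
    push Not at hcon
    exact hα₀1 (hEf α₀ hα₀E hcon)
  -- the subgroup inverted by α₀
  let R : Subgroup (MulAut V) :=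
    { carrier := {y | y ∈ Q ∧ α₀ * y * α₀⁻¹ = y⁻¹}
      one_mem' := ⟨Q.one_mem, by group⟩
      mul_mem' := by
        rintro a b ⟨haQ, ha⟩ ⟨hbQ, hb⟩
        refine ⟨Q.mul_mem haQ hbQ, ?_⟩
        have h1 : α₀ * (a * b) * α₀⁻¹ = (α₀ * a * α₀⁻¹) * (α₀ * b * α₀⁻¹) := by group
        rw [h1, ha, hb, mul_inv_rev]
        exact hQc _ (Q.inv_mem haQ) _ (Q.inv_mem hbQ)
      inv_mem' := by
        rintro a ⟨haQ, ha⟩
        refine ⟨Q.inv_mem haQ, ?_⟩
        have h1 : α₀ * a⁻¹ * α₀⁻¹ = (α₀ * a * α₀⁻¹)⁻¹ := by group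
        rw [h1, ha] }
  have hRQ : R ≤ Q := fun y hy => hy.1
  have hRne : R ≠ ⊥ := by
    intro hbot
    have hzR : β⁻¹ * (α₀ * β * α₀⁻¹) ∈ R := by
      refine ⟨Q.mul_mem (Q.inv_mem hβQ) (hEQ α₀ hα₀E β hβQ), ?_⟩
      have h1 : α₀ * (β⁻¹ * (α₀ * β * α₀⁻¹)) * α₀⁻¹ =
          (α₀ * β * α₀⁻¹)⁻¹ * ((α₀ * α₀) * β * (α₀ * α₀)⁻¹) := by group
      rw [h1, hE2 α₀ hα₀E, one_mul, inv_one, mul_one]
      group
    rw [hbot, Subgroup.mem_bot] at hzR
    apply hβ
    calc α₀ * β * α₀⁻¹ = β * (β⁻¹ * (α₀ * β * α₀⁻¹)) := by group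
      _ = β := by rw [hzR, mul_one]
  have hRE : ∀ α ∈ E, ∀ y ∈ R, α * y * α⁻¹ ∈ R := by
    rintro α hα y ⟨hyQ, hy⟩
    refine ⟨hEQ α hα y hyQ, ?_⟩
    have hc : α₀ * α = α * α₀ := hEc α₀ hα₀E α hα
    have hc' : α⁻¹ * α₀⁻¹ = α₀⁻¹ * α⁻¹ := by
      rw [← mul_inv_rev, ← mul_inv_rev, hc]
    calc α₀ * (α * y * α⁻¹) * α₀⁻¹ = (α₀ * α) * y * (α⁻¹ * α₀⁻¹) := by group
      _ = (α * α₀) * y * (α₀⁻¹ * α⁻¹) := by rw [hc, hc']
      _ = α * (α₀ * y * α₀⁻¹) * α⁻¹ := by group
      _ = α * y⁻¹ * α⁻¹ := by rw [hy]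
      _ = (α * y * α⁻¹)⁻¹ := by group
  -- a minimal E-invariant nontrivial subgroup of R
  let 𝓡 : Set (Subgroup (MulAut V)) :=
    {R' | R' ≤ R ∧ R' ≠ ⊥ ∧ ∀ α ∈ E, ∀ y ∈ R', α * y * α⁻¹ ∈ R'}
  have h𝓡fin : 𝓡.Finite := Set.toFinite _
  have h𝓡ne : 𝓡.Nonempty := ⟨R, le_rfl, hRne, hRE⟩
  obtain ⟨R₀, hR₀, hR₀min⟩ := Set.exists_min_image 𝓡 (fun R' => Nat.card R') h𝓡fin h𝓡ne
  obtain ⟨hR₀R, hR₀ne, hR₀E⟩ := hR₀
  have hR₀Q : R₀ ≤ Q := hR₀R.trans hRQ
  -- each element of E centralizes or inverts R₀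
  have hdich : ∀ α ∈ E, (∀ y ∈ R₀, α * y * α⁻¹ = y) ∨ (∀ y ∈ R₀, α * y * α⁻¹ = y⁻¹) := by
    intro α hα
    let Rp : Subgroup (MulAut V) :=
      { carrier := {y | y ∈ R₀ ∧ α * y * α⁻¹ = y}
        one_mem' := ⟨R₀.one_mem, by group⟩
        mul_mem' := by
          rintro a b ⟨haR, ha⟩ ⟨hbR, hb⟩
          refine ⟨R₀.mul_mem haR hbR, ?_⟩
          have h1 : α * (a * b) * α⁻¹ = (α * a * α⁻¹) * (α * b * α⁻¹) := by group
          rw [h1, ha, hb]
        inv_mem' := by
          rintro a ⟨haR, ha⟩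
          refine ⟨R₀.inv_mem haR, ?_⟩
          have h1 : α * a⁻¹ * α⁻¹ = (α * a * α⁻¹)⁻¹ := by group
          rw [h1, ha] }
    by_cases hRp : Rp = ⊥
    · right
      intro y hy
      have hyα : α * y * α⁻¹ ∈ R₀ := hR₀E α hα y hy
      have h1 : y * (α * y * α⁻¹) ∈ Rp := by
        refine ⟨R₀.mul_mem hy hyα, ?_⟩
        have h2 : α * (y * (α * y * α⁻¹)) * α⁻¹ = (α * y * α⁻¹) * ((α * α) * y * (α * α)⁻¹) := by
          group
        rw [h2, hE2 α hα, one_mul, inv_one, mul_one]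
        exact hQc _ (hR₀Q hyα) _ (hR₀Q hy)
      rw [hRp, Subgroup.mem_bot] at h1
      exact (eq_inv_of_mul_eq_one_right h1)
    · left
      have hRpmem : Rp ∈ 𝓡 := by
        refine ⟨fun y hy => hR₀R hy.1, hRp, ?_⟩
        rintro α' hα' y ⟨hyR, hy⟩
        refine ⟨hR₀E α' hα' y hyR, ?_⟩
        have hc : α * α' = α' * α := hEc α hα α' hα'
        have hc' : α'⁻¹ * α⁻¹ = α⁻¹ * α'⁻¹ := by
          rw [← mul_inv_rev, ← mul_inv_rev, hc]
        calc α * (α' * y * α'⁻¹) * α⁻¹ = (α * α') * y * (α'⁻¹ * α⁻¹) := by group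
          _ = (α' * α) * y * (α⁻¹ * α'⁻¹) := by rw [hc, hc']
          _ = α' * (α * y * α⁻¹) * α'⁻¹ := by group
          _ = α' * y * α'⁻¹ := by rw [hy]
      have hle : Rp ≤ R₀ := fun y hy => hy.1
      have hcard := hR₀min Rp hRpmem
      have heq : Rp = R₀ := Subgroup.eq_of_le_of_card_ge hle hcard
      intro y hy
      have : y ∈ Rp := by rw [heq]; exact hy
      exact this.2
  -- B = C_E(R₀)
  let B : Subgroup (MulAut V) :=
    { carrier := {α | α ∈ E ∧ ∀ y ∈ R₀, α * y * α⁻¹ = y}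
      one_mem' := ⟨E.one_mem, fun y _ => by group⟩
      mul_mem' := by
        rintro a b ⟨haE, ha⟩ ⟨hbE, hb⟩
        refine ⟨E.mul_mem haE hbE, fun y hy => ?_⟩
        have h1 : a * b * y * (a * b)⁻¹ = a * (b * y * b⁻¹) * a⁻¹ := by group
        rw [h1, hb y hy, ha y hy]
      inv_mem' := by
        rintro a ⟨haE, ha⟩
        refine ⟨E.inv_mem haE, fun y hy => ?_⟩
        have h1 := ha y hy
        calc a⁻¹ * y * a⁻¹⁻¹ = a⁻¹ * (a * y * a⁻¹) * a := by rw [h1]; group
          _ = y := by group }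
  have hBE : B ≤ E := fun α hα => hα.1
  obtain ⟨y₀, hy₀R, hy₀1⟩ : ∃ y ∈ R₀, y ≠ 1 := by
    obtain ⟨x, hx⟩ := (Subgroup.ne_bot_iff_exists_ne_one (H := R₀)).mp hR₀ne
    exact ⟨x, x.2, fun h => hx (Subtype.ext h)⟩
  have hy₀Q : y₀ ∈ Q := hR₀Q hy₀R
  have hα₀R₀ : ∀ y ∈ R₀, α₀ * y * α₀⁻¹ = y⁻¹ := fun y hy => (hR₀R hy).2
  have hα₀B : α₀ ∉ B := by
    rintro ⟨-, h⟩
    have h1 := h y₀ hy₀R
    rw [hα₀R₀ y₀ hy₀R] at h1
    have h2 : y₀ * y₀ = 1 := by
      have h3 : y₀ * y₀⁻¹ = 1 := mul_inv_cancel _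
      rw [h1] at h3
      exact h3
    exact hy₀1 (eq_one_of_sq_eq_one hQodd hy₀Q h2)
  have hprod : ∀ α ∈ E, α ∉ B → α * α₀ ∈ B := by
    intro α hα hαB
    refine ⟨E.mul_mem hα hα₀E, fun y hy => ?_⟩
    rcases hdich α hα with hc | hi
    · exact absurd ⟨hα, hc⟩ hαB
    · have h1 : α * α₀ * y * (α * α₀)⁻¹ = α * (α₀ * y * α₀⁻¹) * α⁻¹ := by group
      rw [h1, hα₀R₀ y hy]
      have h2 : α * y⁻¹ * α⁻¹ = (α * y * α⁻¹)⁻¹ := by group
      rw [h2, hi y hy, inv_inv]
  have hidx : B.relIndex E = 2 := by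
    rw [Subgroup.relIndex_eq_two_iff]
    refine ⟨α₀, hα₀E, fun b hb => ?_⟩
    by_cases hbB : b ∈ B
    · refine Or.inr ⟨hbB, fun h => hα₀B ?_⟩
      have : α₀ = b⁻¹ * (b * α₀) := by group
      rw [this]; exact B.mul_mem (B.inv_mem hbB) h
    · exact Or.inl ⟨hprod b hb hbB, hbB⟩
  have hcardE : Nat.card E = 2 * Nat.card B := by
    have h1 := Subgroup.card_mul_index (B.subgroupOf E)
    have h2 : Nat.card (B.subgroupOf E) = Nat.card B :=
      Nat.card_congr (Subgroup.subgroupOfEquivOfLe hBE).toEquiv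
    have h3 : (B.subgroupOf E).index = 2 := hidx
    rw [h2, h3] at h1
    omega
  -- α₀ moves some common fixed point of B
  have hmove : ∃ u ∈ fixedSub B, α₀ u ≠ u := by
    by_contra hcon
    push Not at hcon
    have hcommB : ∀ b ∈ B, b * y₀ = y₀ * b := by
      intro b hb
      have := hb.2 y₀ hy₀R
      calc b * y₀ = (b * y₀ * b⁻¹) * b := by group
        _ = y₀ * b := by rw [this]
    have hyU : ∀ u ∈ fixedSub B, y₀ u ∈ fixedSub B := by
      intro u hu b hb
      calc b (y₀ u) = (b * y₀) u := rfl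
        _ = (y₀ * b) u := by rw [hcommB b hb]
        _ = y₀ (b u) := rfl
        _ = y₀ u := by rw [hu b hb]
    have hsq : ∀ u ∈ fixedSub B, (y₀ * y₀) u = u := by
      intro u hu
      have h1 : α₀ (y₀ u) = y₀ u := hcon _ (hyU u hu)
      have h2 : α₀ * y₀ = y₀⁻¹ * α₀ := by
        calc α₀ * y₀ = (α₀ * y₀ * α₀⁻¹) * α₀ := by group
          _ = y₀⁻¹ * α₀ := by rw [hα₀R₀ y₀ hy₀R]
      have h3 : α₀ (y₀ u) = y₀⁻¹ u := by
        calc α₀ (y₀ u) = (α₀ * y₀) u := rfl
          _ = (y₀⁻¹ * α₀) u := by rw [h2]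
          _ = y₀⁻¹ (α₀ u) := rfl
          _ = y₀⁻¹ u := by rw [hcon u hu]
      have h4 : y₀ u = y₀⁻¹ u := by rw [← h1, h3]
      calc (y₀ * y₀) u = y₀ (y₀ u) := rfl
        _ = y₀ (y₀⁻¹ u) := by rw [h4]
        _ = (y₀ * y₀⁻¹) u := rfl
        _ = u := by rw [mul_inv_cancel]; rfl
    obtain ⟨k, hk⟩ := exists_pow_sq_eq hQodd hy₀Q
    have hfixU : ∀ u ∈ fixedSub B, y₀ u = u := by
      intro u hu
      have hpow : ∀ i : ℕ, ((y₀ * y₀) ^ i) u = u := by
        intro i
        induction i with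
        | zero => simp
        | succ i ih => rw [pow_succ, MulAut.mul_apply, hsq u hu, ih]
      have := hpow k
      rwa [hk] at this
    have hV'ne : (kap y₀).range ≠ ⊥ := by
      intro hbot
      apply hy₀1
      ext v
      have h1 : kap y₀ v ∈ (kap y₀).range := ⟨v, rfl⟩
      rw [hbot, Subgroup.mem_bot, kap_apply, inv_mul_eq_one] at h1
      rw [MulAut.one_apply]; exact h1.symm
    have hV'B : ∀ b ∈ B, ∀ u ∈ (kap y₀).range, b u ∈ (kap y₀).range := by
      rintro b hb _ ⟨v, rfl⟩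
      refine ⟨b v, ?_⟩
      rw [kap_apply, kap_apply, map_mul, map_inv]
      congr 1
      calc y₀ (b v) = (y₀ * b) v := rfl
        _ = (b * y₀) v := by rw [hcommB b hb]
        _ = b (y₀ v) := rfl
    obtain ⟨u, huV', hu1, hufix⟩ :=
      exists_fixed_ne_one hV B (fun α hα => hE2 α hα.1) _ hV'ne hV'B
    obtain ⟨v, rfl⟩ := huV'
    exact hu1 (eq_one_of_kap_fixed hV hQodd hy₀Q v (hfixU _ hufix))
  obtain ⟨u₀, hu₀U, hu₀⟩ := hmove
  have hle : fixedSub E ≤ fixedSub B := fun v hv b hb => hv b hb.1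
  have hne : fixedSub E ≠ fixedSub B := by
    intro h
    have : u₀ ∈ fixedSub E := by rw [h]; exact hu₀U
    exact hu₀ (this α₀ hα₀E)
  have hcard2 : 2 * Nat.card (fixedSub E) ≤ Nat.card (fixedSub B) := by
    obtain ⟨c, hc⟩ := Subgroup.card_dvd_of_le hle
    have hpos : 0 < Nat.card (fixedSub B) := Nat.card_pos
    have hc1 : c ≠ 1 := by
      rintro rfl
      rw [mul_one] at hc
      exact hne (Subgroup.eq_of_le_of_card_ge hle hc.le)
    have hc0 : c ≠ 0 := by
      rintro rfl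
      rw [mul_zero] at hc; omega
    have : 2 ≤ c := by omega
    calc 2 * Nat.card (fixedSub E) = Nat.card (fixedSub E) * 2 := by ring
      _ ≤ Nat.card (fixedSub E) * c := Nat.mul_le_mul_left _ this
      _ = Nat.card (fixedSub B) := hc.symm
  have hBpos : 0 < Nat.card B := Nat.card_pos
  by_cases hB : B = ⊥
  · -- E = {1, α₀}
    have hcB : Nat.card B = 1 := by rw [hB]; exact Subgroup.card_bot
    refine ⟨α₀, hα₀E, y₀, hy₀Q, hy₀1, hα₀R₀ y₀ hy₀R, ?_⟩
    have h1 : fixedSub E ≤ fixedOne α₀ := fun v hv => hv α₀ hα₀E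
    have h2 : Nat.card (fixedSub E) ≤ Nat.card (fixedOne α₀) := Subgroup.card_le_of_le h1
    have h3 : Nat.card V ≤ 2 * Nat.card (fixedOne α₀) := by
      calc Nat.card V ≤ n * Nat.card (fixedSub E) := hoff
        _ = 2 * Nat.card (fixedSub E) := by rw [← hEn, hcardE, hcB]
        _ ≤ 2 * Nat.card (fixedOne α₀) := Nat.mul_le_mul_left _ h2
    have h4 : fixedOne α₀ ≠ ⊤ := by
      intro htop
      apply hα₀1
      ext v
      have : v ∈ fixedOne α₀ := by rw [htop]; trivial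
      rw [MulAut.one_apply]; exact this
    obtain ⟨c, hc⟩ := Subgroup.card_subgroup_dvd_card (fixedOne α₀)
    have hc1 : c ≠ 1 := by
      rintro rfl
      rw [mul_one] at hc
      exact h4 (Subgroup.eq_top_of_card_eq _ hc.symm)
    have hc0 : c ≠ 0 := by
      rintro rfl
      rw [mul_zero] at hc
      have : 0 < Nat.card V := Nat.card_pos
      omega
    have h5 : 2 * Nat.card (fixedOne α₀) ≤ Nat.card V := by
      have : 2 ≤ c := by omega
      calc 2 * Nat.card (fixedOne α₀) = Nat.card (fixedOne α₀) * 2 := by ring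
        _ ≤ Nat.card (fixedOne α₀) * c := Nat.mul_le_mul_left _ this
        _ = Nat.card V := hc.symm
    omega
  · have hlt : Nat.card B < n := by rw [← hEn, hcardE]; omega
    have hoffB : Nat.card V ≤ Nat.card B * Nat.card (fixedSub B) := by
      calc Nat.card V ≤ n * Nat.card (fixedSub E) := hoff
        _ = Nat.card B * (2 * Nat.card (fixedSub E)) := by rw [← hEn, hcardE]; ring
        _ ≤ Nat.card B * Nat.card (fixedSub B) := Nat.mul_le_mul_left _ hcard2
    obtain ⟨α, hαB, y, hyQ, hy1, hαy, hcard⟩ := ih (Nat.card B) hlt B rfl hB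
      (fun a ha b hb => hEc a ha.1 b hb.1) (fun a ha => hE2 a ha.1)
      (fun a ha => hEQ a ha.1) (fun a ha => hEf a ha.1) hoffB
    exact ⟨α, hBE hαB, y, hyQ, hy1, hαy, hcard⟩

theorem kap_range_ne_bot {y : MulAut V} (hy1 : y ≠ 1) : (kap y).range ≠ ⊥ := by
  intro hbot
  apply hy1
  ext v
  have h1 : kap y v ∈ (kap y).range := ⟨v, rfl⟩
  rw [hbot, Subgroup.mem_bot, kap_apply, inv_mul_eq_one] at h1
  rw [MulAut.one_apply]; exact h1.symm

theorem index_fixedOne [Finite V] (y : MulAut V) :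
    (fixedOne y).index = Nat.card (kap y).range := by
  rw [← ker_kap, Subgroup.index_ker]

/-- a transvection inverting an element of odd order produces a four-group -/
theorem fourGroup_of_transvection [Finite V] (hV : ∀ v : V, v * v = 1)
    {Q : Subgroup (MulAut V)} (hQodd : Odd (Nat.card Q)) {y α : MulAut V} (hy : y ∈ Q)
    (hy1 : y ≠ 1) (hα2 : α * α = 1) (hαy : α * y * α⁻¹ = y⁻¹)
    (hcard : Nat.card V = 2 * Nat.card (fixedOne α)) :
    Nat.card (kap y).range = 4 ∧ (∀ u ∈ (kap y).range, y u ∈ (kap y).range) ∧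
    (∀ u ∈ (kap y).range, α u ∈ (kap y).range) ∧
    (∀ u ∈ (kap y).range, y u = u → u = 1) ∧ (∃ u ∈ (kap y).range, α u ≠ u) := by
  have hαy' : α * y = y⁻¹ * α := by
    calc α * y = (α * y * α⁻¹) * α := by group
      _ = y⁻¹ * α := by rw [hαy]
  have hαyv : ∀ v : V, α (y v) = y⁻¹ (α v) := by
    intro v
    calc α (y v) = (α * y) v := rfl
      _ = (y⁻¹ * α) v := by rw [hαy']
      _ = y⁻¹ (α v) := rfl
  have hyinv : ∀ u ∈ (kap y).range, y u ∈ (kap y).range := by
    rintro _ ⟨v, rfl⟩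
    refine ⟨y v, ?_⟩
    rw [kap_apply, kap_apply, map_mul, map_inv]
  have hαinv : ∀ u ∈ (kap y).range, α u ∈ (kap y).range := by
    rintro _ ⟨v, rfl⟩
    have h1 : α (kap y v) = (kap y (y⁻¹ (α v)))⁻¹ := by
      rw [kap_apply, kap_apply, map_mul, map_inv, hαyv, mul_inv, inv_inv]
      have : y (y⁻¹ (α v)) = α v := by
        calc y (y⁻¹ (α v)) = (y * y⁻¹) (α v) := rfl
          _ = α v := by rw [mul_inv_cancel]; rfl
      rw [this, mul_comm]
    rw [h1]
    exact Subgroup.inv_mem _ ⟨_, rfl⟩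
  have hfpf : ∀ u ∈ (kap y).range, y u = u → u = 1 := by
    rintro _ ⟨v, rfl⟩ h
    exact eq_one_of_kap_fixed hV hQodd hy v h
  obtain ⟨k, hk⟩ := exists_pow_sq_eq hQodd hy
  have hsqfix : ∀ u : V, (y * y) u = u → y u = u := by
    intro u hu
    have hpow : ∀ i : ℕ, ((y * y) ^ i) u = u := by
      intro i
      induction i with
      | zero => simp
      | succ i ih => rw [pow_succ, MulAut.mul_apply, hu, ih]
    have := hpow k
    rwa [hk] at this
  have hne := kap_range_ne_bot hy1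
  have hmove : ∃ u ∈ (kap y).range, α u ≠ u := by
    by_contra hcon
    push Not at hcon
    apply hne
    rw [eq_bot_iff]
    intro u hu
    rw [Subgroup.mem_bot]
    apply hfpf u hu
    apply hsqfix
    have h1 : α (y u) = y u := hcon _ (hyinv u hu)
    have h2 : α (y u) = y⁻¹ u := by rw [hαyv, hcon u hu]
    have h3 : y u = y⁻¹ u := by rw [← h1, h2]
    calc (y * y) u = y (y u) := rfl
      _ = y (y⁻¹ u) := by rw [h3]
      _ = (y * y⁻¹) u := rfl
      _ = u := by rw [mul_inv_cancel]; rfl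
  refine ⟨?_, hyinv, hαinv, hfpf, hmove⟩
  -- the order
  have hidxα : (fixedOne α).index = 2 := by
    have h1 := Subgroup.card_mul_index (fixedOne α)
    rw [hcard] at h1
    have hpos : 0 < Nat.card (fixedOne α) := Nat.card_pos
    have : Nat.card (fixedOne α) * (fixedOne α).index = Nat.card (fixedOne α) * 2 := by
      rw [h1]; ring
    exact Nat.eq_of_mul_eq_mul_left hpos this
  set α' : MulAut V := y⁻¹ * α * y with hα'
  have hprod : α * α' = y * y := by
    rw [hα']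
    calc α * (y⁻¹ * α * y) = α * (y⁻¹ * α) * y := by group
      _ = α * (α * y) * y := by rw [hαy']
      _ = (α * α) * y * y := by group
      _ = y * y := by rw [hα2, one_mul]
  have hfixα' : fixedOne α' = (fixedOne α).comap y.toMonoidHom := by
    ext v
    rw [Subgroup.mem_comap]
    show α' v = v ↔ α (y v) = y v
    rw [hα']
    show y⁻¹ (α (y v)) = v ↔ α (y v) = y v
    constructor
    · intro h
      calc α (y v) = (y * y⁻¹) (α (y v)) := by rw [mul_inv_cancel]; rfl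
        _ = y (y⁻¹ (α (y v))) := rfl
        _ = y v := by rw [h]
    · intro h
      rw [h]
      calc y⁻¹ (y v) = (y⁻¹ * y) v := rfl
        _ = v := by rw [inv_mul_cancel]; rfl
  have hidxα' : (fixedOne α').index = 2 := by
    rw [hfixα', Subgroup.index_comap_of_surjective _ y.surjective, hidxα]
  have hle1 : fixedOne α ⊓ fixedOne α' ≤ fixedOne (y * y) := by
    rintro v ⟨h1, h2⟩
    show (y * y) v = v
    rw [← hprod]
    show α (α' v) = v
    have h1' : α v = v := h1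
    have h2' : α' v = v := h2
    rw [h2', h1']
  have hle2 : fixedOne (y * y) ≤ fixedOne y := fun v hv => hsqfix v hv
  have hbound : Nat.card (kap y).range ≤ 4 := by
    rw [← index_fixedOne]
    have h1 : (fixedOne y).index ∣ (fixedOne α ⊓ fixedOne α').index :=
      Subgroup.index_dvd_of_le (hle1.trans hle2)
    have h2 : (fixedOne α ⊓ fixedOne α').index ≤ 2 * 2 := by
      have := Subgroup.index_inf_le (H := fixedOne α) (K := fixedOne α')
      rwa [hidxα, hidxα'] at this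
    have h3 : (fixedOne α ⊓ fixedOne α').index ≠ 0 := Subgroup.index_ne_zero_of_finite
    have := Nat.le_of_dvd (Nat.pos_of_ne_zero h3) h1
    omega
  have hp2 : IsPGroup 2 (kap y).range := by
    intro v
    refine ⟨1, ?_⟩
    rw [pow_one, pow_two]
    exact Subtype.ext (hV v)
  obtain ⟨j, hj⟩ := IsPGroup.iff_card.mp hp2
  have hj0 : j ≠ 0 := by
    rintro rfl
    rw [pow_zero] at hj
    exact hne (Subgroup.eq_bot_of_card_eq _ hj)
  have hj1 : j ≠ 1 := by
    rintro rfl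
    rw [pow_one] at hj
    obtain ⟨x, hx⟩ := (Subgroup.ne_bot_iff_exists_ne_one (H := (kap y).range)).mp hne
    obtain ⟨z, -, hz⟩ := (Nat.card_eq_two_iff' (1 : (kap y).range)).mp hj
    have h1 : (⟨y x, hyinv x x.2⟩ : (kap y).range) ≠ 1 := by
      intro h
      have h2 : y (x : V) = 1 := congrArg Subtype.val h
      have h3 : (x : V) = 1 := by
        have : y (x : V) = y 1 := by rw [h2, map_one]
        exact y.injective this
      exact hx (Subtype.ext h3)
    have h2 : (⟨y x, hyinv x x.2⟩ : (kap y).range) = x := (hz _ h1).trans (hz x hx).symm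
    have h3 : y (x : V) = x := congrArg Subtype.val h2
    exact hx (Subtype.ext (hfpf x x.2 h3))
  have hj2 : j ≤ 2 := by
    by_contra hcon
    push Not at hcon
    have : 2 ^ 3 ≤ 2 ^ j := Nat.pow_le_pow_right (by norm_num) hcon
    omega
  have : j = 2 := by omega
  rw [hj, this]
  norm_num

end Cfsg.Agent.Helper34.TNC
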