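import Cfsg.Agent.Lib.Helper34.TNC5
import Cfsg.Agent.Lib.Helper34.TNC6
import Cfsg.Agent.Lib.Helper34.TNC7
import Cfsg.Agent.Lib.Helper34.TNC4

/-!
# Thompson normal p-complement: the endgame, for an abstract module
-/

set_option autoImplicit false
set_option linter.unusedSectionVars false
set_option linter.unusedVariables false

namespace Cfsg.Agent.Helper34.TNC

open Cfsg

section Endgame

variable {G : Type*} [Group G] [Finite G] {𝕍 : Type*} [CommGroup 𝕍] [Finite 𝕍]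
  (ι : 𝕍 →* G) (hι : Function.Injective ι) (ρ : G →* MulAut 𝕍)
  (hρ : ∀ g v, ι (ρ g v) = g * ι v * g⁻¹)
  {p : ℕ} [hp : Fact p.Prime] (hexp : ∀ v : 𝕍, v ^ p = 1)
  (A L : Subgroup G) [hLn : L.Normal]
  (hquad : ∀ a ∈ A, ∀ v, ρ a (ρ a v / v) = ρ a v / v)
  (hLab : ∀ l ∈ L, ∀ l' ∈ L, ρ l * ρ l' = ρ l' * ρ l)
  (hLcop : (Nat.card (L.map ρ)).Coprime p)
  (hfaith : ∀ a ∈ A, (∀ l ∈ L, ρ (a * l * a⁻¹) = ρ l) → ρ a = 1)
  (hA1 : ∃ a ∈ A, ρ a ≠ 1)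

include hexp hquad hLab hLcop hfaith hA1 in
theorem endgame_odd (hp2 : p ≠ 2) : False := by
  obtain ⟨a, ha, ha1⟩ := hA1
  apply ha1
  apply hfaith a ha
  have hQc : ∀ β ∈ L.map ρ, ∀ γ ∈ L.map ρ, β * γ = γ * β := by
    rintro _ ⟨l, hl, rfl⟩ _ ⟨l', hl', rfl⟩
    exact hLab l hl l' hl'
  have hQα : ∀ β ∈ L.map ρ, (ρ a)⁻¹ * β * ρ a ∈ L.map ρ := by
    rintro _ ⟨l, hl, rfl⟩
    refine ⟨a⁻¹ * l * a, ?_, ?_⟩
    · have := hLn.conj_mem l hl a⁻¹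
      rwa [inv_inv] at this
    · rw [map_mul, map_mul, map_inv]
  have key := quad_centralizes hp2 hexp (ρ a) (hquad a ha) (L.map ρ) hQc hLcop hQα
  intro l hl
  have h1 := key (ρ l) ⟨l, hl, rfl⟩
  rw [map_mul, map_mul, map_inv]
  calc ρ a * ρ l * (ρ a)⁻¹ = ρ a * ((ρ a)⁻¹ * ρ l * ρ a) * (ρ a)⁻¹ := by rw [h1]
    _ = ρ l := by group

include hι hρ hexp hquad hLab hLcop hfaith hA1 in
theorem endgame_two (hp2 : p = 2)
    (hoff : Nat.card 𝕍 ≤ Nat.card (A.map ρ) * Nat.card (fixedSub (A.map ρ)))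
    (hAc : ∀ a ∈ A, ∀ a' ∈ A, a * a' = a' * a) :
    Cfsg.Involves (Equiv.Perm (Fin 4)) G := by
  subst hp2
  have hV : ∀ v : 𝕍, v * v = 1 := fun v => by rw [← pow_two]; exact hexp v
  have hQc : ∀ β ∈ L.map ρ, ∀ γ ∈ L.map ρ, β * γ = γ * β := by
    rintro _ ⟨l, hl, rfl⟩ _ ⟨l', hl', rfl⟩
    exact hLab l hl l' hl'
  have hQodd : Odd (Nat.card (L.map ρ)) := Nat.coprime_two_right.mp hLcop
  have hE : A.map ρ ≠ ⊥ := by
    obtain ⟨a, ha, ha1⟩ := hA1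
    intro h
    apply ha1
    have : ρ a ∈ A.map ρ := ⟨a, ha, rfl⟩
    rwa [h, Subgroup.mem_bot] at this
  have hEc : ∀ α ∈ A.map ρ, ∀ α' ∈ A.map ρ, α * α' = α' * α := by
    rintro _ ⟨a, ha, rfl⟩ _ ⟨a', ha', rfl⟩
    rw [← map_mul, ← map_mul, hAc a ha a' ha']
  have hE2 : ∀ α ∈ A.map ρ, α * α = 1 := by
    rintro _ ⟨a, ha, rfl⟩
    rw [← pow_two]
    exact quad_pow_p (ρ a) (hquad a ha) hexp
  have hEQ : ∀ α ∈ A.map ρ, ∀ β ∈ L.map ρ, α * β * α⁻¹ ∈ L.map ρ := by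
    rintro _ ⟨a, ha, rfl⟩ _ ⟨l, hl, rfl⟩
    exact ⟨a * l * a⁻¹, hLn.conj_mem l hl a, by rw [map_mul, map_mul, map_inv]⟩
  have hEf : ∀ α ∈ A.map ρ, (∀ β ∈ L.map ρ, α * β * α⁻¹ = β) → α = 1 := by
    rintro _ ⟨a, ha, rfl⟩ h
    apply hfaith a ha
    intro l hl
    rw [map_mul, map_mul, map_inv]
    exact h (ρ l) ⟨l, hl, rfl⟩
  obtain ⟨α, hαE, y, hyQ, hy1, hαy, hcard⟩ :=
    exists_transvection hV (L.map ρ) hQc hQodd _ (A.map ρ) rfl hE hEc hE2 hEQ hEf hoff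
  obtain ⟨hU4, hyinv, hαinv, hfpf, hmove⟩ :=
    fourGroup_of_transvection hV hQodd hyQ hy1 (hE2 α hαE) hαy hcard
  obtain ⟨a, ha, rfl⟩ := hαE
  obtain ⟨l, hl, rfl⟩ := hyQ
  set U : Subgroup G := (kap (ρ l)).range.map ι with hU
  have hcardU : Nat.card U = 4 := by
    rw [hU, Subgroup.card_map_of_injective hι, hU4]
  apply involves_S4_of_fourGroup U hcardU l a
  · apply mem_normalizer_of_conj_mem_finite
    rintro _ ⟨w, hw, rfl⟩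
    exact ⟨ρ l w, hyinv w hw, hρ l w⟩
  · apply mem_normalizer_of_conj_mem_finite
    rintro _ ⟨w, hw, rfl⟩
    exact ⟨ρ a w, hαinv w hw, hρ a w⟩
  · rintro _ ⟨w, hw, rfl⟩ h
    rw [← hρ] at h
    have := hfpf w hw (hι h)
    rw [this, map_one]
  · obtain ⟨w, hw, hne⟩ := hmove
    refine ⟨ι w, ⟨w, hw, rfl⟩, ?_⟩
    rw [← hρ]
    intro h
    exact hne (hι h)
  · rintro _ ⟨w, hw, rfl⟩
    rw [← hρ, map_mul, hE2 (ρ a) ⟨a, ha, rfl⟩]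
    rfl

end Endgame

end Cfsg.Agent.Helper34.TNC
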