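import Cfsg.Agent.Lib.Helper34.TNC9
import Cfsg.Agent.Lib.Helper34.TNC10
import Cfsg.Agent.Lib.Helper51.Replacement

/-!
# Thompson normal p-complement: the module `V`, the offender `A`, and the contradiction
-/

set_option autoImplicit false
set_option linter.unusedSectionVars false
set_option linter.unusedVariables false

namespace Cfsg.Agent.Helper34.TNC

open Cfsg
open scoped commutatorElement

universe u

variable {G : Type u} [Group G] [Finite G] {p : ℕ} [hp : Fact p.Prime]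

theorem coe_mem_normalizer_map {S : Subgroup G} {A' : Subgroup S} {x : S}
    (hx : x ∈ Subgroup.normalizer (A' : Set S)) :
    (x : G) ∈ Subgroup.normalizer ((A'.map S.subtype : Subgroup G) : Set G) := by
  apply mem_normalizer_of_conj_mem_finite
  rintro _ ⟨a, ha, rfl⟩
  exact ⟨x * a * x⁻¹, (Subgroup.mem_normalizer_iff.mp hx a).mp ha, rfl⟩

/-- Thompson's replacement theorem, inside an ambient group -/
theorem replacement_ambient (S : Subgroup G) (hS : IsPGroup p S) (A V : Subgroup G)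
    (hA : A ∈ MaxAb S) (hVS : V ≤ S) (hVc : ∀ v ∈ V, ∀ v' ∈ V, v * v' = v' * v)
    (hVn : S ≤ Subgroup.normalizer (V : Set G))
    (hVA : ¬ V ≤ Subgroup.normalizer (A : Set G)) :
    ∃ B ∈ MaxAb S, Nat.card (A ⊓ V : Subgroup G) < Nat.card (B ⊓ V : Subgroup G) ∧
      B ≤ Subgroup.normalizer (A : Set G) := by
  classical
  obtain ⟨A', hA', hA'A⟩ : ∃ A' ∈ Cfsg.maxAbelianSubgroups ↥S, A'.map S.subtype = A :=
    (Cfsg.Agent.Helper11.Repl.mem_image_maxAbelian_iff S A).mpr hA
  set D : Subgroup S := V.subgroupOf S with hD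
  have hDc : IsMulCommutative D := by
    refine ⟨⟨fun a b => ?_⟩⟩
    apply Subtype.ext
    apply Subtype.ext
    exact hVc _ (Subgroup.mem_subgroupOf.mp a.2) _ (Subgroup.mem_subgroupOf.mp b.2)
  have hDconj : ∀ d ∈ D, ∀ s : S, s * d * s⁻¹ ∈ D := by
    intro d hd s
    rw [hD, Subgroup.mem_subgroupOf] at hd ⊢
    exact (Subgroup.mem_normalizer_iff.mp (hVn s.2) d).mp hd
  have hnil : Group.IsNilpotent S := hS.isNilpotent
  obtain ⟨n, hn⟩ := Group.IsNilpotent.nilpotent S
  let P : ℕ → Prop := fun i => D ⊓ Subgroup.upperCentralSeries S i ≤ Subgroup.normalizer (A' : Set S)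
  have hP0 : P 0 := by
    show D ⊓ Subgroup.upperCentralSeries S 0 ≤ _
    rw [Subgroup.upperCentralSeries_zero, inf_bot_eq]
    exact bot_le
  have hPn : ¬ P n := by
    intro h
    apply hVA
    intro v hv
    have h1 : (⟨v, hVS hv⟩ : S) ∈ D ⊓ Subgroup.upperCentralSeries S n := by
      rw [hn, inf_top_eq, hD, Subgroup.mem_subgroupOf]
      exact hv
    have h2 := coe_mem_normalizer_map (h h1)
    rwa [hA'A] at h2
  obtain ⟨i, hPi, hPi1⟩ : ∃ i, P i ∧ ¬ P (i + 1) := by
    by_contra hcon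
    push Not at hcon
    exact hPn (Nat.rec hP0 (fun i ih => hcon i ih) n)
  obtain ⟨x, hx, hxN⟩ := SetLike.not_le_iff_exists.mp hPi1
  have hxa : ∀ a ∈ A', ⁅x, a⁆ ∈ D ⊓ Subgroup.normalizer (A' : Set S) := by
    intro a ha
    have h1 : ⁅x, a⁆ ∈ Subgroup.upperCentralSeries S i := Subgroup.mem_upperCentralSeries_succ_iff.mp hx.2 a
    have h2 : ⁅x, a⁆ ∈ D := by
      rw [commutatorElement_def]
      have h3 : a * x⁻¹ * a⁻¹ ∈ D := hDconj _ (D.inv_mem hx.1) a
      have h4 : x * a * x⁻¹ * a⁻¹ = x * (a * x⁻¹ * a⁻¹) := by group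
      rw [h4]
      exact D.mul_mem hx.1 h3
    exact ⟨h2, hPi ⟨h2, h1⟩⟩
  obtain ⟨B', hB', hlt, hBN⟩ :=
    Cfsg.Agent.Helper51.thompson_replacement_core A' D hA' hDc x hxN hxa
  refine ⟨B'.map S.subtype,
    (Cfsg.Agent.Helper11.Repl.mem_image_maxAbelian_iff S _).mp ⟨B', hB', rfl⟩, ?_, ?_⟩
  · have hmapD : D.map S.subtype = V := Subgroup.map_subgroupOf_eq_of_le hVS
    have e1 : (A ⊓ V : Subgroup G) = (A' ⊓ D).map S.subtype := by
      rw [Subgroup.map_inf _ _ _ S.subtype_injective, hA'A, hmapD]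
    have e2 : (B'.map S.subtype ⊓ V : Subgroup G) = (B' ⊓ D).map S.subtype := by
      rw [Subgroup.map_inf _ _ _ S.subtype_injective, hmapD]
    rw [e1, e2, Subgroup.card_map_of_injective S.subtype_injective,
      Subgroup.card_map_of_injective S.subtype_injective]
    exact Cfsg.Agent.Helper2.card_lt_card_of_lt' hlt
  · rintro _ ⟨b, hb, rfl⟩
    have := coe_mem_normalizer_map (hBN hb)
    rwa [hA'A] at this

/-- the module -/
structure IsMod (p : ℕ) (H L V : Subgroup G) : Prop where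
  normal : V.Normal
  le : V ≤ ZS H
  exp : ∀ v ∈ V, v ^ p = 1
  cent : Subgroup.centralizer (V : Set G) ⊓ L = H

theorem zs_le_zs_core (mc : MinCE p G) {H L : Subgroup G} (hH : IsCore p H)
    (hL : IsCompl p H L) (S : Sylow p G) : ZS (S : Subgroup G) ≤ ZS H := by
  intro x hx
  have h1 : x ∈ Subgroup.centralizer (H : Set G) :=
    Subgroup.centralizer_le (SetLike.coe_subset_coe.mpr (hH.le_sylow S)) hx.2
  exact ⟨mc.centralizer_core_le hH hL h1, h1⟩

theorem MinCE.exists_mod (mc : MinCE p G) {H L : Subgroup G} (hH : IsCore p H)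
    (hL : IsCompl p H L) (S : Sylow p G) : ∃ V : Subgroup G, IsMod p H L V := by
  have hn := hH.normal
  have hLn := hL.normal
  have hZHn : (ZS H).Normal := by
    rw [← Subgroup.normalizer_eq_top_iff, ← top_le_iff, ← Subgroup.normalizer_eq_top_iff.mpr hn]
    exact normalizer_le_normalizer_zs H
  set W : Subgroup G := Subgroup.normalClosure (ZS (S : Subgroup G) : Set G) with hW
  have hWn : W.Normal := Subgroup.normalClosure_normal
  have hWZ : W ≤ ZS H := Subgroup.normalClosure_le_normal (zs_le_zs_core mc hH hL S)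
  have hWc : ∀ w ∈ W, ∀ w' ∈ W, w * w' = w' * w := by
    intro w hw w' hw'
    exact (Subgroup.mem_centralizer_iff.mp (hWZ hw').2 w (hWZ hw).1)
  have hWp : IsPGroup p W := hH.isP.to_le (hWZ.trans (zs_le H))
  have hCW : Subgroup.centralizer (W : Set G) ≤ H := by
    have hCn : (Subgroup.centralizer (W : Set G)).Normal := Subgroup.normal_centralizer
    apply mc.le_core_of_pn hH
    apply (mc.hsyl S).1.mono
    exact Subgroup.centralizer_le Subgroup.subset_normalClosure
  let V : Subgroup G :=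
    { carrier := {w | w ∈ W ∧ w ^ p = 1}
      one_mem' := ⟨W.one_mem, one_pow p⟩
      mul_mem' := by
        rintro a b ⟨ha, hap⟩ ⟨hb, hbp⟩
        refine ⟨W.mul_mem ha hb, ?_⟩
        have hc : Commute a b := hWc a ha b hb
        rw [hc.mul_pow, hap, hbp, one_mul]
      inv_mem' := by
        rintro a ⟨ha, hap⟩
        exact ⟨W.inv_mem ha, by rw [inv_pow, hap, inv_one]⟩ }
  have hVW : V ≤ W := fun v hv => hv.1
  have hVn : V.Normal := by
    constructor
    rintro v ⟨hv, hvp⟩ g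
    refine ⟨hWn.conj_mem v hv g, ?_⟩
    rw [conj_pow, hvp]; group
  have hHCV : H ≤ Subgroup.centralizer (V : Set G) := by
    intro h hh
    rw [Subgroup.mem_centralizer_iff]
    intro v hv
    exact ((Subgroup.mem_centralizer_iff.mp (hWZ (hVW hv)).2) h hh).symm
  refine ⟨V, hVn, hVW.trans hWZ, fun v hv => hv.2, ?_⟩
  have hCVn : (Subgroup.centralizer (V : Set G)).Normal := Subgroup.normal_centralizer
  have hXn : (Subgroup.centralizer (V : Set G) ⊓ L).Normal := inferInstance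
  rcases mc.minimality hH hL S (le_inf hHCV hL.le) inf_le_right
    (by rw [Subgroup.normalizer_eq_top_iff.mpr hXn]; exact le_top) with h | h
  · exact h
  · exfalso
    apply mc.hnot
    apply pn_of_isPGroup
    apply isPGroup_of_coprime_eq_one
    intro y _ hy
    have hyL : y ∈ L := hL.mem_of_coprime hy
    have hyC : y ∈ Subgroup.centralizer (V : Set G) := by
      have : y ∈ Subgroup.centralizer (V : Set G) ⊓ L := by rw [h]; exact hyL
      exact this.1
    have hyW : ∀ w ∈ W, y * w * y⁻¹ = w := by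
      apply centralizes_of_centralizes_omega hWp hWc hy (fun w hw => hWn.conj_mem w hw y)
      intro w hw hwp
      have := (Subgroup.mem_centralizer_iff.mp hyC) w ⟨hw, hwp⟩
      rw [← this]; group
    have hyCW : y ∈ Subgroup.centralizer (W : Set G) := by
      rw [Subgroup.mem_centralizer_iff]
      intro w hw
      have := hyW w hw
      calc w * y = (y * w * y⁻¹) * y := by rw [this]
        _ = y * w := by group
    exact eq_one_of_isPGroup_of_coprime hH.isP (hCW hyCW) hy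

theorem isMulCommutative_sup {X Y : Subgroup G} (hX : ∀ x ∈ X, ∀ x' ∈ X, x * x' = x' * x)
    (hY : ∀ y ∈ Y, ∀ y' ∈ Y, y * y' = y' * y) (hXY : ∀ x ∈ X, ∀ y ∈ Y, x * y = y * x) :
    IsMulCommutative ↥(X ⊔ Y) := by
  have e : X ⊔ Y = Subgroup.closure ((X : Set G) ∪ (Y : Set G)) := by
    rw [Subgroup.closure_union, Subgroup.closure_eq, Subgroup.closure_eq]
  rw [e]
  apply Subgroup.isMulCommutative_closure
  rintro g (hg | hg) g' (hg' | hg')
  · exact hX g hg g' hg'
  · exact hXY g hg g' hg'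
  · exact (hXY g' hg' g hg).symm
  · exact hY g hg g' hg'

theorem IsMod.comm {H L V : Subgroup G} (hV : IsMod p H L V) :
    ∀ v ∈ V, ∀ v' ∈ V, v * v' = v' * v := by
  intro v hv v' hv'
  exact (Subgroup.mem_centralizer_iff.mp (hV.le hv').2 v (hV.le hv).1)

theorem MinCE.exists_off (mc : MinCE p G) {H L : Subgroup G} (hH : IsCore p H)
    (hL : IsCompl p H L) (S : Sylow p G) {V : Subgroup G} (hV : IsMod p H L V) :
    ∃ A ∈ MaxAb (S : Subgroup G), ¬ A ≤ H ∧ V ≤ Subgroup.normalizer (A : Set G) := by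
  classical
  have hn := hH.normal
  have hVn := hV.normal
  have hHS := hH.le_sylow S
  have hVH : V ≤ H := hV.le.trans (zs_le H)
  let 𝒜 : Set (Subgroup G) := {A | A ∈ MaxAb (S : Subgroup G) ∧ ¬ A ≤ H}
  have hne : 𝒜.Nonempty := by
    by_contra hcon
    apply mc.hnot
    have hall : ∀ A ∈ MaxAb (S : Subgroup G), A ≤ H := by
      intro A hA
      by_contra hAH
      exact hcon ⟨A, hA, hAH⟩
    have hJ : Cfsg.thompsonSubgroupAOf (S : Subgroup G) ≤ H := by
      rw [jA_eq]; exact sSup_le hall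
    have hJeq := jA_eq_of_le hHS hJ
    have h1 := normalizer_le_normalizer_jA H
    rw [Subgroup.normalizer_eq_top_iff.mpr hn, hJeq] at h1
    exact (mc.hsyl S).2.mono h1
  obtain ⟨A, hA, hAmax⟩ := Set.exists_max_image 𝒜
    (fun A => Nat.card (A ⊓ V : Subgroup G)) (Set.toFinite _) hne
  refine ⟨A, hA.1, hA.2, ?_⟩
  by_contra hVA
  obtain ⟨B, hB, hlt, hBN⟩ := replacement_ambient (S : Subgroup G) S.isPGroup' A V hA.1
    (hVH.trans hHS) hV.comm
    (by rw [Subgroup.normalizer_eq_top_iff.mpr hVn]; exact le_top) hVA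
  have hBH : B ≤ H := by
    by_contra hBH
    exact absurd (hAmax B ⟨hB, hBH⟩) (not_le.mpr hlt)
  have hBc : ∀ b ∈ B, ∀ b' ∈ B, b * b' = b' * b := by
    intro b hb b' hb'
    have := hB.2.1
    exact setLike_mul_comm hb hb'
  have hsupc : IsMulCommutative ↥(B ⊔ V) := by
    apply isMulCommutative_sup hBc hV.comm
    intro b hb v hv
    exact (Subgroup.mem_centralizer_iff.mp (hV.le hv).2 b (hBH hb))
  have hcard := hB.2.2 (B ⊔ V) (sup_le hB.1 (hVH.trans hHS)) hsupc
  have heq : B = B ⊔ V := Subgroup.eq_of_le_of_card_ge le_sup_left hcard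
  apply hVA
  exact (le_sup_right.trans heq.ge).trans hBN

theorem offender_ineq (S : Subgroup G) {A H V : Subgroup G} (hA : A ∈ MaxAb S) (hHS : H ≤ S)
    [V.Normal] (hVZ : V ≤ ZS H) :
    Nat.card V * Nat.card (A ⊓ H : Subgroup G) ≤
      Nat.card A * Nat.card (V ⊓ Subgroup.centralizer (A : Set G) : Subgroup G) := by
  have hAc : ∀ a ∈ A, ∀ a' ∈ A, a * a' = a' * a := by
    intro a ha a' ha'
    have := hA.2.1
    exact setLike_mul_comm ha ha'
  have hVc : ∀ v ∈ V, ∀ v' ∈ V, v * v' = v' * v := by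
    intro v hv v' hv'
    exact (Subgroup.mem_centralizer_iff.mp (hVZ hv').2 v (hVZ hv).1)
  have hBc : IsMulCommutative ↥((A ⊓ H) ⊔ V) := by
    apply isMulCommutative_sup (X := A ⊓ H) (Y := V)
      (fun a ha a' ha' => hAc a (Subgroup.mem_inf.mp ha).1 a' (Subgroup.mem_inf.mp ha').1) hVc
    intro x hx v hv
    exact (Subgroup.mem_centralizer_iff.mp (hVZ hv).2 x hx.2)
  have hBS : (A ⊓ H) ⊔ V ≤ S := sup_le (inf_le_left.trans hA.1) ((hVZ.trans (zs_le H)).trans hHS)
  have h1 := hA.2.2 _ hBS hBc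
  have h2 := card_sup_mul_card_inf (A ⊓ H) V
  have h3 : Nat.card ((A ⊓ H) ⊓ V : Subgroup G) ≤
      Nat.card (V ⊓ Subgroup.centralizer (A : Set G) : Subgroup G) := by
    apply Subgroup.card_le_of_le
    rintro x ⟨⟨hxA, -⟩, hxV⟩
    refine ⟨hxV, ?_⟩
    apply Subgroup.mem_centralizer_iff.mpr
    intro a ha
    exact hAc a ha x hxA
  calc Nat.card V * Nat.card (A ⊓ H : Subgroup G)
      = Nat.card ((A ⊓ H) ⊔ V : Subgroup G) * Nat.card ((A ⊓ H) ⊓ V : Subgroup G) := by
        rw [h2]; ring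
    _ ≤ Nat.card A * Nat.card (V ⊓ Subgroup.centralizer (A : Set G) : Subgroup G) :=
        Nat.mul_le_mul h1 h3

/-- the module as a type with a commutative group structure -/
def VMod (V : Subgroup G) (_h : ∀ v ∈ V, ∀ v' ∈ V, v * v' = v' * v) : Type u := ↥V

instance VMod.instCommGroup (V : Subgroup G) (h : ∀ v ∈ V, ∀ v' ∈ V, v * v' = v' * v) :
    CommGroup (VMod V h) :=
  show CommGroup ↥V from
  { V.toGroup with
    mul_comm := fun a b => Subtype.ext (h a.1 a.2 b.1 b.2) }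

instance VMod.instFinite [Finite G] (V : Subgroup G) (h : ∀ v ∈ V, ∀ v' ∈ V, v * v' = v' * v) :
    Finite (VMod V h) := inferInstanceAs (Finite ↥V)

def VMod.ι (V : Subgroup G) (h : ∀ v ∈ V, ∀ v' ∈ V, v * v' = v' * v) : VMod V h →* G :=
  V.subtype

def VMod.ρ (V : Subgroup G) [V.Normal] (h : ∀ v ∈ V, ∀ v' ∈ V, v * v' = v' * v) :
    G →* MulAut (VMod V h) :=
  (MulAut.conjNormal : G →* MulAut ↥V)

theorem VMod.ι_injective (V : Subgroup G) (h : ∀ v ∈ V, ∀ v' ∈ V, v * v' = v' * v) :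
    Function.Injective (VMod.ι V h) := V.subtype_injective

theorem VMod.ι_ρ (V : Subgroup G) [V.Normal] (h : ∀ v ∈ V, ∀ v' ∈ V, v * v' = v' * v)
    (g : G) (v : VMod V h) : VMod.ι V h (VMod.ρ V h g v) = g * VMod.ι V h v * g⁻¹ := rfl

theorem VMod.ι_mem (V : Subgroup G) (h : ∀ v ∈ V, ∀ v' ∈ V, v * v' = v' * v) (v : VMod V h) :
    VMod.ι V h v ∈ V := v.2

theorem VMod.ι_div (V : Subgroup G) (h : ∀ v ∈ V, ∀ v' ∈ V, v * v' = v' * v) (v w : VMod V h) :
    VMod.ι V h (v / w) = VMod.ι V h v * (VMod.ι V h w)⁻¹ := by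
  rw [map_div, div_eq_mul_inv]

theorem VMod.exists_eq (V : Subgroup G) (h : ∀ v ∈ V, ∀ v' ∈ V, v * v' = v' * v) {x : G}
    (hx : x ∈ V) : ∃ v : VMod V h, VMod.ι V h v = x := ⟨⟨x, hx⟩, rfl⟩

theorem VMod.card [Finite G] (V : Subgroup G) (h : ∀ v ∈ V, ∀ v' ∈ V, v * v' = v' * v) :
    Nat.card (VMod V h) = Nat.card V := rfl

/-- a minimal counterexample does not exist -/
theorem MinCE.false (mc : MinCE p G) : False := by
  obtain ⟨H, hH⟩ := mc.exists_core
  obtain ⟨L, hL⟩ := mc.exists_compl hH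
  obtain ⟨S⟩ : Nonempty (Sylow p G) := Sylow.nonempty
  obtain ⟨V, hV⟩ := mc.exists_mod hH hL S
  obtain ⟨A, hA, hAH, hVA⟩ := mc.exists_off hH hL S hV
  have hn := hH.normal
  have hLn := hL.normal
  have hVn := hV.normal
  have hHS := hH.le_sylow S
  have hAS : A ≤ (S : Subgroup G) := hA.1
  have hAc : ∀ a ∈ A, ∀ a' ∈ A, a * a' = a' * a := by
    intro a ha a' ha'
    have := hA.2.1
    exact setLike_mul_comm ha ha'
  have hCVn : (Subgroup.centralizer (V : Set G)).Normal := Subgroup.normal_centralizer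
  have hHCV : H ≤ Subgroup.centralizer (V : Set G) := by
    rw [← hV.cent]; exact inf_le_left
  obtain ⟨ι, ρ, hι, hρ, hιmem, hιex⟩ : ∃ (ι : VMod V hV.comm →* G)
      (ρ : G →* MulAut (VMod V hV.comm)), Function.Injective ι ∧
      (∀ g v, ι (ρ g v) = g * ι v * g⁻¹) ∧ (∀ v, ι v ∈ V) ∧ (∀ x ∈ V, ∃ v, ι v = x) :=
    ⟨VMod.ι V hV.comm, VMod.ρ V hV.comm, VMod.ι_injective V hV.comm, VMod.ι_ρ V hV.comm,
      VMod.ι_mem V hV.comm, fun x hx => VMod.exists_eq V hV.comm hx⟩
  have hexp : ∀ v : VMod V hV.comm, v ^ p = 1 := by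
    intro v
    apply hι
    rw [map_pow, map_one]
    exact hV.exp _ (hιmem v)
  have hker : ∀ g, ρ g = 1 ↔ g ∈ Subgroup.centralizer (V : Set G) := by
    intro g
    rw [Subgroup.mem_centralizer_iff]
    constructor
    · intro h x hx
      obtain ⟨v, rfl⟩ := hιex x hx
      have h1 := hρ g v
      rw [h, MulAut.one_apply] at h1
      calc ι v * g = (g * ι v * g⁻¹) * g := by rw [← h1]
        _ = g * ι v := by group
    · intro h
      ext v
      apply hι
      rw [hρ, MulAut.one_apply, ← h _ (hιmem v)]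
      group
  have hkerS : ∀ x ∈ (S : Subgroup G), ρ x = 1 → x ∈ H := by
    intro x hxS hx
    have hxC := (hker x).mp hx
    apply mc.mem_core_of_comm hH hL S hxS
    intro l hl
    rw [← hV.cent]
    refine ⟨?_, ?_⟩
    · exact Subgroup.mul_mem _ (hCVn.conj_mem x hxC l) (Subgroup.inv_mem _ hxC)
    · have e : l * x * l⁻¹ * x⁻¹ = l * (x * l⁻¹ * x⁻¹) := by group
      rw [e]
      exact L.mul_mem hl (hLn.conj_mem _ (L.inv_mem hl) x)
  have hquad : ∀ a ∈ A, ∀ v, ρ a (ρ a v / v) = ρ a v / v := by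
    intro a ha v
    apply hι
    rw [hρ, map_div, div_eq_mul_inv, hρ]
    have hvN := hVA (hιmem v)
    have h1 : ι v * a⁻¹ * (ι v)⁻¹ ∈ A :=
      (Subgroup.mem_normalizer_iff.mp hvN a⁻¹).mp (A.inv_mem ha)
    have h2 : a * ι v * a⁻¹ * (ι v)⁻¹ ∈ A := by
      have e : a * ι v * a⁻¹ * (ι v)⁻¹ = a * (ι v * a⁻¹ * (ι v)⁻¹) := by group
      rw [e]; exact A.mul_mem ha h1
    have h3 := hAc a ha _ h2
    show a * (a * ι v * a⁻¹ * (ι v)⁻¹) * a⁻¹ = a * ι v * a⁻¹ * (ι v)⁻¹
    calc a * (a * ι v * a⁻¹ * (ι v)⁻¹) * a⁻¹ = (a * ι v * a⁻¹ * (ι v)⁻¹) * a * a⁻¹ := by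
          rw [show a * (a * ι v * a⁻¹ * (ι v)⁻¹) = (a * ι v * a⁻¹ * (ι v)⁻¹) * a from h3]
      _ = a * ι v * a⁻¹ * (ι v)⁻¹ := by group
  have hLab : ∀ l ∈ L, ∀ l' ∈ L, ρ l * ρ l' = ρ l' * ρ l := by
    intro l hl l' hl'
    have h1 := mc.comm_mem_core hH hL S l hl l' hl'
    have h2 : ρ (l * l' * l⁻¹ * l'⁻¹) = 1 := (hker _).mpr (hHCV h1)
    rw [map_mul, map_mul, map_mul, map_inv, map_inv] at h2
    calc ρ l * ρ l' = (ρ l * ρ l' * (ρ l)⁻¹ * (ρ l')⁻¹) * (ρ l' * ρ l) := by group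
      _ = ρ l' * ρ l := by rw [h2, one_mul]
  have hkereq : ρ.ker = Subgroup.centralizer (V : Set G) := by
    ext g
    rw [MonoidHom.mem_ker]
    exact hker g
  have hkerL : ρ.ker ⊓ L = H := by
    rw [hkereq]; exact hV.cent
  have hLcop : (Nat.card (L.map ρ)).Coprime p := by
    rw [← Subgroup.relIndex_ker, ← Subgroup.inf_relIndex_right, hkerL]
    exact hL.cop
  have hfaith : ∀ a ∈ A, (∀ l ∈ L, ρ (a * l * a⁻¹) = ρ l) → ρ a = 1 := by
    intro a ha h
    apply (hker a).mpr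
    apply hHCV
    apply mc.mem_core_of_comm hH hL S (hAS ha)
    intro l hl
    have h1 : a * l * a⁻¹ * l⁻¹ ∈ H := by
      rw [← hkerL]
      refine ⟨?_, L.mul_mem (hLn.conj_mem l hl a) (L.inv_mem hl)⟩
      apply MonoidHom.mem_ker.mpr
      rw [map_mul, h l hl, map_inv, mul_inv_cancel]
    have e : l * a * l⁻¹ * a⁻¹ = (a * l * a⁻¹ * l⁻¹)⁻¹ := by group
    rw [e]
    exact H.inv_mem h1
  have hA1 : ∃ a ∈ A, ρ a ≠ 1 := by
    obtain ⟨a, ha, haH⟩ := SetLike.not_le_iff_exists.mp hAH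
    exact ⟨a, ha, fun h => haH (hkerS a (hAS ha) h)⟩
  by_cases hp2 : p = 2
  · rcases mc.hend with h | hS4
    · exact h hp2
    · apply hS4
      refine endgame_two ι hι ρ hρ hexp A L hquad hLab hLcop hfaith hA1 hp2 ?_ hAc
      -- the offender inequality
      have h1 := offender_ineq (S : Subgroup G) hA hHS hV.le
      have hkerA : ρ.ker ⊓ A = H ⊓ A := by
        apply le_antisymm
        · rintro x ⟨hxk, hxA⟩
          exact ⟨hkerS x (hAS hxA) (MonoidHom.mem_ker.mp hxk), hxA⟩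
        · rintro x ⟨hxH, hxA⟩
          exact ⟨MonoidHom.mem_ker.mpr ((hker x).mpr (hHCV hxH)), hxA⟩
      have h2 : Nat.card (A ⊓ H : Subgroup G) * Nat.card (A.map ρ) = Nat.card A := by
        have e1 : Nat.card (A.map ρ) = (A ⊓ H).relIndex A := by
          rw [← Subgroup.relIndex_ker, ← Subgroup.inf_relIndex_right, hkerA, inf_comm]
        rw [e1]
        have := Subgroup.relIndex_mul_relIndex ⊥ (A ⊓ H) A bot_le inf_le_left
        rwa [Subgroup.relIndex_bot_left, Subgroup.relIndex_bot_left] at this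
      have h3 : Nat.card (fixedSub (A.map ρ)) =
          Nat.card (V ⊓ Subgroup.centralizer (A : Set G) : Subgroup G) := by
        have e : (fixedSub (A.map ρ)).map ι = V ⊓ Subgroup.centralizer (A : Set G) := by
          ext x
          constructor
          · rintro ⟨v, hv, rfl⟩
            refine ⟨hιmem v, ?_⟩
            apply Subgroup.mem_centralizer_iff.mpr
            intro a ha
            have h4 : ρ a v = v := hv (ρ a) ⟨a, ha, rfl⟩
            have h5 := hρ a v
            rw [h4] at h5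
            calc a * ι v = (a * ι v * a⁻¹) * a := by group
              _ = ι v * a := by rw [← h5]
          · rintro ⟨hxV, hxC⟩
            obtain ⟨v, rfl⟩ := hιex x hxV
            refine ⟨v, ?_, rfl⟩
            rintro _ ⟨a, ha, rfl⟩
            apply hι
            rw [hρ, (Subgroup.mem_centralizer_iff.mp hxC) a ha]
            group
        rw [← e, Subgroup.card_map_of_injective hι]
      rw [VMod.card, h3]
      have hpos : 0 < Nat.card (A ⊓ H : Subgroup G) := Nat.card_pos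
      rw [← h2] at h1
      have h4 : Nat.card (A ⊓ H : Subgroup G) * Nat.card V ≤ Nat.card (A ⊓ H : Subgroup G) *
          (Nat.card (A.map ρ) *
            Nat.card (V ⊓ Subgroup.centralizer (A : Set G) : Subgroup G)) := by
        calc Nat.card (A ⊓ H : Subgroup G) * Nat.card V
            = Nat.card V * Nat.card (A ⊓ H : Subgroup G) := by ring
          _ ≤ _ := h1
          _ = _ := by ring
      exact Nat.le_of_mul_le_mul_left h4 hpos
  · exact endgame_odd ρ hexp A L hquad hLab hLcop hfaith hA1 hp2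

end Cfsg.Agent.Helper34.TNC
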