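import Cfsg.Agent.Lib.Helper34.TNC11

/-!
# Thompson's normal p-complement theorem (abelian-version Thompson subgroup; `S₄`-free for `p = 2`)
-/

set_option autoImplicit false
set_option linter.unusedSectionVars false
set_option linter.unusedVariables false

namespace Cfsg.Agent.Helper34.TNC

open Cfsg

universe u

theorem thompson_aux (p : ℕ) [hp : Fact p.Prime] : ∀ (n : ℕ) (G : Type u) [Group G] [Finite G],
    Nat.card G = n → (p ≠ 2 ∨ ¬ Cfsg.Involves (Equiv.Perm (Fin 4)) G) →
    ∀ S : Sylow p G, Hyp p (S : Subgroup G) → PN p (⊤ : Subgroup G) := by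
  intro n
  induction n using Nat.strong_induction_on with
  | _ n ih =>
  intro G _ _ hn hend S hS
  by_contra hnot
  apply MinCE.false (p := p) (G := G)
  refine ⟨hend, hnot, ?_, ?_, ?_⟩
  · intro S'
    obtain ⟨g, hg⟩ := MulAction.exists_smul_eq G S S'
    have h1 := hyp_conj (S : Subgroup G) g hS
    have e : ((g • S : Sylow p G) : Subgroup G) =
        (S : Subgroup G).map (MulAut.conj g).toMonoidHom := rfl
    rw [← hg, e]
    exact h1
  · intro M hM T h1 h2
    have hlt : Nat.card M < n := by
      rw [← hn]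
      refine lt_of_le_of_ne (Subgroup.card_le_card_group M) ?_
      intro h
      exact hM (Subgroup.eq_top_of_card_eq M h)
    have hendM : p ≠ 2 ∨ ¬ Cfsg.Involves (Equiv.Perm (Fin 4)) M :=
      hend.imp id (fun h h' => h (involves_of_injective' h' M.subtype M.subtype_injective))
    have := ih (Nat.card M) hlt M rfl hendM T (hyp_subgroupOf M T h1 h2)
    exact pn_top_iff.mp this
  · intro N _ hN T hT
    have hlt : Nat.card (G ⧸ N) < n := by
      rw [← hn, ← Subgroup.card_mul_index N]
      have h1 : 1 < Nat.card N := N.one_lt_card_iff_ne_bot.mpr hN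
      have h2 : 0 < N.index := Nat.pos_of_ne_zero Subgroup.index_ne_zero_of_finite
      show N.index < _
      nlinarith
    have hendQ : p ≠ 2 ∨ ¬ Cfsg.Involves (Equiv.Perm (Fin 4)) (G ⧸ N) :=
      hend.imp id (fun h h' => h (involves_of_surjective' h' (QuotientGroup.mk' N)
        (QuotientGroup.mk'_surjective N)))
    exact ih (Nat.card (G ⧸ N)) hlt (G ⧸ N) rfl hendQ T hT

/-- **Thompson's normal `p`-complement theorem** -/
theorem thompson_normal_pcomplement {G : Type u} [Group G] [Finite G] {p : ℕ} [Fact p.Prime]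
    (S : Sylow p G) (h : p ≠ 2 ∨ ¬ Cfsg.Involves (Equiv.Perm (Fin 4)) G)
    (hC : Cfsg.HasNormalPComplement p ↥(Subgroup.centralizer
      (((S : Subgroup G) ⊓ Subgroup.centralizer ((S : Subgroup G) : Set G) : Subgroup G) : Set G)))
    (hN : Cfsg.HasNormalPComplement p
      ↥(Subgroup.normalizer ((Cfsg.thompsonSubgroupAOf (S : Subgroup G)) : Set G))) :
    Cfsg.HasNormalPComplement p G :=
  pn_top_iff.mp (thompson_aux p _ G rfl h S ⟨hC, hN⟩)

end Cfsg.Agent.Helper34.TNC
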