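import Cfsg.Agent.Lib.Helper34.TNC1
import Cfsg.Agent.Lib.Helper34.TNC2
import Cfsg.Agent.Lib.Helper52.Coprime

/-!
# Thompson normal p-complement: the hypotheses and their behaviour under conjugation,
subgroups and quotients by normal `p'`-subgroups.
-/

set_option autoImplicit false
set_option linter.unusedSectionVars false

namespace Cfsg.Agent.Helper34.TNC

open Cfsg

universe u

variable {G : Type u} [Group G]

/-- the hypotheses of Thompson's theorem for the `p`-subgroup `S` -/
def Hyp (p : ℕ) (S : Subgroup G) : Prop :=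
  PN p (Subgroup.centralizer (ZS S : Set G)) ∧
    PN p (Subgroup.normalizer (Cfsg.thompsonSubgroupAOf S : Set G))

theorem eq_one_of_mem_of_mem_coprime [Finite G] {p : ℕ} [Fact p.Prime] {X D : Subgroup G}
    (hX : IsPGroup p X) (hD : (Nat.card D).Coprime p) {x : G} (hxX : x ∈ X) (hxD : x ∈ D) :
    x = 1 := by
  obtain ⟨k, hk⟩ := hX ⟨x, hxX⟩
  have h1 : x ^ (p ^ k) = 1 := congrArg Subtype.val hk
  have h2 : orderOf x ∣ p ^ k := orderOf_dvd_of_pow_eq_one h1
  have h3 : orderOf x ∣ Nat.card D := by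
    have : orderOf (⟨x, hxD⟩ : D) ∣ Nat.card D := orderOf_dvd_natCard _
    rwa [← Subgroup.orderOf_coe] at this
  have h4 : (Nat.card D).Coprime (p ^ k) := Nat.Coprime.pow_right k hD
  have h5 : orderOf x = 1 := Nat.eq_one_of_dvd_coprimes h4 h3 h2
  exact orderOf_eq_one_iff.mp h5

theorem map_conj_map_conj (X : Subgroup G) (a b : G) :
    (X.map (MulAut.conj a).toMonoidHom).map (MulAut.conj b).toMonoidHom =
      X.map (MulAut.conj (b * a)).toMonoidHom := by
  rw [Subgroup.map_map]
  congr 1
  ext x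
  simp [mul_assoc]

/-- normalizers of `p`-subgroups modulo a normal `p'`-subgroup -/
theorem normalizer_map_mk_le [Finite G] {p : ℕ} [Fact p.Prime] (D : Subgroup G) [D.Normal]
    (hD : (Nat.card D).Coprime p) (X : Subgroup G) (hX : IsPGroup p X) :
    Subgroup.normalizer ((X.map (QuotientGroup.mk' D) : Subgroup (G ⧸ D)) : Set (G ⧸ D)) ≤
      (Subgroup.normalizer (X : Set G)).map (QuotientGroup.mk' D) := by
  intro y hy
  obtain ⟨g, rfl⟩ := QuotientGroup.mk'_surjective D y
  have hB : X.map (MulAut.conj g).toMonoidHom ≤ D ⊔ X := by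
    rintro _ ⟨x, hx, rfl⟩
    have h1 : QuotientGroup.mk' D (g * x * g⁻¹) ∈ X.map (QuotientGroup.mk' D) := by
      have := (Subgroup.mem_normalizer_iff.mp hy (QuotientGroup.mk' D x)).mp ⟨x, hx, rfl⟩
      simpa using this
    have h2 : g * x * g⁻¹ ∈ (X.map (QuotientGroup.mk' D)).comap (QuotientGroup.mk' D) := h1
    rw [Subgroup.comap_map_eq, QuotientGroup.ker_mk', sup_comm] at h2
    simpa using h2
  have hsolv : Group.IsSolvable ↥X := by
    have : Group.IsNilpotent ↥X := hX.isNilpotent
    infer_instance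
  obtain ⟨k, hk⟩ := IsPGroup.iff_card.mp hX
  have hcop : (Nat.card D).Coprime (Nat.card X) := by rw [hk]; exact Nat.Coprime.pow_right k hD
  have hcard : Nat.card (X.map (MulAut.conj g).toMonoidHom) = Nat.card X :=
    Subgroup.card_map_of_injective (MulAut.conj g).injective
  have hXD : X ≤ Subgroup.normalizer (D : Set G) := by
    rw [Subgroup.normalizer_eq_top]; exact le_top
  obtain ⟨n, hn, hnX⟩ := Cfsg.Agent.Helper52.sz_conj_internal D X _ hXD (Or.inr hsolv) hcop hcard hB
  refine ⟨n⁻¹ * g, ?_, ?_⟩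
  · apply mem_normalizer_of_map_conj_eq
    rw [← map_conj_map_conj, hnX, map_conj_map_conj, inv_mul_cancel]
    ext x; simp
  · rw [map_mul, map_inv]
    have : QuotientGroup.mk' D n = 1 := (QuotientGroup.eq_one_iff n).mpr hn
    rw [this, inv_one, one_mul]

/-- centralizers of `p`-subgroups modulo a normal `p'`-subgroup -/
theorem centralizer_map_mk_le [Finite G] {p : ℕ} [Fact p.Prime] (D : Subgroup G) [D.Normal]
    (hD : (Nat.card D).Coprime p) (X : Subgroup G) (hX : IsPGroup p X) :
    Subgroup.centralizer ((X.map (QuotientGroup.mk' D) : Subgroup (G ⧸ D)) : Set (G ⧸ D)) ≤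
      (Subgroup.centralizer (X : Set G)).map (QuotientGroup.mk' D) := by
  intro y hy
  have hyN := Subgroup.centralizer_le_normalizer (X.map (QuotientGroup.mk' D) : Set (G ⧸ D)) hy
  obtain ⟨m, hm, rfl⟩ := normalizer_map_mk_le D hD X hX hyN
  refine ⟨m, Subgroup.mem_centralizer_iff.mpr ?_, rfl⟩
  intro x hx
  have h1 : m * x * m⁻¹ * x⁻¹ ∈ X :=
    X.mul_mem ((Subgroup.mem_normalizer_iff.mp hm x).mp hx) (X.inv_mem hx)
  have h2 : m * x * m⁻¹ * x⁻¹ ∈ D := by
    rw [← QuotientGroup.eq_one_iff]
    have h3 := (Subgroup.mem_centralizer_iff.mp hy) (QuotientGroup.mk' D x) ⟨x, hx, rfl⟩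
    have h4 : (QuotientGroup.mk' D x) * (QuotientGroup.mk' D m) =
        (QuotientGroup.mk' D m) * (QuotientGroup.mk' D x) := h3
    show QuotientGroup.mk' D (m * x * m⁻¹ * x⁻¹) = 1
    rw [map_mul, map_mul, map_mul, map_inv, map_inv, ← h4]
    group
  have h3 := eq_one_of_mem_of_mem_coprime hX hD h1 h2
  calc x * m = (m * x * m⁻¹ * x⁻¹)⁻¹ * (m * x) := by group
    _ = m * x := by rw [h3]; group

/-- the hypotheses pass to the quotient by a normal `p'`-subgroup -/
theorem hyp_quotient [Finite G] {p : ℕ} [Fact p.Prime] (D : Subgroup G) [D.Normal]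
    (hD : (Nat.card D).Coprime p) (S : Subgroup G) (hS : IsPGroup p S) (h : Hyp p S) :
    Hyp p (S.map (QuotientGroup.mk' D)) := by
  have hinj : ∀ x ∈ S, QuotientGroup.mk' D x = 1 → x = 1 := by
    intro x hx hx1
    exact eq_one_of_mem_of_mem_coprime hS hD hx ((QuotientGroup.eq_one_iff x).mp hx1)
  constructor
  · rw [zs_map _ S hinj]
    exact PN.mono (centralizer_map_mk_le D hD (ZS S) (hS.to_le (zs_le S))) (h.1.map _)
  · rw [jA_map _ S hinj]
    exact PN.mono (normalizer_map_mk_le D hD _ (isPGroup_jA hS)) (h.2.map _)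

/-- the hypotheses are invariant under conjugation -/
theorem hyp_conj [Finite G] {p : ℕ} [Fact p.Prime] (S : Subgroup G) (g : G) (h : Hyp p S) :
    Hyp p (S.map (MulAut.conj g).toMonoidHom) := by
  have hinj : ∀ x ∈ S, (MulAut.conj g).toMonoidHom x = 1 → x = 1 := fun x _ hx => by
    have : (MulAut.conj g) x = 1 := hx
    exact (map_eq_one_iff (MulAut.conj g) (MulAut.conj g).injective).mp this
  constructor
  · rw [zs_map _ S hinj]
    have : Subgroup.centralizer (((ZS S).map (MulAut.conj g).toMonoidHom : Subgroup G) : Set G) =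
        (Subgroup.centralizer (ZS S : Set G)).map (MulAut.conj g).toMonoidHom := by
      ext y
      rw [Subgroup.mem_centralizer_iff]
      constructor
      · intro hy
        refine ⟨g⁻¹ * y * g, Subgroup.mem_centralizer_iff.mpr ?_, by simp [mul_assoc]⟩
        intro z hz
        have := hy (g * z * g⁻¹) ⟨z, hz, by simp⟩
        calc z * (g⁻¹ * y * g) = g⁻¹ * ((g * z * g⁻¹) * y) * g := by group
          _ = g⁻¹ * (y * (g * z * g⁻¹)) * g := by rw [this]
          _ = g⁻¹ * y * g * z := by group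
      · rintro ⟨x, hx, rfl⟩ _ ⟨z, hz, rfl⟩
        have := (Subgroup.mem_centralizer_iff.mp hx) z hz
        simp only [MulEquiv.coe_toMonoidHom, MulAut.conj_apply]
        calc g * z * g⁻¹ * (g * x * g⁻¹) = g * (z * x) * g⁻¹ := by group
          _ = g * (x * z) * g⁻¹ := by rw [this]
          _ = g * x * g⁻¹ * (g * z * g⁻¹) := by group
    rw [this]
    exact h.1.map _
  · rw [jA_map _ S hinj]
    have : Subgroup.normalizer (((Cfsg.thompsonSubgroupAOf S).map (MulAut.conj g).toMonoidHom :
        Subgroup G) : Set G) =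
        (Subgroup.normalizer (Cfsg.thompsonSubgroupAOf S : Set G)).map
          (MulAut.conj g).toMonoidHom := by
      have := Subgroup.map_equiv_normalizer_eq (Cfsg.thompsonSubgroupAOf S) (MulAut.conj g)
      exact this.symm
    rw [this]
    exact h.2.map _

end Cfsg.Agent.Helper34.TNC
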