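import Mathlib.GroupTheory.Sylow
import Mathlib.Algebra.BigOperators.Group.Finset.Basic
import Mathlib.Algebra.BigOperators.Intervals
import Mathlib.Data.Int.GCD

/-!
# Quadratic action in odd characteristic

An automorphism `α` of an elementary abelian `p`-group `V` (`p` odd) with `(α - 1)^2 = 0`
centralizes every abelian `p'`-group of automorphisms of `V` that it normalizes.
-/

set_option autoImplicit false
set_option linter.unusedSectionVars false

namespace Cfsg.Agent.Helper34.TNC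

open Finset

variable {V : Type*} [CommGroup V]

section Quad

variable (α : MulAut V) (hα : ∀ v, α (α v / v) = α v / v)
include hα

theorem quad_pow_apply (i : ℕ) (w : V) : (α ^ i) w = w * (α w / w) ^ i := by
  induction i with
  | zero => simp
  | succ i ih =>
    rw [pow_succ', MulAut.mul_apply, ih, map_mul, map_pow, hα w, pow_succ]
    rw [show α w = w * (α w / w) by rw [mul_div_cancel]]
    simp only [mul_div_cancel_left, mul_assoc]
    congr 1
    exact mul_comm _ _

theorem quad_pow_p {p : ℕ} (hV : ∀ v : V, v ^ p = 1) : α ^ p = 1 := by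
  ext w
  rw [quad_pow_apply α hα, hV, mul_one]; rfl

theorem quad_trace {p : ℕ} (hp : p.Prime) (hp2 : p ≠ 2) (hV : ∀ v : V, v ^ p = 1) (w : V) :
    ∏ i ∈ range p, (α ^ i) w = 1 := by
  have h1 : ∀ i ∈ range p, (α ^ i) w = w * (α w / w) ^ i := fun i _ => quad_pow_apply α hα i w
  rw [prod_congr rfl h1, prod_mul_distrib, prod_const, card_range, hV, one_mul, prod_pow_eq_pow_sum]
  have hodd : Odd p := hp.odd_of_ne_two hp2
  obtain ⟨m, hm⟩ := hodd
  have h2 : ∑ i ∈ range p, i = p * m := by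
    have h3 := Finset.sum_range_id_mul_two p
    have h4 : p - 1 = 2 * m := by omega
    rw [h4] at h3
    have h5 : (∑ i ∈ range p, i) * 2 = (p * m) * 2 := by rw [h3]; ring
    exact Nat.eq_of_mul_eq_mul_right (by norm_num : 0 < 2) h5
  rw [h2, pow_mul, hV, one_pow]

end Quad

/-- the core averaging argument -/
theorem fpf_trivial [Finite V] {p : ℕ} [hp : Fact p.Prime] (hp2 : p ≠ 2)
    (hV : ∀ v : V, v ^ p = 1) (α : MulAut V) (hα : ∀ v, α (α v / v) = α v / v)
    (B : Subgroup (MulAut V)) (hBp : (Nat.card B).Coprime p)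
    (hBα : ∀ β ∈ B, α⁻¹ * β * α ∈ B)
    (hfix : ∀ β ∈ B, α * β = β * α → β = 1) : B = ⊥ := by
  classical
  have : Finite (MulAut V) :=
    Finite.of_injective (fun f : MulAut V => (f : V → V)) DFunLike.coe_injective
  let _ : Fintype ↥B := Fintype.ofFinite _
  have hαp : α ^ p = 1 := quad_pow_p α hα hV
  -- α^{-i} β α^i ∈ B
  have hBpow : ∀ i : ℕ, ∀ β ∈ B, (α ^ i)⁻¹ * β * α ^ i ∈ B := by
    intro i
    induction i with
    | zero => intro β hβ; simpa using hβ
    | succ i ih =>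
      intro β hβ
      have := hBα _ (ih β hβ)
      have e : (α ^ (i + 1))⁻¹ * β * α ^ (i + 1) = α⁻¹ * ((α ^ i)⁻¹ * β * α ^ i) * α := by
        rw [pow_succ]; group
      rw [e]; exact this
  -- elements of B commuting with a nontrivial power of α are trivial
  have hfix' : ∀ i : ℕ, 0 < i → i < p → ∀ β ∈ B, α ^ i * β = β * α ^ i → β = 1 := by
    intro i hi0 hip β hβ hc
    apply hfix β hβ
    have hcop : Nat.Coprime i p := by
      apply Nat.Coprime.symm
      rw [Nat.Prime.coprime_iff_not_dvd hp.out]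
      intro hd
      exact absurd (Nat.le_of_dvd hi0 hd) (by omega)
    obtain ⟨j, hj⟩ := Nat.exists_mul_mod_eq_one_of_coprime hcop hp.out.one_lt
    have h1 : α = (α ^ i) ^ j := by
      rw [← pow_mul]
      have h2 : i * j = p * (i * j / p) + 1 := by
        have := Nat.div_add_mod (i * j) p
        omega
      rw [h2, pow_add, pow_mul, hαp, one_pow, one_mul, pow_one]
    have h3 : Commute (α ^ i) β := hc
    rw [h1]
    exact (h3.pow_left j).eq
  -- the norm
  set N : V → V := fun v => ∏ s : B, (s : MulAut V) v with hN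
  have hNfix : ∀ (β : B) (v : V), (β : MulAut V) (N v) = N v := by
    intro β v
    simp only [hN, map_prod]
    have : ∀ s : B, (β : MulAut V) ((s : MulAut V) v) = ((β * s : B) : MulAut V) v := by
      intro s; rfl
    simp_rw [this]
    exact Fintype.prod_equiv (Equiv.mulLeft β) _ _ (fun s => rfl)
  -- key identity
  have key : ∀ v : V, v ^ Nat.card B = N v := by
    intro v
    have hT : ∏ t : B, ∏ i ∈ range p, (((t : MulAut V)⁻¹ * α ^ i * (t : MulAut V)) v) = 1 := by
      apply Finset.prod_eq_one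
      intro t _
      have : ∀ i ∈ range p, ((t : MulAut V)⁻¹ * α ^ i * (t : MulAut V)) v =
          (t : MulAut V)⁻¹ ((α ^ i) ((t : MulAut V) v)) := fun i _ => rfl
      rw [prod_congr rfl this, ← map_prod, quad_trace α hα hp.out hp2 hV, map_one]
    rw [Finset.prod_comm] at hT
    obtain ⟨m', hm'⟩ := Nat.exists_eq_succ_of_ne_zero hp.out.ne_zero
    rw [hm', Finset.prod_range_succ'] at hT
    have h0 : ∏ t : B, ((t : MulAut V)⁻¹ * α ^ 0 * (t : MulAut V)) v = v ^ Nat.card B := by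
      have : ∀ t : B, ((t : MulAut V)⁻¹ * α ^ 0 * (t : MulAut V)) v = v := by
        intro t; simp
      simp_rw [this]
      rw [Finset.prod_const, Finset.card_univ, Nat.card_eq_fintype_card]
    have h1 : ∀ i ∈ range m', ∏ t : B, ((t : MulAut V)⁻¹ * α ^ (i + 1) * (t : MulAut V)) v =
        (α ^ (i + 1)) (N v) := by
      intro i hi
      have hi' : i + 1 < p := by rw [hm']; simpa using hi
      set j := i + 1 with hj
      let c : B → B := fun t => ⟨(α ^ j)⁻¹ * (t⁻¹ : B) * α ^ j, hBpow j _ (t⁻¹).2⟩ * t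
      have hc : ∀ t : B, (t : MulAut V)⁻¹ * α ^ j * (t : MulAut V) = α ^ j * (c t : MulAut V) := by
        intro t
        simp only [c, Subgroup.coe_mul, Subgroup.coe_inv]
        group
      have hcinj : Function.Injective c := by
        intro t t' htt'
        have e1 : (t : MulAut V)⁻¹ * α ^ j * (t : MulAut V) =
            (t' : MulAut V)⁻¹ * α ^ j * (t' : MulAut V) := by rw [hc, hc, htt']
        have e2 : α ^ j * ((t' * t⁻¹ : B) : MulAut V) = ((t' * t⁻¹ : B) : MulAut V) * α ^ j := by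
          simp only [Subgroup.coe_mul, Subgroup.coe_inv]
          calc α ^ j * ((t' : MulAut V) * (t : MulAut V)⁻¹)
              = (t' : MulAut V) * ((t' : MulAut V)⁻¹ * α ^ j * (t' : MulAut V)) * (t : MulAut V)⁻¹ := by
                group
            _ = (t' : MulAut V) * ((t : MulAut V)⁻¹ * α ^ j * (t : MulAut V)) * (t : MulAut V)⁻¹ := by
                rw [e1]
            _ = (t' : MulAut V) * (t : MulAut V)⁻¹ * α ^ j := by group
        have e3 := hfix' j (by omega) hi' _ (t' * t⁻¹ : B).2 e2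
        have e4 : t' * t⁻¹ = 1 := Subtype.ext e3
        exact (mul_inv_eq_one.mp e4).symm
      have hcbij : Function.Bijective c := hcinj.bijective_of_finite
      have h2 : ∀ t : B, ((t : MulAut V)⁻¹ * α ^ j * (t : MulAut V)) v =
          (α ^ j) ((c t : MulAut V) v) := by
        intro t; rw [hc]; rfl
      simp_rw [h2]
      rw [← map_prod]
      congr 1
      exact Fintype.prod_bijective c hcbij _ _ (fun t => rfl)
    rw [Finset.prod_congr rfl h1, h0] at hT
    have h3 := quad_trace α hα hp.out hp2 hV (N v)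
    rw [hm', Finset.prod_range_succ'] at h3
    simp only [pow_zero, MulAut.one_apply] at h3
    have h4 : ∏ i ∈ range m', (α ^ (i + 1)) (N v) = (N v)⁻¹ := eq_inv_of_mul_eq_one_left h3
    rw [h4] at hT
    exact (inv_mul_eq_one.mp hT).symm
  -- every element of `B` fixes every `v`
  rw [eq_bot_iff]
  intro β hβ
  rw [Subgroup.mem_bot]
  ext v
  obtain ⟨m, hm⟩ := Nat.exists_mul_mod_eq_one_of_coprime hBp hp.out.one_lt
  have h1 : v = (N v) ^ m := by
    rw [← key v, ← pow_mul]
    have h2 : Nat.card B * m = p * (Nat.card B * m / p) + 1 := by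
      have := Nat.div_add_mod (Nat.card B * m) p
      omega
    rw [h2, pow_add, pow_mul, hV, one_pow, one_mul, pow_one]
  have h2 : β (N v) = N v := hNfix ⟨β, hβ⟩ v
  rw [MulAut.one_apply]
  conv_lhs => rw [h1]
  rw [map_pow, h2, ← h1]


/-- a quadratic automorphism in odd characteristic centralizes every abelian `p'`-group of
automorphisms that it normalizes -/
theorem quad_centralizes [Finite V] {p : ℕ} [hp : Fact p.Prime] (hp2 : p ≠ 2)
    (hV : ∀ v : V, v ^ p = 1) (α : MulAut V) (hα : ∀ v, α (α v / v) = α v / v)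
    (Q : Subgroup (MulAut V)) (hQc : ∀ β ∈ Q, ∀ γ ∈ Q, β * γ = γ * β)
    (hQp : (Nat.card Q).Coprime p) (hQα : ∀ β ∈ Q, α⁻¹ * β * α ∈ Q) :
    ∀ β ∈ Q, α⁻¹ * β * α = β := by
  have : Finite (MulAut V) :=
    Finite.of_injective (fun f : MulAut V => (f : V → V)) DFunLike.coe_injective
  have hαp : α ^ p = 1 := quad_pow_p α hα hV
  let B : Subgroup (MulAut V) :=
    { carrier := {x | ∃ β ∈ Q, x = β⁻¹ * (α⁻¹ * β * α)}
      one_mem' := ⟨1, Q.one_mem, by group⟩
      mul_mem' := by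
        rintro _ _ ⟨β, hβ, rfl⟩ ⟨γ, hγ, rfl⟩
        refine ⟨β * γ, Q.mul_mem hβ hγ, ?_⟩
        have h1 : (α⁻¹ * β * α) * γ⁻¹ = γ⁻¹ * (α⁻¹ * β * α) :=
          hQc _ (hQα β hβ) _ (Q.inv_mem hγ)
        have h2 : β⁻¹ * γ⁻¹ = γ⁻¹ * β⁻¹ := hQc _ (Q.inv_mem hβ) _ (Q.inv_mem hγ)
        calc β⁻¹ * (α⁻¹ * β * α) * (γ⁻¹ * (α⁻¹ * γ * α))
            = β⁻¹ * ((α⁻¹ * β * α) * γ⁻¹) * (α⁻¹ * γ * α) := by group
          _ = β⁻¹ * (γ⁻¹ * (α⁻¹ * β * α)) * (α⁻¹ * γ * α) := by rw [h1]
          _ = (β⁻¹ * γ⁻¹) * (α⁻¹ * β * α) * (α⁻¹ * γ * α) := by group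
          _ = (γ⁻¹ * β⁻¹) * (α⁻¹ * β * α) * (α⁻¹ * γ * α) := by rw [h2]
          _ = (β * γ)⁻¹ * (α⁻¹ * (β * γ) * α) := by group
      inv_mem' := by
        rintro _ ⟨β, hβ, rfl⟩
        refine ⟨β⁻¹, Q.inv_mem hβ, ?_⟩
        have h1 : (α⁻¹ * β * α)⁻¹ * β = β * (α⁻¹ * β * α)⁻¹ :=
          hQc _ (Q.inv_mem (hQα β hβ)) _ hβ
        calc (β⁻¹ * (α⁻¹ * β * α))⁻¹ = (α⁻¹ * β * α)⁻¹ * β := by group
          _ = β * (α⁻¹ * β * α)⁻¹ := h1
          _ = β⁻¹⁻¹ * (α⁻¹ * β⁻¹ * α) := by group }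
  have hBQ : B ≤ Q := by
    rintro _ ⟨β, hβ, rfl⟩
    exact Q.mul_mem (Q.inv_mem hβ) (hQα β hβ)
  have hBp : (Nat.card B).Coprime p :=
    Nat.Coprime.coprime_dvd_left (Subgroup.card_dvd_of_le hBQ) hQp
  have hBα : ∀ x ∈ B, α⁻¹ * x * α ∈ B := by
    rintro _ ⟨β, hβ, rfl⟩
    exact ⟨α⁻¹ * β * α, hQα β hβ, by group⟩
  have hfix : ∀ x ∈ B, α * x = x * α → x = 1 := by
    rintro x ⟨β, hβ, hx⟩ hc
    have hxQ : x ∈ Q := hBQ ⟨β, hβ, hx⟩
    have hconj : α⁻¹ * x * α = x := by
      calc α⁻¹ * x * α = α⁻¹ * (x * α) := by group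
        _ = α⁻¹ * (α * x) := by rw [hc]
        _ = x := by group
    have hφ : α⁻¹ * β * α = β * x := by rw [hx]; group
    have hpow : ∀ i : ℕ, (α ^ i)⁻¹ * β * α ^ i = β * x ^ i := by
      intro i
      induction i with
      | zero => simp
      | succ i ih =>
        have hxi : α⁻¹ * x ^ i * α = x ^ i := by
          have h1 : α⁻¹ * x ^ i * α = (α⁻¹ * x * α) ^ i := by
            rw [← zpow_natCast, ← zpow_natCast]
            exact (conj_zpow (a := α⁻¹) (b := x) (i := (i : ℤ))).symm ▸ by simp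
          rw [h1, hconj]
        calc (α ^ (i + 1))⁻¹ * β * α ^ (i + 1)
            = α⁻¹ * ((α ^ i)⁻¹ * β * α ^ i) * α := by rw [pow_succ]; group
          _ = α⁻¹ * (β * x ^ i) * α := by rw [ih]
          _ = (α⁻¹ * β * α) * (α⁻¹ * x ^ i * α) := by group
          _ = β * x * x ^ i := by rw [hφ, hxi]
          _ = β * x ^ (i + 1) := by rw [pow_succ']; group
    have h1 := hpow p
    rw [hαp, inv_one, one_mul, mul_one] at h1
    have hxp : x ^ p = 1 := by
      have : β * x ^ p = β * 1 := by rw [← h1, mul_one]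
      exact mul_left_cancel this
    have h2 : orderOf x ∣ p := orderOf_dvd_of_pow_eq_one hxp
    have h3 : orderOf x ∣ Nat.card Q := by
      have : orderOf (⟨x, hxQ⟩ : Q) ∣ Nat.card Q := orderOf_dvd_natCard _
      rwa [← Subgroup.orderOf_coe] at this
    have h4 : orderOf x = 1 := Nat.eq_one_of_dvd_coprimes hQp h3 h2
    exact orderOf_eq_one_iff.mp h4
  have hB := fpf_trivial hp2 hV α hα B hBp hBα hfix
  intro β hβ
  have h1 : β⁻¹ * (α⁻¹ * β * α) ∈ B := ⟨β, hβ, rfl⟩
  rw [hB, Subgroup.mem_bot] at h1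
  calc α⁻¹ * β * α = β * (β⁻¹ * (α⁻¹ * β * α)) := by group
    _ = β := by rw [h1, mul_one]

end Cfsg.Agent.Helper34.TNC
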