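import Cfsg.Agent.Lib.Helper34.TNC4
import Cfsg.Agent.Lib.Helper34.TNC7

/-!
# Thompson normal p-complement: the minimal counterexample, first reductions
-/

set_option autoImplicit false
set_option linter.unusedSectionVars false
set_option linter.unusedVariables false

namespace Cfsg.Agent.Helper34.TNC

open Cfsg

universe u

/-- a minimal counterexample to Thompson's theorem -/
structure MinCE (p : ℕ) [Fact p.Prime] (G : Type u) [Group G] [Finite G] : Prop where
  hend : p ≠ 2 ∨ ¬ Cfsg.Involves (Equiv.Perm (Fin 4)) G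
  hnot : ¬ PN p (⊤ : Subgroup G)
  hsyl : ∀ S : Sylow p G, Hyp p (S : Subgroup G)
  ih_sub : ∀ M : Subgroup G, M ≠ ⊤ → ∀ T : Sylow p M,
      PN p (Subgroup.centralizer (ZS ((T : Subgroup M).map M.subtype) : Set G) ⊓ M) →
      PN p (Subgroup.normalizer
        (Cfsg.thompsonSubgroupAOf ((T : Subgroup M).map M.subtype) : Set G) ⊓ M) → PN p M
  ih_quot : ∀ (N : Subgroup G) [N.Normal], N ≠ ⊥ → ∀ T : Sylow p (G ⧸ N),
      Hyp p (T : Subgroup (G ⧸ N)) → PN p (⊤ : Subgroup (G ⧸ N))

variable {G : Type u} [Group G] [Finite G] {p : ℕ} [hp : Fact p.Prime]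

/-- the largest normal `p`-subgroup, with the local information at larger `p`-subgroups -/
structure IsCore (p : ℕ) [Fact p.Prime] (H : Subgroup G) : Prop where
  isP : IsPGroup p H
  ne_bot : H ≠ ⊥
  normal : H.Normal
  max : ∀ K : Subgroup G, IsPGroup p K → K.Normal → K ≤ H
  pn_above : ∀ K : Subgroup G, IsPGroup p K → H < K →
    (∃ S : Sylow p G, (S : Subgroup G) ≤ Subgroup.normalizer (K : Set G)) →
    PN p (Subgroup.normalizer (K : Set G))

theorem factorization_le_of_le {A B : Subgroup G} (h : A ≤ B) :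
    (Nat.card A).factorization p ≤ (Nat.card B).factorization p := by
  have h1 : Nat.card A ∣ Nat.card B := Subgroup.card_dvd_of_le h
  exact (Nat.factorization_le_iff_dvd Nat.card_pos.ne' Nat.card_pos.ne').mpr h1 p

theorem factorization_of_card_eq {A : Subgroup G} {b : ℕ} (h : Nat.card A = p ^ b) :
    (Nat.card A).factorization p = b := by
  rw [h, Nat.factorization_pow, Finsupp.smul_apply, hp.out.factorization_self, smul_eq_mul,
    mul_one]

/-- a `p`-subgroup which is not Sylow has a normalizer with larger `p`-part -/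
theorem lt_factorization_normalizer {T : Subgroup G} {a : ℕ} (hT : Nat.card T = p ^ a)
    {S' : Sylow p G} (hTS : T < (S' : Subgroup G)) :
    a < (Nat.card (Subgroup.normalizer (T : Set G))).factorization p := by
  obtain ⟨x, hxS, hxN, hxT⟩ := Cfsg.Agent.Helper2.exists_mem_normalizer_not_mem S'.isPGroup' hTS
  set T₁ : Subgroup G := (S' : Subgroup G) ⊓ Subgroup.normalizer (T : Set G) with hT₁
  have hTT₁ : T < T₁ := by
    refine lt_of_le_of_ne (le_inf hTS.le Subgroup.le_normalizer) ?_
    intro h
    apply hxT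
    rw [h]
    exact ⟨hxS, hxN⟩
  have hT₁p : IsPGroup p T₁ := S'.isPGroup'.to_le inf_le_left
  obtain ⟨b, hb⟩ := IsPGroup.iff_card.mp hT₁p
  have hlt : Nat.card T < Nat.card T₁ := Cfsg.Agent.Helper2.card_lt_card_of_lt' hTT₁
  rw [hT, hb] at hlt
  have hab : a < b := (Nat.pow_lt_pow_iff_right hp.out.one_lt).mp hlt
  have h1 : (Nat.card T₁).factorization p ≤
      (Nat.card (Subgroup.normalizer (T : Set G))).factorization p :=
    factorization_le_of_le inf_le_right
  rw [factorization_of_card_eq hb] at h1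
  omega

theorem MinCE.exists_core (mc : MinCE p G) : ∃ H : Subgroup G, IsCore p H := by
  classical
  let 𝓗 : Set (Subgroup G) :=
    {K | IsPGroup p K ∧ K ≠ ⊥ ∧ ¬ PN p (Subgroup.normalizer (K : Set G))}
  have h𝓗ne : 𝓗.Nonempty := by
    obtain ⟨K, h1, h2, h3⟩ := exists_local_not_pn mc.hnot
    exact ⟨K, h1, h2, h3⟩
  let μ : Subgroup G → ℕ := fun K =>
    (Nat.card (Subgroup.normalizer (K : Set G))).factorization p * (Nat.card G + 1) + Nat.card K
  obtain ⟨H, ⟨hHp, hHb, hHn⟩, hHmax⟩ := Set.exists_max_image 𝓗 μ (Set.toFinite _) h𝓗ne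
  have hμ : ∀ K : Subgroup G, IsPGroup p K → K ≠ ⊥ → μ H < μ K →
      PN p (Subgroup.normalizer (K : Set G)) := by
    intro K hK hKb hlt
    by_contra hcon
    exact absurd (hHmax K ⟨hK, hKb, hcon⟩) (not_le.mpr hlt)
  have hμ1 : ∀ K : Subgroup G,
      (Nat.card (Subgroup.normalizer (H : Set G))).factorization p <
        (Nat.card (Subgroup.normalizer (K : Set G))).factorization p → μ H < μ K := by
    intro K h
    have h1 : Nat.card H ≤ Nat.card G := Subgroup.card_le_card_group H
    have h2 := Nat.mul_le_mul_right (Nat.card G + 1) (Nat.succ_le_of_lt h)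
    show _ * _ + _ < _ * _ + _
    rw [Nat.succ_mul] at h2
    omega
  have hμ2 : ∀ K : Subgroup G,
      (Nat.card (Subgroup.normalizer (H : Set G))).factorization p ≤
        (Nat.card (Subgroup.normalizer (K : Set G))).factorization p →
      Nat.card H < Nat.card K → μ H < μ K := by
    intro K h h'
    have h2 := Nat.mul_le_mul_right (Nat.card G + 1) h
    show _ * _ + _ < _ * _ + _
    omega
  -- H is normal
  have hNtop : Subgroup.normalizer (H : Set G) = ⊤ := by
    by_contra hM
    set M := Subgroup.normalizer (H : Set G) with hMdef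
    apply hHn
    obtain ⟨T'⟩ : Nonempty (Sylow p M) := Sylow.nonempty
    set T : Subgroup G := (T' : Subgroup M).map M.subtype with hT
    have hTp : IsPGroup p T := T'.isPGroup'.map _
    have hTM : T ≤ M := by
      rintro _ ⟨x, -, rfl⟩
      exact x.2
    have hHT : H ≤ T := by
      have hn : (H.subgroupOf M).Normal := Subgroup.normal_in_normalizer
      have hp' : IsPGroup p (H.subgroupOf M) := hHp.comap_subtype
      have h1 : H.subgroupOf M ≤ T' := hp'.le_sylow_of_normal T'
      have h2 := Subgroup.map_mono (f := M.subtype) h1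
      rwa [Subgroup.map_subgroupOf_eq_of_le Subgroup.le_normalizer] at h2
    have hTb : T ≠ ⊥ := fun h => hHb (le_bot_iff.mp (h ▸ hHT))
    have hcardT : Nat.card T = p ^ (Nat.card M).factorization p := by
      rw [hT, Subgroup.card_map_of_injective M.subtype_injective]
      exact T'.card_eq_multiplicity
    obtain ⟨S', hTS'⟩ := hTp.exists_le_sylow
    by_cases hTS : T = (S' : Subgroup G)
    · obtain ⟨h1, h2⟩ := mc.hsyl S'
      rw [← hTS] at h1 h2
      exact mc.ih_sub M hM T' (h1.mono inf_le_left) (h2.mono inf_le_left)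
    · have hlt : T < (S' : Subgroup G) := lt_of_le_of_ne hTS' hTS
      have h1 := lt_factorization_normalizer hcardT hlt
      have hX : ∀ X : Subgroup G, IsPGroup p X → X ≠ ⊥ →
          Subgroup.normalizer (T : Set G) ≤ Subgroup.normalizer (X : Set G) →
          PN p (Subgroup.normalizer (X : Set G)) := by
        intro X hXp hXb hle
        apply hμ X hXp hXb
        apply hμ1
        have h2 := factorization_le_of_le (p := p) hle
        omega
      have hz := hX (ZS T) (hTp.to_le (zs_le T)) (zs_ne_bot hTp hTb)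
        (normalizer_le_normalizer_zs T)
      have hj := hX (Cfsg.thompsonSubgroupAOf T) (isPGroup_jA hTp) (jA_ne_bot hTb)
        (normalizer_le_normalizer_jA T)
      exact mc.ih_sub M hM T'
        (hz.mono (inf_le_left.trans (Subgroup.centralizer_le_normalizer _)))
        (hj.mono inf_le_left)
  have hHnormal : H.Normal := Subgroup.normalizer_eq_top_iff.mp hNtop
  have hfacG : ∀ K : Subgroup G,
      (∃ S : Sylow p G, (S : Subgroup G) ≤ Subgroup.normalizer (K : Set G)) →
      (Nat.card (Subgroup.normalizer (H : Set G))).factorization p ≤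
        (Nat.card (Subgroup.normalizer (K : Set G))).factorization p := by
    rintro K ⟨S, hS⟩
    have h1 := factorization_le_of_le (p := p) hS
    rw [factorization_of_card_eq S.card_eq_multiplicity] at h1
    rw [hNtop, Subgroup.card_top]
    exact h1
  have habove : ∀ K : Subgroup G, IsPGroup p K → H < K →
      (∃ S : Sylow p G, (S : Subgroup G) ≤ Subgroup.normalizer (K : Set G)) →
      PN p (Subgroup.normalizer (K : Set G)) := by
    intro K hKp hHK hS
    apply hμ K hKp (fun h => hHb (le_bot_iff.mp (h ▸ hHK.le)))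
    exact hμ2 K (hfacG K hS) (Cfsg.Agent.Helper2.card_lt_card_of_lt' hHK)
  refine ⟨H, hHp, hHb, hHnormal, ?_, habove⟩
  intro K hKp hKn
  by_contra hKH
  have hlt : H < K ⊔ H := lt_of_le_of_ne le_sup_right (fun h => hKH (h ▸ le_sup_left))
  have hsupn : (K ⊔ H).Normal := inferInstance
  have hsupp : IsPGroup p (K ⊔ H : Subgroup G) := IsPGroup.to_sup_of_normal_right hKp hHp
  have htop : Subgroup.normalizer ((K ⊔ H : Subgroup G) : Set G) = ⊤ :=
    Subgroup.normalizer_eq_top_iff.mpr hsupn
  obtain ⟨S⟩ : Nonempty (Sylow p G) := Sylow.nonempty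
  have := habove (K ⊔ H) hsupp hlt ⟨S, by rw [htop]; exact le_top⟩
  rw [htop] at this
  exact mc.hnot this

theorem IsCore.le_sylow {H : Subgroup G} (hH : IsCore p H) (S : Sylow p G) :
    H ≤ (S : Subgroup G) := by
  have := hH.normal
  exact hH.isP.le_sylow_of_normal S

theorem MinCE.core_ne_sylow (mc : MinCE p G) {H : Subgroup G} (hH : IsCore p H) (S : Sylow p G) :
    H ≠ (S : Subgroup G) := by
  intro h
  apply mc.hnot
  have h1 : Subgroup.normalizer ((S : Subgroup G) : Set G) = ⊤ := by
    rw [← h]; exact Subgroup.normalizer_eq_top_iff.mpr hH.normal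
  have h2 := normalizer_le_normalizer_jA (S : Subgroup G)
  rw [h1] at h2
  exact (mc.hsyl S).2.mono h2

/-- a minimal counterexample has no nontrivial normal `p'`-subgroups -/
theorem MinCE.eq_bot_of_coprime (mc : MinCE p G) (D : Subgroup G) [D.Normal]
    (hD : (Nat.card D).Coprime p) : D = ⊥ := by
  by_contra hDb
  apply mc.hnot
  obtain ⟨S⟩ : Nonempty (Sylow p G) := Sylow.nonempty
  have hsurj : Function.Surjective (QuotientGroup.mk' D) := QuotientGroup.mk'_surjective D
  have h1 : Hyp p ((S.mapSurjective hsurj : Sylow p (G ⧸ D)) : Subgroup (G ⧸ D)) :=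
    hyp_quotient D hD S S.isPGroup' (mc.hsyl S)
  exact pn_top_of_quotient D hD (mc.ih_quot D hDb _ h1)

/-- a normal subgroup with a normal `p`-complement is a `p`-group -/
theorem MinCE.isPGroup_of_pn (mc : MinCE p G) {X : Subgroup G} [hX : X.Normal] (h : PN p X) :
    IsPGroup p X := by
  obtain ⟨K, hKX, hXK, hcop, ⟨k, hk⟩, hall⟩ := h.exists_witness
  have hKn : K.Normal := by
    constructor
    intro x hx g
    apply hall _ (hX.conj_mem x (hKX hx) g)
    rw [Cfsg.Agent.Helper2.orderOf_conj']
    have h1 : orderOf x ∣ Nat.card K := by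
      have : orderOf (⟨x, hx⟩ : K) ∣ Nat.card K := orderOf_dvd_natCard _
      rwa [← Subgroup.orderOf_coe] at this
    exact Nat.Coprime.coprime_dvd_left h1 hcop
  have hKb : K = ⊥ := mc.eq_bot_of_coprime K hcop
  apply IsPGroup.of_card (n := k)
  rw [← hk, hKb, Subgroup.relIndex_bot_left]

theorem MinCE.le_core_of_pn (mc : MinCE p G) {H : Subgroup G} (hH : IsCore p H) {X : Subgroup G}
    [hX : X.Normal] (h : PN p X) : X ≤ H :=
  hH.max X (mc.isPGroup_of_pn h) hX

/-- the preimage of the normal `p`-complement of `G / H` -/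
structure IsCompl (p : ℕ) (H L : Subgroup G) : Prop where
  normal : L.Normal
  le : H ≤ L
  cop : (H.relIndex L).Coprime p
  idx : ∃ k : ℕ, L.index = p ^ k

/-- in `G / H`, normalizers of nontrivial subgroups normal in a Sylow subgroup have normal
`p`-complements -/
theorem MinCE.pn_normalizer_quot (mc : MinCE p G) {H : Subgroup G} (hH : IsCore p H)
    [hn : H.Normal] (S : Sylow p G) (X : Subgroup (G ⧸ H)) (hXb : X ≠ ⊥)
    (hXS : X ≤ (S : Subgroup G).map (QuotientGroup.mk' H))
    (hSX : (S : Subgroup G).map (QuotientGroup.mk' H) ≤ Subgroup.normalizer (X : Set (G ⧸ H))) :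
    PN p (Subgroup.normalizer (X : Set (G ⧸ H))) := by
  have hsurj : Function.Surjective (QuotientGroup.mk' H) := QuotientGroup.mk'_surjective H
  set K : Subgroup G := X.comap (QuotientGroup.mk' H) with hK
  have hHS : H ≤ (S : Subgroup G) := hH.le_sylow S
  have hKS : K ≤ (S : Subgroup G) := by
    have h1 : K ≤ ((S : Subgroup G).map (QuotientGroup.mk' H)).comap (QuotientGroup.mk' H) :=
      Subgroup.comap_mono hXS
    rw [Subgroup.comap_map_eq, QuotientGroup.ker_mk', sup_of_le_left hHS] at h1
    exact h1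
  have hHK : H ≤ K := by
    intro x hx
    show QuotientGroup.mk' H x ∈ X
    have : QuotientGroup.mk' H x = 1 := (QuotientGroup.eq_one_iff x).mpr hx
    rw [this]; exact X.one_mem
  have hmapK : K.map (QuotientGroup.mk' H) = X := Subgroup.map_comap_eq_self_of_surjective hsurj X
  have hne : H ≠ K := by
    intro h
    apply hXb
    rw [← hmapK, ← h, QuotientGroup.map_mk'_self]
  have hlt : H < K := lt_of_le_of_ne hHK hne
  have hNK : Subgroup.normalizer (K : Set G) =
      (Subgroup.normalizer (X : Set (G ⧸ H))).comap (QuotientGroup.mk' H) :=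
    (Subgroup.comap_normalizer_eq_of_surjective X hsurj).symm
  have hSN : (S : Subgroup G) ≤ Subgroup.normalizer (K : Set G) := by
    rw [hNK]
    exact (Subgroup.le_comap_map _ _).trans (Subgroup.comap_mono hSX)
  have h1 := hH.pn_above K (S.isPGroup'.to_le hKS) hlt ⟨S, hSN⟩
  have h2 : (Subgroup.normalizer (K : Set G)).map (QuotientGroup.mk' H) =
      Subgroup.normalizer (X : Set (G ⧸ H)) := by
    rw [hNK, Subgroup.map_comap_eq_self_of_surjective hsurj]
  rw [← h2]
  exact h1.map _

theorem MinCE.exists_compl (mc : MinCE p G) {H : Subgroup G} (hH : IsCore p H) :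
    ∃ L : Subgroup G, IsCompl p H L := by
  have hn := hH.normal
  obtain ⟨S⟩ : Nonempty (Sylow p G) := Sylow.nonempty
  have hsurj : Function.Surjective (QuotientGroup.mk' H) := QuotientGroup.mk'_surjective H
  have hHS : H ≤ (S : Subgroup G) := hH.le_sylow S
  set Sb : Subgroup (G ⧸ H) := (S : Subgroup G).map (QuotientGroup.mk' H) with hSb
  have hSbp : IsPGroup p Sb := S.isPGroup'.map _
  have hSbb : Sb ≠ ⊥ := by
    intro h
    apply mc.core_ne_sylow hH S
    apply le_antisymm hHS
    intro x hx
    have h1 : QuotientGroup.mk' H x ∈ Sb := ⟨x, hx, rfl⟩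
    rw [h, Subgroup.mem_bot] at h1
    exact (QuotientGroup.eq_one_iff x).mp h1
  have hyp : Hyp p ((S.mapSurjective hsurj : Sylow p (G ⧸ H)) : Subgroup (G ⧸ H)) := by
    show Hyp p Sb
    constructor
    · have h1 := mc.pn_normalizer_quot hH S (ZS Sb) (zs_ne_bot hSbp hSbb) (zs_le Sb)
        (Subgroup.le_normalizer.trans (normalizer_le_normalizer_zs Sb))
      exact h1.mono (Subgroup.centralizer_le_normalizer _)
    · exact mc.pn_normalizer_quot hH S (Cfsg.thompsonSubgroupAOf Sb) (jA_ne_bot hSbb) (jA_le Sb)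
        (Subgroup.le_normalizer.trans (normalizer_le_normalizer_jA Sb))
  have hpn := mc.ih_quot H hH.ne_bot _ hyp
  obtain ⟨Kb, -, hKbn, hcop, ⟨k, hk⟩, -⟩ := hpn.exists_witness
  have hKbnormal : Kb.Normal := Subgroup.normalizer_eq_top_iff.mp (top_le_iff.mp hKbn)
  refine ⟨Kb.comap (QuotientGroup.mk' H), hKbnormal.comap _, ?_, ?_, k, ?_⟩
  · intro x hx
    show QuotientGroup.mk' H x ∈ Kb
    have : QuotientGroup.mk' H x = 1 := (QuotientGroup.eq_one_iff x).mpr hx
    rw [this]; exact Kb.one_mem
  · have h1 : (⊥ : Subgroup (G ⧸ H)).comap (QuotientGroup.mk' H) = H := by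
      rw [MonoidHom.comap_bot, QuotientGroup.ker_mk']
    have h2 : ((⊥ : Subgroup (G ⧸ H)).comap (QuotientGroup.mk' H)).relIndex
        (Kb.comap (QuotientGroup.mk' H)) = Nat.card Kb := by
      rw [Subgroup.relIndex_comap, Subgroup.map_comap_eq_self_of_surjective hsurj,
        Subgroup.relIndex_bot_left]
    rw [h1] at h2
    rw [h2]; exact hcop
  · rw [Subgroup.index_comap_of_surjective _ hsurj, ← Subgroup.relIndex_top_right]
    exact hk

theorem IsCompl.inf_sylow {H L : Subgroup G} (hH : IsCore p H) (hL : IsCompl p H L)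
    (S : Sylow p G) : L ⊓ (S : Subgroup G) = H := by
  have hHS := hH.le_sylow S
  apply le_antisymm _ (le_inf hL.le hHS)
  have h1 : H.relIndex (L ⊓ S) ∣ H.relIndex L :=
    ⟨_, (Subgroup.relIndex_mul_relIndex H (L ⊓ S) L (le_inf hL.le hHS) inf_le_left).symm⟩
  have hP : IsPGroup p (L ⊓ (S : Subgroup G) : Subgroup G) := S.isPGroup'.to_le inf_le_right
  obtain ⟨j, hj⟩ := IsPGroup.iff_card.mp hP
  have h2 : H.relIndex (L ⊓ S) ∣ p ^ j := hj ▸ Subgroup.relIndex_dvd_card H (L ⊓ S)
  have h3 : (H.relIndex L).Coprime (p ^ j) := Nat.Coprime.pow_right j hL.cop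
  have h4 : H.relIndex (L ⊓ S) = 1 := Nat.eq_one_of_dvd_coprimes h3 h1 h2
  exact Subgroup.relIndex_eq_one.mp h4

theorem IsCompl.sup_sylow {H L : Subgroup G} (hL : IsCompl p H L) (S : Sylow p G) :
    L ⊔ (S : Subgroup G) = ⊤ := by
  obtain ⟨k, hk⟩ := hL.idx
  have h1 : (L ⊔ (S : Subgroup G)).index ∣ p ^ k := hk ▸ Subgroup.index_dvd_of_le le_sup_left
  have h2 : (L ⊔ (S : Subgroup G)).index ∣ (S : Subgroup G).index :=
    Subgroup.index_dvd_of_le le_sup_right
  have h3 : ((S : Subgroup G).index).Coprime (p ^ k) :=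
    Nat.Coprime.pow_right k ((Nat.Prime.coprime_iff_not_dvd hp.out).mpr S.not_dvd_index).symm
  have h4 : (L ⊔ (S : Subgroup G)).index = 1 := Nat.eq_one_of_dvd_coprimes h3 h2 h1
  exact Subgroup.index_eq_one.mp h4

theorem IsCompl.mem_of_coprime {H L : Subgroup G} (hL : IsCompl p H L) {x : G}
    (hx : (orderOf x).Coprime p) : x ∈ L := by
  have := hL.normal
  obtain ⟨k, hk⟩ := hL.idx
  have h2 : Nat.card (G ⧸ L) = p ^ k := by rw [← hk]; rfl
  have h3 : orderOf (QuotientGroup.mk' L x) ∣ p ^ k := by
    rw [← h2]; exact orderOf_dvd_natCard _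
  have h4 : orderOf (QuotientGroup.mk' L x) ∣ orderOf x := orderOf_map_dvd _ x
  have h5 : Nat.Coprime (orderOf x) (p ^ k) := Nat.Coprime.pow_right k hx
  have h6 : orderOf (QuotientGroup.mk' L x) = 1 := Nat.eq_one_of_dvd_coprimes h5 h4 h3
  rw [orderOf_eq_one_iff] at h6
  exact (QuotientGroup.eq_one_iff x).mp h6

/-- elements of order prime to `p` in a `p`-group are trivial -/
theorem eq_one_of_isPGroup_of_coprime {X : Subgroup G} (hX : IsPGroup p X) {x : G} (hxX : x ∈ X)
    (hx : (orderOf x).Coprime p) : x = 1 := by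
  obtain ⟨k, hk⟩ := hX ⟨x, hxX⟩
  have h1 : x ^ (p ^ k) = 1 := congrArg Subtype.val hk
  have h2 : orderOf x ∣ p ^ k := orderOf_dvd_of_pow_eq_one h1
  have h4 : (orderOf x).Coprime (p ^ k) := Nat.Coprime.pow_right k hx
  exact orderOf_eq_one_iff.mp (Nat.eq_one_of_dvd_coprimes h4 dvd_rfl h2)

/-- `C_G(H) ≤ H` -/
theorem MinCE.centralizer_core_le (mc : MinCE p G) {H L : Subgroup G} (hH : IsCore p H)
    (hL : IsCompl p H L) : Subgroup.centralizer (H : Set G) ≤ H := by
  have hn := hH.normal
  have hLn := hL.normal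
  set C : Subgroup G := Subgroup.centralizer (H : Set G) with hC
  have hCn : C.Normal := Subgroup.normal_centralizer
  set X : Subgroup G := C ⊓ L with hX
  have hXn : X.Normal := inferInstance
  -- X has a central Sylow p-subgroup
  have hXH : X ≤ H := by
    apply mc.le_core_of_pn hH
    have hidx : ¬ p ∣ (H.subgroupOf X).index := by
      have h1 : H.relIndex X ∣ H.relIndex L := by
        have h2 : H.relIndex (H ⊔ X) = H.relIndex X := Subgroup.relIndex_sup_left X H
        rw [← h2]
        exact ⟨_, (Subgroup.relIndex_mul_relIndex H (H ⊔ X) L le_sup_left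
          (sup_le hL.le inf_le_right)).symm⟩
      intro h3
      have h4 : p ∣ H.relIndex L := dvd_trans h3 h1
      have := Nat.Coprime.eq_one_of_dvd hL.cop.symm h4
      exact hp.out.one_lt.ne' this
    have hPp : IsPGroup p (H.subgroupOf X) := hH.isP.comap_subtype
    let P : Sylow p X := hPp.toSylow hidx
    apply Cfsg.Agent.Helper2.hasNormalPComplement_of_normalizer_le_centralizer P
    intro x _
    rw [Subgroup.mem_centralizer_iff]
    intro h hh
    have hhH : (h : G) ∈ H := by
      have : h ∈ H.subgroupOf X := (hPp.mem_toSylow hidx).mp hh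
      exact Subgroup.mem_subgroupOf.mp this
    have hxC : (x : G) ∈ C := x.2.1
    apply Subtype.ext
    exact (Subgroup.mem_centralizer_iff.mp hxC) h hhH
  have hCp : IsPGroup p C := by
    apply isPGroup_of_coprime_eq_one
    intro y hyC hy
    have hyL : y ∈ L := hL.mem_of_coprime hy
    exact eq_one_of_isPGroup_of_coprime hH.isP (hXH ⟨hyC, hyL⟩) hy
  exact hH.max C hCp hCn

end Cfsg.Agent.Helper34.TNC
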