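import Cfsg.Agent.Lib.Helper34.TNC8

/-!
# Thompson normal p-complement: structure of `L / H`
-/

set_option autoImplicit false
set_option linter.unusedSectionVars false
set_option linter.unusedVariables false

namespace Cfsg.Agent.Helper34.TNC

open Cfsg

universe u

variable {G : Type u} [Group G] [Finite G] {p : ℕ} [hp : Fact p.Prime]

/-- no `S`-invariant subgroups strictly between `H` and `L` -/
theorem MinCE.minimality (mc : MinCE p G) {H L : Subgroup G} (hH : IsCore p H)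
    (hL : IsCompl p H L) (S : Sylow p G) {L₁ : Subgroup G} (hHL₁ : H ≤ L₁) (hL₁L : L₁ ≤ L)
    (hS : (S : Subgroup G) ≤ Subgroup.normalizer (L₁ : Set G)) : L₁ = H ∨ L₁ = L := by
  have hn := hH.normal
  set M : Subgroup G := (S : Subgroup G) ⊔ L₁ with hM
  by_cases hMtop : M = ⊤
  · right
    apply le_antisymm hL₁L
    intro x hx
    have hxM : x ∈ (M : Set G) := by rw [hMtop]; trivial
    rw [hM, Subgroup.coe_mul_of_left_le_normalizer_right (S : Subgroup G) L₁ hS] at hxM
    obtain ⟨s, hs, l, hl, rfl⟩ := Set.mem_mul.mp hxM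
    have hsL : s ∈ L := by
      have : s = (s * l) * l⁻¹ := by group
      rw [this]
      exact L.mul_mem hx (L.inv_mem (hL₁L hl))
    have hsH : s ∈ H := by
      rw [← hL.inf_sylow hH S]
      exact ⟨hsL, hs⟩
    exact L₁.mul_mem (hHL₁ hsH) hl
  · left
    have hSM : (S : Subgroup G) ≤ M := le_sup_left
    have e : ((S.subtype hSM : Sylow p M) : Subgroup M).map M.subtype = (S : Subgroup G) := by
      rw [Sylow.coe_subtype, Subgroup.map_subgroupOf_eq_of_le hSM]
    have hpnM : PN p M := by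
      apply mc.ih_sub M hMtop (S.subtype hSM)
      · rw [e]; exact (mc.hsyl S).1.mono inf_le_left
      · rw [e]; exact (mc.hsyl S).2.mono inf_le_left
    have hpn : PN p L₁ := hpnM.mono le_sup_right
    obtain ⟨K, hKL₁, hL₁K, hcop, ⟨k, hk⟩, -⟩ := hpn.exists_witness
    have hKC : K ≤ Subgroup.centralizer (H : Set G) := by
      intro x hx
      rw [Subgroup.mem_centralizer_iff]
      intro h hh
      have hc1 : x * h * x⁻¹ * h⁻¹ ∈ H := H.mul_mem (hn.conj_mem h hh x) (H.inv_mem hh)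
      have hc2 : x * h * x⁻¹ * h⁻¹ ∈ K := by
        have h1 : h * x⁻¹ * h⁻¹ ∈ K :=
          (Subgroup.mem_normalizer_iff.mp (hL₁K (hHL₁ hh)) x⁻¹).mp (K.inv_mem hx)
        have h2 : x * h * x⁻¹ * h⁻¹ = x * (h * x⁻¹ * h⁻¹) := by group
        rw [h2]
        exact K.mul_mem hx h1
      have hc := eq_one_of_mem_of_mem_coprime hH.isP hcop hc1 hc2
      calc h * x = (x * h * x⁻¹ * h⁻¹)⁻¹ * (x * h) := by group
        _ = x * h := by rw [hc, inv_one, one_mul]
    have hKb : K = ⊥ := by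
      rw [eq_bot_iff]
      intro x hx
      rw [Subgroup.mem_bot]
      exact eq_one_of_mem_of_mem_coprime hH.isP hcop (mc.centralizer_core_le hH hL (hKC hx)) hx
    have hcard : Nat.card L₁ = p ^ k := by
      rw [← hk, hKb, Subgroup.relIndex_bot_left]
    have h1 : H.relIndex L₁ ∣ H.relIndex L :=
      ⟨_, (Subgroup.relIndex_mul_relIndex H L₁ L hHL₁ hL₁L).symm⟩
    have h2 : H.relIndex L₁ ∣ p ^ k := hcard ▸ Subgroup.relIndex_dvd_card H L₁
    have h3 : (H.relIndex L).Coprime (p ^ k) := Nat.Coprime.pow_right k hL.cop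
    have h4 : H.relIndex L₁ = 1 := Nat.eq_one_of_dvd_coprimes h3 h1 h2
    exact le_antisymm (Subgroup.relIndex_eq_one.mp h4) hHL₁

/-- an element of `S` centralizing `L / H` lies in `H` -/
theorem MinCE.mem_core_of_comm (mc : MinCE p G) {H L : Subgroup G} (hH : IsCore p H)
    (hL : IsCompl p H L) (S : Sylow p G) {x : G} (hxS : x ∈ (S : Subgroup G))
    (hx : ∀ l ∈ L, l * x * l⁻¹ * x⁻¹ ∈ H) : x ∈ H := by
  have hn := hH.normal
  have hLn := hL.normal
  have hHS := hH.le_sylow S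
  let P : Subgroup G :=
    { carrier := {x | x ∈ (S : Subgroup G) ∧ ∀ l ∈ L, l * x * l⁻¹ * x⁻¹ ∈ H}
      one_mem' := ⟨Subgroup.one_mem _, fun l _ => by
        have : l * 1 * l⁻¹ * 1⁻¹ = 1 := by group
        rw [this]; exact H.one_mem⟩
      mul_mem' := by
        rintro a b ⟨haS, ha⟩ ⟨hbS, hb⟩
        refine ⟨Subgroup.mul_mem _ haS hbS, fun l hl => ?_⟩
        have e : l * (a * b) * l⁻¹ * (a * b)⁻¹ =
            (l * a * l⁻¹ * a⁻¹) * (a * (l * b * l⁻¹ * b⁻¹) * a⁻¹) := by group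
        rw [e]
        exact H.mul_mem (ha l hl) (hn.conj_mem _ (hb l hl) a)
      inv_mem' := by
        rintro a ⟨haS, ha⟩
        refine ⟨Subgroup.inv_mem _ haS, fun l hl => ?_⟩
        have e : l * a⁻¹ * l⁻¹ * a⁻¹⁻¹ = a⁻¹ * (l * a * l⁻¹ * a⁻¹)⁻¹ * a⁻¹⁻¹ := by group
        rw [e]
        exact hn.conj_mem _ (H.inv_mem (ha l hl)) a⁻¹ }
  have hPS : P ≤ (S : Subgroup G) := fun y hy => hy.1
  have hHP : H ≤ P := by
    intro h hh
    refine ⟨hHS hh, fun l hl => ?_⟩
    exact H.mul_mem (hn.conj_mem h hh l) (H.inv_mem hh)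
  have hSP : (S : Subgroup G) ≤ Subgroup.normalizer (P : Set G) := by
    apply le_normalizer_of_conj_mem
    rintro s hs y ⟨hyS, hy⟩
    refine ⟨Subgroup.mul_mem _ (Subgroup.mul_mem _ hs hyS) (Subgroup.inv_mem _ hs), fun l hl => ?_⟩
    have hl' : s⁻¹ * l * s ∈ L := by
      have := hLn.conj_mem l hl s⁻¹
      rwa [inv_inv] at this
    have e : l * (s * y * s⁻¹) * l⁻¹ * (s * y * s⁻¹)⁻¹ =
        s * ((s⁻¹ * l * s) * y * (s⁻¹ * l * s)⁻¹ * y⁻¹) * s⁻¹ := by group
    rw [e]
    exact hn.conj_mem _ (hy _ hl') s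
  have hLP : L ≤ Subgroup.normalizer (P : Set G) := by
    apply le_normalizer_of_conj_mem
    intro l hl y hy
    have e : l * y * l⁻¹ = (l * y * l⁻¹ * y⁻¹) * y := by group
    rw [e]
    exact P.mul_mem (hHP (hy.2 l hl)) hy
  have hPn : P.Normal := by
    rw [← Subgroup.normalizer_eq_top_iff, ← top_le_iff, ← hL.sup_sylow S]
    exact sup_le hLP hSP
  exact hH.max P (S.isPGroup'.to_le hPS) hPn ⟨hxS, hx⟩

theorem exists_conj_mem_of_index_coprime (S : Sylow p G) (N₀ : Subgroup G)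
    (h : (N₀.index).Coprime p) : ∃ g : G, ∀ s ∈ (S : Subgroup G), g⁻¹ * s * g ∈ N₀ := by
  obtain ⟨P₀⟩ : Nonempty (Sylow p N₀) := Sylow.nonempty
  set P₁ : Subgroup G := (P₀ : Subgroup N₀).map N₀.subtype with hP₁
  have hP₁N : P₁ ≤ N₀ := by
    rintro _ ⟨x, -, rfl⟩
    exact x.2
  have hfac : (Nat.card G).factorization p = (Nat.card N₀).factorization p := by
    rw [← Subgroup.card_mul_index N₀, Nat.factorization_mul Nat.card_pos.ne'
      Subgroup.index_ne_zero_of_finite]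
    have h0 : (N₀.index).factorization p = 0 := by
      apply Nat.factorization_eq_zero_of_not_dvd
      intro hdvd
      exact hp.out.one_lt.ne' (Nat.Coprime.eq_one_of_dvd h.symm hdvd)
    simp [h0]
  have hcard : Nat.card P₁ = p ^ (Nat.card G).factorization p := by
    rw [hP₁, Subgroup.card_map_of_injective N₀.subtype_injective, hfac]
    exact P₀.card_eq_multiplicity
  obtain ⟨g, hg⟩ := MulAction.exists_smul_eq G (Sylow.ofCard P₁ hcard) S
  refine ⟨g, fun s hs => ?_⟩
  rw [← hg] at hs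
  obtain ⟨t, ht, hts⟩ := hs
  have ht' : t ∈ P₁ := ht
  have : s = g * t * g⁻¹ := hts.symm
  rw [this]
  have e : g⁻¹ * (g * t * g⁻¹) * g = t := by group
  rw [e]
  exact hP₁N ht'

/-- `L / H` is abelian -/
theorem MinCE.comm_mem_core (mc : MinCE p G) {H L : Subgroup G} (hH : IsCore p H)
    (hL : IsCompl p H L) (S : Sylow p G) :
    ∀ l ∈ L, ∀ l' ∈ L, l * l' * l⁻¹ * l'⁻¹ ∈ H := by
  have hn := hH.normal
  have hLn := hL.normal
  have hHS := hH.le_sylow S
  have hsurj : Function.Surjective (QuotientGroup.mk' H) := QuotientGroup.mk'_surjective H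
  -- L ≠ H
  have hLH : ¬ L ≤ H := by
    intro h
    apply mc.hnot
    have h1 : (S : Subgroup G) = ⊤ := by
      rw [← hL.sup_sylow S]
      exact (sup_eq_right.mpr (h.trans hHS)).symm
    apply pn_of_isPGroup
    rw [← h1]; exact S.isPGroup'
  have hri : H.relIndex L ≠ 1 := fun h => hLH (Subgroup.relIndex_eq_one.mp h)
  obtain ⟨q, hq, hqdvd⟩ := Nat.exists_prime_and_dvd hri
  have : Fact q.Prime := ⟨hq⟩
  have hqp : q ≠ p := by
    rintro rfl
    exact hq.one_lt.ne' (Nat.Coprime.eq_one_of_dvd hL.cop.symm hqdvd)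
  have hqL : q ∣ Nat.card L := dvd_trans hqdvd (Subgroup.relIndex_dvd_card H L)
  obtain ⟨Q₀⟩ : Nonempty (Sylow q L) := Sylow.nonempty
  have hQ₀b : (Q₀ : Subgroup L) ≠ ⊥ := Q₀.ne_bot_of_dvd_card hqL
  set Q : Subgroup G := (Q₀ : Subgroup L).map L.subtype with hQ
  have hQL : Q ≤ L := by
    rintro _ ⟨x, -, rfl⟩
    exact x.2
  have hQq : IsPGroup q Q := Q₀.isPGroup'.map _
  have hQb : Q ≠ ⊥ := by
    intro h
    apply hQ₀b
    rw [eq_bot_iff]
    intro x hx
    have h1 : (x : G) ∈ Q := ⟨x, hx, rfl⟩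
    rw [h, Subgroup.mem_bot] at h1
    rw [Subgroup.mem_bot]
    exact Subtype.ext h1
  -- the normalizer of H Q has index prime to p
  set L₀ : Subgroup G := H ⊔ Q with hL₀
  set N₀ : Subgroup G := Subgroup.normalizer (L₀ : Set G) with hN₀
  have hHconj : ∀ g : G, H.map (MulAut.conj g).toMonoidHom = H := fun g =>
    map_conj_eq_of_mem_normalizer
      (by rw [Subgroup.normalizer_eq_top_iff.mpr hn]; trivial)
  have hNQ : Subgroup.normalizer (Q : Set G) ≤ N₀ := by
    intro g hg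
    apply mem_normalizer_of_map_conj_eq
    rw [hL₀, Subgroup.map_sup, hHconj g, map_conj_eq_of_mem_normalizer hg]
  have hfrat : N₀ ⊔ L = ⊤ := by
    have h1 : Subgroup.normalizer (Q : Set G) ⊔ L = ⊤ := Sylow.normalizer_sup_eq_top Q₀
    rw [← top_le_iff, ← h1]
    exact sup_le_sup_right hNQ L
  have hL₀le : L₀ ≤ N₀ ⊓ L := le_inf Subgroup.le_normalizer (sup_le hL.le hQL)
  have hidx : (N₀.index).Coprime p := by
    have h1 := card_sup_mul_card_inf N₀ L
    rw [hfrat, Subgroup.card_top] at h1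
    have h2 := Subgroup.card_mul_index N₀
    have h3 : Nat.card (N₀ ⊓ L : Subgroup G) * (N₀ ⊓ L).relIndex L = Nat.card L := by
      have := Subgroup.relIndex_mul_relIndex ⊥ (N₀ ⊓ L) L bot_le inf_le_right
      rwa [Subgroup.relIndex_bot_left, Subgroup.relIndex_bot_left] at this
    have h4 : N₀.index = (N₀ ⊓ L).relIndex L := by
      have hpos1 : 0 < Nat.card N₀ := Nat.card_pos
      have hpos2 : 0 < Nat.card (N₀ ⊓ L : Subgroup G) := Nat.card_pos
      have : Nat.card N₀ * Nat.card (N₀ ⊓ L : Subgroup G) * N₀.index =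
          Nat.card N₀ * Nat.card (N₀ ⊓ L : Subgroup G) * (N₀ ⊓ L).relIndex L := by
        calc Nat.card N₀ * Nat.card (N₀ ⊓ L : Subgroup G) * N₀.index
            = (Nat.card N₀ * N₀.index) * Nat.card (N₀ ⊓ L : Subgroup G) := by ring
          _ = Nat.card N₀ * Nat.card L := by rw [h2, h1]
          _ = Nat.card N₀ * (Nat.card (N₀ ⊓ L : Subgroup G) * (N₀ ⊓ L).relIndex L) := by rw [h3]
          _ = _ := by ring
      exact Nat.eq_of_mul_eq_mul_left (Nat.mul_pos hpos1 hpos2) this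
    rw [h4]
    have h5 : (N₀ ⊓ L).relIndex L ∣ H.relIndex L :=
      Subgroup.relIndex_dvd_of_le_left L (le_sup_left.trans hL₀le)
    exact Nat.Coprime.coprime_dvd_left h5 hL.cop
  obtain ⟨g, hg⟩ := exists_conj_mem_of_index_coprime S N₀ hidx
  -- the conjugate normalized by S
  set Q₁ : Subgroup G := Q.map (MulAut.conj g).toMonoidHom with hQ₁
  set L₁ : Subgroup G := L₀.map (MulAut.conj g).toMonoidHom with hL₁
  have hL₁eq : L₁ = H ⊔ Q₁ := by rw [hL₁, hL₀, Subgroup.map_sup, hHconj g]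
  have hQ₁L : Q₁ ≤ L := by
    rintro _ ⟨x, hx, rfl⟩
    exact hLn.conj_mem x (hQL hx) g
  have hQ₁q : IsPGroup q Q₁ := hQq.map _
  have hSL₁ : (S : Subgroup G) ≤ Subgroup.normalizer (L₁ : Set G) := by
    apply le_normalizer_of_conj_mem
    rintro s hs _ ⟨z, hz, rfl⟩
    have ht := hg s hs
    have h1 : (g⁻¹ * s * g) * z * (g⁻¹ * s * g)⁻¹ ∈ L₀ :=
      (Subgroup.mem_normalizer_iff.mp ht z).mp hz
    refine ⟨(g⁻¹ * s * g) * z * (g⁻¹ * s * g)⁻¹, h1, ?_⟩
    simp only [MulEquiv.coe_toMonoidHom, MulAut.conj_apply]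
    group
  have hcopQ₁ : (Nat.card Q₁).Coprime p := by
    obtain ⟨j, hj⟩ := IsPGroup.iff_card.mp hQ₁q
    rw [hj]
    exact Nat.Coprime.pow_left j ((Nat.coprime_primes hq hp.out).mpr hqp)
  rcases mc.minimality hH hL S (hL₁eq ▸ le_sup_left) (hL₁eq ▸ sup_le hL.le hQ₁L) hSL₁ with h | h
  · -- impossible: Q₁ ≤ H
    exfalso
    apply hQb
    rw [eq_bot_iff]
    intro x hx
    have h1 : g * x * g⁻¹ ∈ Q₁ := ⟨x, hx, by simp⟩
    have h2 : g * x * g⁻¹ ∈ H := by
      rw [← h, hL₁eq]; exact Subgroup.mem_sup_right h1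
    have h3 := eq_one_of_mem_of_mem_coprime hH.isP hcopQ₁ h2 h1
    rw [Subgroup.mem_bot]
    have : x = g⁻¹ * (g * x * g⁻¹) * g := by group
    rw [this, h3]; group
  · -- L = H Q₁, so L / H is a q-group
    set Lb : Subgroup (G ⧸ H) := L.map (QuotientGroup.mk' H) with hLb
    have hLbq : IsPGroup q Lb := by
      have : Lb = Q₁.map (QuotientGroup.mk' H) := by
        rw [hLb, ← h, hL₁eq, Subgroup.map_sup, QuotientGroup.map_mk'_self, bot_sup_eq]
      rw [this]
      exact hQ₁q.map _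
    have hLbb : Lb ≠ ⊥ := by
      intro hb
      apply hLH
      intro x hx
      have h1 : QuotientGroup.mk' H x ∈ Lb := ⟨x, hx, rfl⟩
      rw [hb, Subgroup.mem_bot] at h1
      exact (QuotientGroup.eq_one_iff x).mp h1
    have hLbn : Lb.Normal := hLn.map _ hsurj
    have hZb : ZS Lb ≠ ⊥ := zs_ne_bot hLbq hLbb
    have hZn : (ZS Lb).Normal := by
      rw [← Subgroup.normalizer_eq_top_iff, ← top_le_iff,
        ← Subgroup.normalizer_eq_top_iff.mpr hLbn]
      exact normalizer_le_normalizer_zs Lb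
    set L₂ : Subgroup G := (ZS Lb).comap (QuotientGroup.mk' H) with hL₂
    have hL₂n : L₂.Normal := hZn.comap _
    have hHL₂ : H ≤ L₂ := by
      intro x hx
      show QuotientGroup.mk' H x ∈ ZS Lb
      have : QuotientGroup.mk' H x = 1 := (QuotientGroup.eq_one_iff x).mpr hx
      rw [this]; exact Subgroup.one_mem _
    have hL₂L : L₂ ≤ L := by
      have h1 : L₂ ≤ Lb.comap (QuotientGroup.mk' H) := Subgroup.comap_mono (zs_le Lb)
      rw [hLb, Subgroup.comap_map_eq, QuotientGroup.ker_mk', sup_of_le_left hL.le] at h1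
      exact h1
    have hmap : L₂.map (QuotientGroup.mk' H) = ZS Lb :=
      Subgroup.map_comap_eq_self_of_surjective hsurj _
    have hSL₂ : (S : Subgroup G) ≤ Subgroup.normalizer (L₂ : Set G) := by
      rw [Subgroup.normalizer_eq_top_iff.mpr hL₂n]; exact le_top
    rcases mc.minimality hH hL S hHL₂ hL₂L hSL₂ with h' | h'
    · exfalso
      apply hZb
      rw [← hmap, h', QuotientGroup.map_mk'_self]
    · intro l hl l' hl'
      have h1 : Lb = ZS Lb := by rw [← hmap, h']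
      have hl1 : QuotientGroup.mk' H l ∈ Subgroup.centralizer (Lb : Set (G ⧸ H)) := by
        have : QuotientGroup.mk' H l ∈ ZS Lb := by rw [← h1]; exact ⟨l, hl, rfl⟩
        exact this.2
      have h2 := (Subgroup.mem_centralizer_iff.mp hl1) (QuotientGroup.mk' H l') ⟨l', hl', rfl⟩
      apply (QuotientGroup.eq_one_iff _).mp
      show QuotientGroup.mk' H (l * l' * l⁻¹ * l'⁻¹) = 1
      rw [map_mul, map_mul, map_mul, map_inv, map_inv, ← h2]
      group

end Cfsg.Agent.Helper34.TNC
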