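import Mathlib
import Cfsg.Agent.Lib.Helper33.Syl
import Cfsg.Agent.Lib.Helper34.TNC4

/-!
# Orbit sums for quadratically acting subgroups on an elementary abelian 2-group, and a
chain lemma for subgroups generated by a conjugation-invariant family
-/

set_option autoImplicit false
set_option linter.unusedSectionVars false
set_option linter.unusedVariables false

namespace Cfsg.Agent.Helper34.WCJ

open Cfsg

section OrbitSum

variable {𝕍 : Type*} [CommGroup 𝕍] {Γ : Type*} [Group Γ] (ρ : Γ →* MulAut 𝕍)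

/-- products over invariant sets only see the fixed points -/
def Good (P : Subgroup Γ) : Prop :=
  ∀ Ψ Ψ' : Finset 𝕍, (∀ g ∈ P, ∀ w ∈ Ψ, ρ g w ∈ Ψ) →
    (∀ w, w ∈ Ψ' ↔ w ∈ Ψ ∧ ∀ g ∈ P, ρ g w = w) → ∏ w ∈ Ψ, w = ∏ w ∈ Ψ', w

/-- the stabilizer of a vector -/
def stabSub (w : 𝕍) : Subgroup Γ where
  carrier := {g | ρ g w = w}
  mul_mem' := by
    intro a b ha hb
    show ρ (a * b) w = w
    rw [map_mul, MulAut.mul_apply]
    rw [Set.mem_ofPred_eq] at ha hb
    rw [hb, ha]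
  one_mem' := by
    show ρ 1 w = w
    rw [map_one]; rfl
  inv_mem' := by
    intro a ha
    show ρ a⁻¹ w = w
    rw [Set.mem_ofPred_eq] at ha
    rw [map_inv]
    calc (ρ a)⁻¹ w = (ρ a)⁻¹ (ρ a w) := by rw [ha]
      _ = w := by simp

theorem mem_stabSub {w : 𝕍} {g : Γ} : g ∈ stabSub ρ w ↔ ρ g w = w := Iff.rfl

theorem good_bot : Good ρ (⊥ : Subgroup Γ) := by
  intro Ψ Ψ' _ h
  have : Ψ' = Ψ := by
    ext w
    rw [h w]
    constructor
    · exact fun h => h.1
    · intro hw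
      refine ⟨hw, fun g hg => ?_⟩
      rw [Subgroup.mem_bot] at hg
      rw [hg, map_one]; rfl
  rw [this]

theorem good_sup {P A : Subgroup Γ} (hP : Good ρ P) (hA : Good ρ A)
    (hAP : A ≤ Subgroup.normalizer (P : Set Γ)) : Good ρ (P ⊔ A) := by
  classical
  intro Ψ Ψ'' hinv hfix
  set Ψ' : Finset 𝕍 := Ψ.filter (fun w => ∀ g ∈ P, ρ g w = w) with hΨ'
  have h1 : ∏ w ∈ Ψ, w = ∏ w ∈ Ψ', w := by
    apply hP Ψ Ψ' (fun g hg w hw => hinv g (Subgroup.mem_sup_left hg) w hw)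
    intro w
    rw [hΨ', Finset.mem_filter]
  have h2 : ∏ w ∈ Ψ', w = ∏ w ∈ Ψ'', w := by
    apply hA Ψ' Ψ''
    · intro a ha w hw
      rw [hΨ', Finset.mem_filter] at hw ⊢
      refine ⟨hinv a (Subgroup.mem_sup_right ha) w hw.1, fun g hg => ?_⟩
      have haN := hAP ha
      have h3 : a⁻¹ * g * a ∈ P := by
        have := (Subgroup.mem_normalizer_iff.mp (Subgroup.inv_mem _ haN) g).mp hg
        simpa using this
      have h4 := hw.2 _ h3
      have h5 : g * a = a * (a⁻¹ * g * a) := by group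
      calc ρ g (ρ a w) = ρ (g * a) w := by rw [map_mul]; rfl
        _ = ρ (a * (a⁻¹ * g * a)) w := by rw [h5]
        _ = ρ a (ρ (a⁻¹ * g * a) w) := by rw [map_mul]; rfl
        _ = ρ a w := by rw [h4]
    · intro w
      rw [hfix w, hΨ', Finset.mem_filter]
      constructor
      · intro h
        exact ⟨⟨h.1, fun g hg => h.2 g (Subgroup.mem_sup_left hg)⟩,
          fun g hg => h.2 g (Subgroup.mem_sup_right hg)⟩
      · intro h
        refine ⟨h.1.1, ?_⟩
        have hle : P ⊔ A ≤ stabSub ρ w := sup_le (fun g hg => h.1.2 g hg) (fun g hg => h.2 g hg)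
        exact fun g hg => hle hg
  rw [h1, h2]

variable [Finite Γ]

/-- the orbit product lies in `{1, e}` for every displacement `e` -/
theorem orbit_prod_mem (hV : ∀ v : 𝕍, v * v = 1) (A : Subgroup Γ)
    (hquad : ∀ a ∈ A, ∀ b ∈ A, ∀ v, ρ a (ρ b v / v) = ρ b v / v)
    (O : Finset 𝕍) (v : 𝕍) (hO : ∀ w, w ∈ O ↔ ∃ d ∈ A, ρ d v = w) (c : Γ) (hc : c ∈ A)
    (hne : ρ c v ≠ v) : ∏ w ∈ O, w = 1 ∨ ∏ w ∈ O, w = ρ c v / v := by
  classical
  set e := ρ c v / v with he
  have he1 : e ≠ 1 := by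
    intro h
    apply hne
    rw [he, div_eq_one] at h
    exact h
  have hee : e * e = 1 := hV e
  have hmem : ∏ w ∈ O, w ∈ Subgroup.zpowers e := by
    rw [← QuotientGroup.eq_one_iff]
    show QuotientGroup.mk' (Subgroup.zpowers e) (∏ w ∈ O, w) = 1
    rw [map_prod]
    apply Finset.prod_involution (fun w _ => w * e)
    · intro w _
      rw [← map_mul, QuotientGroup.mk'_apply, QuotientGroup.eq_one_iff]
      have : w * (w * e) = e := by rw [← mul_assoc, hV w, one_mul]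
      rw [this]
      exact Subgroup.mem_zpowers e
    · intro w _ _ h
      apply he1
      calc e = w⁻¹ * (w * e) := by group
        _ = w⁻¹ * w := by rw [h]
        _ = 1 := by group
    · intro w hw
      rw [hO] at hw ⊢
      obtain ⟨d, hd, rfl⟩ := hw
      refine ⟨d * c, A.mul_mem hd hc, ?_⟩
      have h1 := hquad d hd c hc v
      rw [← he] at h1
      have h2 : ρ c v = v * e := by rw [he]; simp
      calc ρ (d * c) v = ρ d (ρ c v) := by rw [map_mul]; rfl
        _ = ρ d (v * e) := by rw [h2]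
        _ = ρ d v * ρ d e := map_mul _ _ _
        _ = ρ d v * e := by rw [h1]
    · intro w _
      rw [mul_assoc, hee, mul_one]
  obtain ⟨k, hk⟩ := Subgroup.mem_zpowers_iff.mp hmem
  rcases Int.even_or_odd k with ⟨m, hm⟩ | ⟨m, hm⟩
  · left
    rw [← hk, hm, ← two_mul, zpow_mul, zpow_two, hee, one_zpow]
  · right
    rw [← hk, hm, zpow_add, zpow_mul, zpow_two, hee, one_zpow, one_mul, zpow_one]

/-- a quadratically acting subgroup without orbits of length two is good -/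
theorem good_of_quadratic (hV : ∀ v : 𝕍, v * v = 1) (A : Subgroup Γ)
    (hquad : ∀ a ∈ A, ∀ b ∈ A, ∀ v, ρ a (ρ b v / v) = ρ b v / v)
    (hno2 : ∀ v, ∀ a ∈ A, ρ a v ≠ v → ∃ b ∈ A, ρ b v ≠ v ∧ ρ b v ≠ ρ a v) : Good ρ A := by
  classical
  intro Ψ
  induction Ψ using Finset.strongInduction with
  | H Ψ ih =>
  intro Ψ' hinv hfix
  by_cases hall : ∀ w ∈ Ψ, ∀ g ∈ A, ρ g w = w
  · have : Ψ' = Ψ := by
      ext w
      rw [hfix w]
      exact ⟨fun h => h.1, fun hw => ⟨hw, hall w hw⟩⟩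
    rw [this]
  push Not at hall
  obtain ⟨v, hvΨ, a, ha, hav⟩ := hall
  let _ : Fintype ↥A := Fintype.ofFinite _
  set O : Finset 𝕍 := Finset.univ.image (fun d : ↥A => ρ (d : Γ) v) with hOdef
  have hO : ∀ w, w ∈ O ↔ ∃ d ∈ A, ρ d v = w := by
    intro w
    rw [hOdef, Finset.mem_image]
    constructor
    · rintro ⟨d, -, rfl⟩
      exact ⟨d, d.2, rfl⟩
    · rintro ⟨d, hd, rfl⟩
      exact ⟨⟨d, hd⟩, Finset.mem_univ _, rfl⟩
  have hOΨ : O ⊆ Ψ := by
    intro w hw
    obtain ⟨d, hd, rfl⟩ := (hO w).mp hw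
    exact hinv d hd v hvΨ
  have hvO : v ∈ O := (hO v).mpr ⟨1, A.one_mem, by rw [map_one]; rfl⟩
  -- the orbit product is trivial
  have hprodO : ∏ w ∈ O, w = 1 := by
    obtain ⟨b, hb, hbv, hba⟩ := hno2 v a ha hav
    rcases orbit_prod_mem ρ hV A hquad O v hO a ha hav with h1 | h1
    · exact h1
    · rcases orbit_prod_mem ρ hV A hquad O v hO b hb hbv with h2 | h2
      · exact h2
      · exfalso
        apply hba
        have h3 : ρ b v / v = ρ a v / v := by rw [← h1, ← h2]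
        exact div_left_injective h3
  -- the complement
  have hlt : Ψ \ O ⊂ Ψ := by
    refine ⟨Finset.sdiff_subset, fun h => ?_⟩
    have := h hvΨ
    rw [Finset.mem_sdiff] at this
    exact this.2 hvO
  have hinv' : ∀ g ∈ A, ∀ w ∈ Ψ \ O, ρ g w ∈ Ψ \ O := by
    intro g hg w hw
    rw [Finset.mem_sdiff] at hw ⊢
    refine ⟨hinv g hg w hw.1, fun h => hw.2 ?_⟩
    obtain ⟨d, hd, hdw⟩ := (hO _).mp h
    refine (hO w).mpr ⟨g⁻¹ * d, A.mul_mem (A.inv_mem hg) hd, ?_⟩
    calc ρ (g⁻¹ * d) v = ρ g⁻¹ (ρ d v) := by rw [map_mul]; rfl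
      _ = ρ g⁻¹ (ρ g w) := by rw [hdw]
      _ = w := by rw [map_inv]; simp
  have hfix' : ∀ w, w ∈ Ψ' ↔ w ∈ Ψ \ O ∧ ∀ g ∈ A, ρ g w = w := by
    intro w
    rw [hfix w, Finset.mem_sdiff]
    constructor
    · intro h
      refine ⟨⟨h.1, fun hwO => ?_⟩, h.2⟩
      obtain ⟨d, hd, rfl⟩ := (hO w).mp hwO
      apply hav
      have h1 := h.2 d⁻¹ (A.inv_mem hd)
      have h2 : ρ d⁻¹ (ρ d v) = v := by rw [map_inv]; simp
      have h3 : ρ d v = v := by rw [← h1, h2]
      have h4 := h.2 a ha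
      rw [h3] at h4
      exact h4
    · intro h
      exact ⟨h.1.1, h.2⟩
  have h1 := ih (Ψ \ O) hlt Ψ' hinv' hfix'
  rw [← Finset.prod_sdiff hOΨ, hprodO, mul_one, h1]

end OrbitSum

section Chain

variable {Γ : Type*} [Group Γ] [Finite Γ] {p : ℕ} [Fact p.Prime]

open Cfsg.Agent.Helper34.TNC in
/-- a subgroup generated by an `S`-invariant family of subgroups of the `p`-group `S` inherits
every property that holds for `⊥` and is preserved when adjoining a normalizing member -/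
theorem good_sSup (S : Subgroup Γ) (hS : IsPGroup p S) (𝒜 : Set (Subgroup Γ))
    (h𝒜S : ∀ A ∈ 𝒜, A ≤ S)
    (hconj : ∀ A ∈ 𝒜, ∀ s ∈ S, A.map (MulAut.conj s).toMonoidHom ∈ 𝒜)
    (Gd : Subgroup Γ → Prop) (h0 : Gd ⊥)
    (hstep : ∀ P, Gd P → ∀ A ∈ 𝒜, A ≤ Subgroup.normalizer (P : Set Γ) → Gd (P ⊔ A)) :
    Gd (sSup 𝒜) := by
  classical
  let PP : Set (Subgroup Γ) := {P | Gd P ∧ P = sSup {A | A ∈ 𝒜 ∧ A ≤ P}}
  have hbot : (⊥ : Subgroup Γ) ∈ PP := by
    refine ⟨h0, ?_⟩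
    exact le_antisymm bot_le (sSup_le (fun A hA => hA.2))
  obtain ⟨P, hP, hPmax⟩ := Set.exists_max_image PP (fun P => Nat.card P) (Set.toFinite _) ⟨⊥, hbot⟩
  have hPS : P ≤ S := by
    rw [hP.2]
    exact sSup_le (fun A hA => h𝒜S A hA.1)
  have hall : ∀ A ∈ 𝒜, A ≤ P := by
    by_contra hcon
    push Not at hcon
    obtain ⟨A₀, hA₀, hA₀P⟩ := hcon
    -- a member normalizing `P`, not inside `P`
    have hex : ∃ A' ∈ 𝒜, A' ≤ Subgroup.normalizer (P : Set Γ) ∧ ¬ A' ≤ P := by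
      by_contra hno
      push Not at hno
      set N₁ := S ⊓ Subgroup.normalizer (P : Set Γ) with hN₁
      have hPN₁ : P ≤ N₁ := le_inf hPS Subgroup.le_normalizer
      have hne : N₁ ≠ S := by
        intro h
        apply hA₀P
        apply hno A₀ hA₀
        exact (h𝒜S A₀ hA₀).trans (h ▸ inf_le_right)
      have hgrow := Cfsg.Agent.Helper33.IsSylIn.normalizer_growth hS (inf_le_left : N₁ ≤ S) hne
      obtain ⟨t, ht, htN⟩ := SetLike.exists_of_lt hgrow
      obtain ⟨htS, htN₁⟩ := Subgroup.mem_inf.mp ht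
      apply htN
      refine Subgroup.mem_inf.mpr ⟨htS, ?_⟩
      apply mem_normalizer_of_conj_mem_finite
      have hle : P ≤ P.comap (MulAut.conj t).toMonoidHom := by
        rw [hP.2]
        apply sSup_le
        rintro A ⟨hA, hAP⟩
        rw [← hP.2, ← Subgroup.map_le_iff_le_comap]
        apply hno _ (hconj A hA t htS)
        rintro _ ⟨y, hy, rfl⟩
        have hyN₁ : y ∈ N₁ := hPN₁ (hAP hy)
        have := (Subgroup.mem_normalizer_iff.mp htN₁ y).mp hyN₁
        exact (Subgroup.mem_inf.mp this).2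
      intro u hu
      exact hle hu
    obtain ⟨A', hA', hA'N, hA'P⟩ := hex
    have hmem : P ⊔ A' ∈ PP := by
      refine ⟨hstep P hP.1 A' hA' hA'N, le_antisymm ?_ (sSup_le (fun A hA => hA.2))⟩
      apply sup_le
      · conv_lhs => rw [hP.2]
        apply sSup_le
        intro A hA
        exact le_sSup ⟨hA.1, hA.2.trans le_sup_left⟩
      · exact le_sSup ⟨hA', le_sup_right⟩
    have hlt : P < P ⊔ A' := lt_of_le_of_ne le_sup_left (fun h => hA'P (h ▸ le_sup_right))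
    have := hPmax (P ⊔ A') hmem
    have h2 : Nat.card P < Nat.card (P ⊔ A' : Subgroup Γ) := by
      have hle := Subgroup.card_le_of_le hlt.le
      rcases hle.lt_or_eq with h | h
      · exact h
      · exact absurd (Subgroup.eq_of_le_of_card_ge hlt.le h.ge) hlt.ne
    omega
  have hEq : P = sSup 𝒜 := by
    rw [hP.2]
    congr 1
    ext A
    exact ⟨fun h => h.1, fun h => ⟨h, hall A h⟩⟩
  rw [← hEq]
  exact hP.1

end Chain

end Cfsg.Agent.Helper34.WCJ
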