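import Cfsg.Agent.Lib.Helper34.WCJ1
import Cfsg.Agent.Lib.Helper33.WC73b

/-!
# The local situation for weak closure with respect to `J` at the prime 2:
reduction to an involution
-/

set_option autoImplicit false
set_option linter.unusedSectionVars false
set_option linter.unusedVariables false

namespace Cfsg.Agent.Helper34.WCJ

open Cfsg Cfsg.Agent.Helper34.TNC
open scoped IsMulCommutative

universe u

variable {X : Type u} [Group X] [Finite X] {p : ℕ} [hp : Fact p.Prime]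

/-- the local situation: `x` is central in `S`, lies in `O_p(X)`, is centralized by `N(J(S))` and
by every proper subgroup containing `S` -/
structure Loc (S : Sylow p X) (x : X) : Prop where
  zS : x ∈ (S : Subgroup X) ⊓ Subgroup.centralizer ((S : Subgroup X) : Set X)
  q : x ∈ pCore p X
  nJ : ∀ n ∈ Subgroup.normalizer ((Cfsg.thompsonSubgroupAOf (S : Subgroup X) : Subgroup X) : Set X),
    n * x = x * n
  ovr : ∀ K : Subgroup X, (S : Subgroup X) ≤ K → K ≠ ⊤ → ∀ k ∈ K, k * x = x * k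

theorem Loc.mul {S : Sylow p X} {x y : X} (hx : Loc S x) (hy : Loc S y) : Loc S (x * y) := by
  refine ⟨Subgroup.mul_mem _ hx.zS hy.zS, Subgroup.mul_mem _ hx.q hy.q, ?_, ?_⟩
  · intro n hn
    have h1 := hx.nJ n hn
    have h2 := hy.nJ n hn
    calc n * (x * y) = (n * x) * y := by group
      _ = x * (n * y) := by rw [h1]; group
      _ = x * y * n := by rw [h2]; group
  · intro K hSK hK k hk
    have h1 := hx.ovr K hSK hK k hk
    have h2 := hy.ovr K hSK hK k hk
    calc k * (x * y) = (k * x) * y := by group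
      _ = x * (k * y) := by rw [h1]; group
      _ = x * y * k := by rw [h2]; group

theorem Loc.one {S : Sylow p X} : Loc S (1 : X) :=
  ⟨Subgroup.one_mem _, Subgroup.one_mem _, fun n _ => by rw [mul_one, one_mul],
    fun K _ _ k _ => by rw [mul_one, one_mul]⟩

theorem Loc.pow {S : Sylow p X} {x : X} (hx : Loc S x) (n : ℕ) : Loc S (x ^ n) := by
  induction n with
  | zero => rw [pow_zero]; exact Loc.one
  | succ n ih => rw [pow_succ]; exact ih.mul hx

theorem Loc.of_central {S : Sylow p X} {z : X} (hzQ : z ∈ pCore p X)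
    (hz : ∀ t : X, t * z = z * t) : Loc S z := by
  refine ⟨Subgroup.mem_inf.mpr ⟨Cfsg.Agent.Helper33.pCore_le_sylow S hzQ, ?_⟩, hzQ,
    fun n _ => hz n, fun K _ _ k _ => hz k⟩
  rw [Subgroup.mem_centralizer_iff]
  intro s _
  exact hz s

/-- in the local situation, a non-central element can be replaced by a non-central involution -/
theorem exists_involution (hp2 : p = 2) (S : Sylow p X) (x : X) (hx : Loc S x)
    (hbad : ∃ t : X, t * x ≠ x * t) :
    ∃ y : X, Loc S y ∧ (∃ t : X, t * y ≠ y * t) ∧ y * y = 1 := by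
  classical
  subst hp2
  -- minimal order
  obtain ⟨x, ⟨hx, hbad⟩, hmin⟩ : ∃ x : X, (Loc S x ∧ ∃ t : X, t * x ≠ x * t) ∧
      ∀ y : X, (Loc S y ∧ ∃ t : X, t * y ≠ y * t) → orderOf x ≤ orderOf y := by
    have hne : {y : X | Loc S y ∧ ∃ t : X, t * y ≠ y * t}.Nonempty := ⟨x, hx, hbad⟩
    obtain ⟨y, hy, hymin⟩ := Set.exists_min_image _ (fun y : X => orderOf y) (Set.toFinite _) hne
    exact ⟨y, hy, hymin⟩
  set Q := pCore 2 X with hQ
  have hQn : Q.Normal := Cfsg.Agent.Helper33.pCore_normal 2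
  have hQS : Q ≤ (S : Subgroup X) := Cfsg.Agent.Helper33.pCore_le_sylow S
  have hx1 : x ≠ 1 := by
    rintro rfl
    obtain ⟨t, ht⟩ := hbad
    exact ht (by rw [mul_one, one_mul])
  -- `x` is a 2-element
  obtain ⟨k, hk⟩ := (S.isPGroup'.to_le hQS) ⟨x, hx.q⟩
  have hk' : x ^ (2 ^ k) = 1 := by
    have := congrArg Subtype.val hk
    simpa using this
  have hord : orderOf x ∣ 2 ^ k := orderOf_dvd_of_pow_eq_one hk'
  obtain ⟨j, hj, hoj⟩ := (Nat.dvd_prime_pow Nat.prime_two).mp hord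
  have hj0 : j ≠ 0 := by
    rintro rfl
    rw [pow_zero, orderOf_eq_one_iff] at hoj
    exact hx1 hoj
  -- `x²` is central
  have hsqc : ∀ t : X, t * (x ^ 2) = (x ^ 2) * t := by
    by_contra hcon
    push Not at hcon
    have h1 := hmin (x ^ 2) ⟨hx.pow 2, hcon⟩
    have h2 : orderOf (x ^ 2) = 2 ^ (j - 1) := by
      rw [orderOf_pow' x (by norm_num), hoj]
      obtain ⟨i, rfl⟩ : ∃ i, j = i + 1 := ⟨j - 1, by omega⟩
      rw [Nat.add_sub_cancel, pow_succ]
      have : Nat.gcd (2 ^ i * 2) 2 = 2 := Nat.gcd_eq_right (Dvd.intro_left _ rfl)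
      rw [this, Nat.mul_div_cancel _ (by norm_num)]
    rw [h2, hoj] at h1
    have : 2 ^ (j - 1) < 2 ^ j := Nat.pow_lt_pow_right (by norm_num) (by omega)
    omega
  -- the abelian normal subgroup `Z(Q)`
  set V₀ : Subgroup X := Q ⊓ Subgroup.centralizer (Q : Set X) with hV₀
  have hV₀n : V₀.Normal := by rw [hV₀]; infer_instance
  have hV₀c : ∀ a ∈ V₀, ∀ b ∈ V₀, a * b = b * a := by
    intro a ha b hb
    exact Subgroup.mem_centralizer_iff.mp hb.2 a ha.1
  have : IsMulCommutative ↥V₀ := ⟨⟨fun a b => Subtype.ext (hV₀c a.1 a.2 b.1 b.2)⟩⟩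
  have hxV₀ : x ∈ V₀ :=
    Subgroup.mem_inf.mpr ⟨hx.q, Subgroup.centralizer_le (by exact_mod_cast hQS) hx.zS.2⟩
  -- the centralizer of `x`
  obtain ⟨M, hMdef⟩ : ∃ M : Subgroup X, M = Subgroup.normalizer ({x} : Set X) := ⟨_, rfl⟩
  have hmemM : ∀ g : X, g ∈ M ↔ g * x = x * g := by
    intro g; rw [hMdef]; exact Cfsg.Agent.Helper33.mem_normalizer_singleton
  have hSM : (S : Subgroup X) ≤ M := by
    intro s hs
    rw [hmemM]
    exact Subgroup.mem_centralizer_iff.mp hx.zS.2 s hs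
  let _ : Fintype (X ⧸ M) := Fintype.ofFinite _
  let c : X ⧸ M → ↥V₀ := fun q => ⟨q.out * x * q.out⁻¹, hV₀n.conj_mem x hxV₀ _⟩
  have hc : ∀ t : X, (c (t : X ⧸ M) : X) = t * x * t⁻¹ := by
    intro t
    have h1 : ((t : X ⧸ M)).out⁻¹ * t ∈ M := by
      rw [← QuotientGroup.eq]; exact QuotientGroup.out_eq' _
    have h2 := (hmemM _).mp h1
    show (t : X ⧸ M).out * x * (t : X ⧸ M).out⁻¹ = t * x * t⁻¹
    calc (t : X ⧸ M).out * x * (t : X ⧸ M).out⁻¹
        = (t : X ⧸ M).out * (x * ((t : X ⧸ M).out⁻¹ * t)) * t⁻¹ := by group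
      _ = (t : X ⧸ M).out * (((t : X ⧸ M).out⁻¹ * t) * x) * t⁻¹ := by rw [h2]
      _ = t * x * t⁻¹ := by group
  have hcmul : ∀ t h : X, (c ((t * h : X) : X ⧸ M) : X) = t * (c (h : X ⧸ M) : X) * t⁻¹ := by
    intro t h
    rw [hc, hc]; group
  have hcentral := Cfsg.Agent.Helper33.norm_central V₀ M c hcmul
  obtain ⟨z, hz⟩ : ∃ z : X, z = ((∏ q : X ⧸ M, c q : ↥V₀) : X) := ⟨_, rfl⟩
  have hzV₀ : z ∈ V₀ := by rw [hz]; exact (∏ q : X ⧸ M, c q : ↥V₀).2
  have hzc : ∀ t : X, t * z = z * t := by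
    intro t
    have := hcentral t
    rw [← hz] at this
    calc t * z = (t * z * t⁻¹) * t := by group
      _ = z * t := by rw [this]
  -- the number of conjugates is odd
  set m := Nat.card (X ⧸ M) with hm
  have hmodd : Nat.Coprime m 2 := by
    rw [Nat.coprime_two_right]
    have h1 : M.index ∣ (S : Subgroup X).index := Subgroup.index_dvd_of_le hSM
    have h2 : ¬ 2 ∣ (S : Subgroup X).index := S.not_dvd_index
    have h3 : m = M.index := rfl
    rw [h3, ← Nat.not_even_iff_odd, even_iff_two_dvd]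
    exact fun h => h2 (h.trans h1)
  -- the square of `z`
  have hzsq : z * z = (x ^ 2) ^ m := by
    have h1 : ((∏ q : X ⧸ M, c q : ↥V₀)) ^ 2 = ∏ q : X ⧸ M, (c q) ^ 2 :=
      (Finset.prod_pow _ _ _).symm
    have h2 : ∀ q : X ⧸ M, (c q) ^ 2 = (⟨x ^ 2, V₀.pow_mem hxV₀ 2⟩ : ↥V₀) := by
      intro q
      apply Subtype.ext
      show (q.out * x * q.out⁻¹) ^ 2 = x ^ 2
      have h3 : (q.out * x * q.out⁻¹) ^ 2 = q.out * x ^ 2 * q.out⁻¹ := by
        rw [pow_two, pow_two]; group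
      rw [h3, hsqc q.out]; group
    rw [Finset.prod_congr rfl (fun q _ => h2 q), Finset.prod_const, Finset.card_univ] at h1
    have h4 := congrArg Subtype.val h1
    rw [Subgroup.coe_pow, ← hz, Subgroup.coe_pow] at h4
    rw [← pow_two, h4, hm, Nat.card_eq_fintype_card]
  -- the new element
  refine ⟨x ^ m * z⁻¹, ?_, ?_, ?_⟩
  · apply (hx.pow m).mul
    apply Loc.of_central (Q.inv_mem hzV₀.1)
    intro t
    calc t * z⁻¹ = z⁻¹ * (z * t) * z⁻¹ := by group
      _ = z⁻¹ * (t * z) * z⁻¹ := by rw [hzc t]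
      _ = z⁻¹ * t := by group
  · obtain ⟨t, ht⟩ := hbad
    refine ⟨t, fun h => ht ?_⟩
    have h1 : t * x ^ m = x ^ m * t := by
      calc t * x ^ m = (t * (x ^ m * z⁻¹)) * z := by group
        _ = (x ^ m * z⁻¹ * t) * z := by rw [h]
        _ = x ^ m * z⁻¹ * (t * z) := by group
        _ = x ^ m * z⁻¹ * (z * t) := by rw [hzc t]
        _ = x ^ m * t := by group
    have hcop : Nat.Coprime m (orderOf x) := by
      rw [hoj]
      exact Nat.Coprime.pow_right j hmodd
    obtain ⟨i, hi⟩ := exists_pow_eq_self_of_coprime hcop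
    have h2 : Commute t (x ^ m) := h1
    have h3 : Commute t ((x ^ m) ^ i) := h2.pow_right i
    rw [hi] at h3
    exact h3
  · have h1 : Commute (x ^ m) z⁻¹ := by
      have : Commute z (x ^ m) := (hzc (x ^ m)).symm
      exact this.symm.inv_right
    calc x ^ m * z⁻¹ * (x ^ m * z⁻¹) = (x ^ m * x ^ m) * (z⁻¹ * z⁻¹) := by
          rw [mul_assoc, ← mul_assoc z⁻¹, ← h1.eq]; group
      _ = (x ^ 2) ^ m * (z * z)⁻¹ := by
          rw [← pow_add, ← two_mul, pow_mul, mul_inv_rev]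
      _ = 1 := by rw [hzsq, mul_inv_cancel]

end Cfsg.Agent.Helper34.WCJ
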