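import Cfsg.Agent.Lib.Helper34.TNC10
import Cfsg.Agent.Lib.Helper67.BaerSuzuki
import Cfsg.Agent.Lib.Helper33.Basic

/-!
# A transvection outside `O_2` produces a section `S₄`
-/

set_option autoImplicit false
set_option linter.unusedSectionVars false
set_option linter.unusedVariables false

namespace Cfsg.Agent.Helper34.WCJ

open Cfsg Cfsg.Agent.Helper34.TNC

/-- two involutions not generating a 2-group: a nontrivial power of odd order of their product,
inverted by the first involution -/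
theorem dihedral_odd {Δ : Type*} [Group Δ] [Finite Δ] (s t : Δ) (hs : s * s = 1) (ht : t * t = 1)
    (hnot : ¬ IsPGroup 2 ↥(Subgroup.zpowers s ⊔ Subgroup.zpowers t)) :
    ∃ k : ℕ, (s * t) ^ (2 ^ k) ≠ 1 ∧ Odd (orderOf ((s * t) ^ (2 ^ k))) ∧
      s * (s * t) ^ (2 ^ k) * s⁻¹ = ((s * t) ^ (2 ^ k))⁻¹ := by
  set r := s * t with hr
  have hn : orderOf r ≠ 0 := (orderOf_pos r).ne'
  obtain ⟨k, m, hm, hkm⟩ := Nat.exists_eq_two_pow_mul_odd hn
  have sinv : s⁻¹ = s := inv_eq_of_mul_eq_one_right hs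
  have tinv : t⁻¹ = t := inv_eq_of_mul_eq_one_right ht
  have hconj : s * r * s⁻¹ = r⁻¹ := by
    rw [hr, mul_inv_rev, sinv, tinv]
    calc s * (s * t) * s = (s * s) * t * s := by group
      _ = t * s := by rw [hs, one_mul]
  have hconjpow : ∀ j : ℕ, s * r ^ j * s⁻¹ = (r ^ j)⁻¹ := by
    intro j
    rw [← conj_pow, hconj, inv_pow]
  have horder : orderOf (r ^ 2 ^ k) = m := by
    rw [orderOf_pow' r (by positivity), hkm, Nat.gcd_eq_right (Dvd.intro _ rfl),
      Nat.mul_div_cancel_left _ (by positivity)]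
  refine ⟨k, ?_, by rw [horder]; exact hm, hconjpow _⟩
  intro h1
  apply hnot
  have hrp : IsPGroup 2 (Subgroup.zpowers r) := by
    apply IsPGroup.of_card (n := k)
    rw [Nat.card_zpowers]
    have : orderOf (r ^ 2 ^ k) = 1 := by rw [h1, orderOf_one]
    rw [horder] at this
    rw [hkm, this, mul_one]
  have hsp : IsPGroup 2 (Subgroup.zpowers s) := by
    rintro ⟨g, hg⟩
    refine ⟨1, ?_⟩
    obtain ⟨i, rfl⟩ := Subgroup.mem_zpowers_iff.mp hg
    apply Subtype.ext
    show (s ^ i) ^ 2 ^ 1 = 1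
    rw [pow_one, ← zpow_natCast, ← zpow_mul, mul_comm, zpow_mul, zpow_natCast, pow_two, hs,
      one_zpow]
  have hnorm : Subgroup.zpowers s ≤ Subgroup.normalizer (Subgroup.zpowers r : Set Δ) := by
    rw [Subgroup.zpowers_le]
    apply mem_normalizer_of_conj_mem_finite
    intro w hw
    obtain ⟨i, rfl⟩ := Subgroup.mem_zpowers_iff.mp hw
    have : s * r ^ i * s⁻¹ = (r ^ i)⁻¹ := by
      have h2 : s * r ^ i * s⁻¹ = (s * r * s⁻¹) ^ i := by
        rw [conj_zpow]
      rw [h2, hconj, inv_zpow]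
    rw [this]
    exact Subgroup.inv_mem _ (Subgroup.zpow_mem_zpowers r i)
  have hsup := IsPGroup.to_sup_of_normal_right' hsp hrp hnorm
  apply hsup.to_le
  apply sup_le le_sup_left
  rw [Subgroup.zpowers_le]
  have : t = s⁻¹ * r := by rw [hr]; group
  rw [this]
  exact Subgroup.mul_mem _ (Subgroup.inv_mem _ (Subgroup.mem_sup_left (Subgroup.mem_zpowers s)))
    (Subgroup.mem_sup_right (Subgroup.mem_zpowers r))

section Endgame

variable {G : Type*} [Group G] [Finite G] {𝕍 : Type*} [CommGroup 𝕍] [Finite 𝕍]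
  (ι : 𝕍 →* G) (hι : Function.Injective ι) (ρ : G →* MulAut 𝕍)
  (hρ : ∀ g v, ι (ρ g v) = g * ι v * g⁻¹)
  (hV : ∀ v : 𝕍, v * v = 1)

include hι hρ hV in
/-- a transvection and a conjugate that do not generate a 2-group give `S₄` -/
theorem involves_S4_of_transvection (a : G) (ha2 : ρ a * ρ a = 1)
    (hcard : Nat.card 𝕍 = 2 * Nat.card (fixedOne (ρ a))) (g : G)
    (hnot : ¬ IsPGroup 2 ↥(Subgroup.zpowers (ρ.rangeRestrict a) ⊔
      Subgroup.zpowers (ρ.rangeRestrict (g * a * g⁻¹)))) :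
    Cfsg.Involves (Equiv.Perm (Fin 4)) G := by
  set s : ρ.range := ρ.rangeRestrict a with hs
  set t : ρ.range := ρ.rangeRestrict (g * a * g⁻¹) with ht
  have hss : s * s = 1 := by
    apply Subtype.ext
    exact ha2
  have htt : t * t = 1 := by
    rw [ht, ← map_mul]
    have : g * a * g⁻¹ * (g * a * g⁻¹) = g * (a * a) * g⁻¹ := by group
    rw [this, map_mul, map_mul, map_mul]
    have : ρ.rangeRestrict a * ρ.rangeRestrict a = 1 := hss
    rw [this, mul_one, ← map_mul, mul_inv_cancel, map_one]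
  obtain ⟨k, hy1, hyodd, hyinv⟩ := dihedral_odd s t hss htt hnot
  set g₀ : G := (a * (g * a * g⁻¹)) ^ (2 ^ k) with hg₀
  have hyg : (s * t) ^ (2 ^ k) = ρ.rangeRestrict g₀ := by
    rw [hg₀, map_pow, map_mul]
  set y : MulAut 𝕍 := ρ g₀ with hy
  have hycoe : (((s * t) ^ (2 ^ k) : ρ.range) : MulAut 𝕍) = y := by
    rw [hyg]; rfl
  have hy1' : y ≠ 1 := by
    intro h
    apply hy1
    apply Subtype.ext
    rw [hycoe, h]; rfl
  have hord : orderOf y = orderOf ((s * t) ^ (2 ^ k)) := by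
    rw [← hycoe]
    exact (Subgroup.orderOf_coe _)
  have hQodd : Odd (Nat.card (Subgroup.zpowers y)) := by
    rw [Nat.card_zpowers, hord]; exact hyodd
  have hαy : ρ a * y * (ρ a)⁻¹ = y⁻¹ := by
    have := congrArg Subtype.val hyinv
    rw [hyg] at this
    exact this
  obtain ⟨hU4, hyinvU, hαinv, hfpf, hmove⟩ :=
    fourGroup_of_transvection hV hQodd (Subgroup.mem_zpowers y) hy1' ha2 hαy hcard
  set U : Subgroup G := (kap y).range.map ι with hU
  have hcardU : Nat.card U = 4 := by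
    rw [hU, Subgroup.card_map_of_injective hι, hU4]
  apply involves_S4_of_fourGroup U hcardU g₀ a
  · apply mem_normalizer_of_conj_mem_finite
    rintro _ ⟨w, hw, rfl⟩
    exact ⟨ρ g₀ w, hyinvU w hw, hρ g₀ w⟩
  · apply mem_normalizer_of_conj_mem_finite
    rintro _ ⟨w, hw, rfl⟩
    exact ⟨ρ a w, hαinv w hw, hρ a w⟩
  · rintro _ ⟨w, hw, rfl⟩ h
    rw [← hρ] at h
    have := hfpf w hw (hι h)
    rw [this, map_one]
  · obtain ⟨w, hw, hne⟩ := hmove
    refine ⟨ι w, ⟨w, hw, rfl⟩, ?_⟩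
    rw [← hρ]
    intro h
    exact hne (hι h)
  · rintro _ ⟨w, hw, rfl⟩
    rw [← hρ, map_mul, ha2]
    rfl

include hρ in
/-- **Baer–Suzuki**: if `ρ a` generates a 2-group with each of its conjugates, it fixes every
conjugate of a vector fixed by a Sylow 2-subgroup -/
theorem fixes_conjugates_of_baer_suzuki (S : Sylow 2 G) (x₀ : 𝕍)
    (hS : ∀ s ∈ S, ρ s x₀ = x₀) (a : G)
    (h : ∀ g : G, IsPGroup 2 ↥(Subgroup.zpowers (ρ.rangeRestrict a) ⊔
      Subgroup.zpowers (ρ.rangeRestrict (g * a * g⁻¹)))) :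
    ∀ g : G, ρ a (ρ g x₀) = ρ g x₀ := by
  have hsurj : Function.Surjective ρ.rangeRestrict := ρ.rangeRestrict_surjective
  have hall : ∀ Q : Sylow 2 ρ.range, ρ.rangeRestrict a ∈ Q := by
    intro Q
    apply Cfsg.Agent.Helper67.baer_suzuki_elt
    intro γ
    obtain ⟨g, rfl⟩ := hsurj γ
    have := h g
    rwa [map_mul, map_mul, map_inv] at this
  intro g
  have h1 : ρ.rangeRestrict a ∈
      (((g • S : Sylow 2 G).mapSurjective hsurj : Sylow 2 ρ.range) :
        Subgroup ρ.range) := hall _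
  rw [Sylow.coe_mapSurjective] at h1
  obtain ⟨s', hs', hs'a⟩ := h1
  rw [SetLike.mem_coe, Sylow.coe_subgroup_smul,
    Subgroup.mem_pointwise_smul_iff_inv_smul_mem] at hs'
  have hs'' : g⁻¹ * s' * g ∈ S := by
    have : (MulAut.conj g)⁻¹ • s' = g⁻¹ * s' * g := by
      rw [← map_inv]; simp [MulAut.conj_apply]
    rw [this] at hs'
    exact hs'
  have h2 : ρ s' = ρ a := by
    have := congrArg Subtype.val hs'a
    exact this
  rw [← h2]
  have h3 := hS _ hs''
  have h4 : s' * g = g * (g⁻¹ * s' * g) := by group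
  calc ρ s' (ρ g x₀) = ρ (s' * g) x₀ := by rw [map_mul]; rfl
    _ = ρ (g * (g⁻¹ * s' * g)) x₀ := by rw [h4]
    _ = ρ g (ρ (g⁻¹ * s' * g) x₀) := by rw [map_mul]; rfl
    _ = ρ g x₀ := by rw [h3]

end Endgame

end Cfsg.Agent.Helper34.WCJ
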