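import Cfsg.Agent.Lib.Helper34.WCJ1

/-!
# Thompson's trick: no orbits of length two
-/

set_option autoImplicit false
set_option linter.unusedSectionVars false
set_option linter.unusedVariables false

namespace Cfsg.Agent.Helper34.WCJ

open Cfsg Cfsg.Agent.Helper34.TNC

universe u

variable {X : Type u} [Group X] [Finite X]

theorem card_lt_card_of_lt' {H K : Subgroup X} (h : H < K) : Nat.card H < Nat.card K := by
  have hle := Subgroup.card_le_of_le h.le
  rcases hle.lt_or_eq with h1 | h1
  · exact h1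
  · exact absurd (Subgroup.eq_of_le_of_card_ge h.le h1.ge) h.ne

theorem two_mul_card_le_of_lt {H K : Subgroup X} (h : H < K) : 2 * Nat.card H ≤ Nat.card K := by
  have h1 : Nat.card H * H.relIndex K = Nat.card K := by
    have := Subgroup.relIndex_mul_relIndex ⊥ H K bot_le h.le
    rwa [Subgroup.relIndex_bot_left, Subgroup.relIndex_bot_left] at this
  have h2 : H.relIndex K ≠ 1 := by
    intro h3
    exact absurd (Subgroup.relIndex_eq_one.mp h3) (not_le_of_gt h)
  have h3 : H.relIndex K ≠ 0 := by
    intro h4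
    rw [h4, mul_zero] at h1
    exact (Nat.card_pos (α := K)).ne' h1.symm
  have h4 : 2 ≤ H.relIndex K := by omega
  calc 2 * Nat.card H = Nat.card H * 2 := by ring
    _ ≤ Nat.card H * H.relIndex K := Nat.mul_le_mul_left _ h4
    _ = Nat.card K := h1

/-- **Thompson's trick**: for a largest abelian subgroup `A`, acting nontrivially on `V` with
`|A ∩ C_X(V)|` as large as possible and of index more than two, no element of `V` has exactly two
conjugates under `A`. -/
theorem thompson_trick (S V C : Subgroup X) (hVS : V ≤ S)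
    (hVc : ∀ v ∈ V, ∀ v' ∈ V, v * v' = v' * v) (hC : C = Subgroup.centralizer (V : Set X))
    (e : ℕ) (hemax : ∀ B ∈ MaxAb S, ¬ B ≤ C → Nat.card (B ⊓ C : Subgroup X) ≤ e)
    (A : Subgroup X) (hA : A ∈ MaxAb S) (hAC : ¬ A ≤ C)
    (hAe : Nat.card (A ⊓ C : Subgroup X) = e) (hd : Nat.card A ≠ 2 * e)
    (v : X) (hv : v ∈ V) (a : X) (ha : a ∈ A) (hav : a * v ≠ v * a) :
    ∃ b ∈ A, b * v ≠ v * b ∧ b * v * b⁻¹ ≠ a * v * a⁻¹ := by
  classical
  by_contra hcon
  push Not at hcon
  have hAc := maxAb_comm hA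
  have hVC : V ≤ C := by
    rw [hC]
    intro w hw
    rw [Subgroup.mem_centralizer_iff]
    intro u hu
    exact hVc u hu w hw
  -- the stabilizer of `v` in `A`
  set B : Subgroup X := A ⊓ Subgroup.centralizer ({v} : Set X) with hB
  have hmemB : ∀ b, b ∈ B ↔ b ∈ A ∧ b * v = v * b := by
    intro b
    rw [hB, Subgroup.mem_inf, Subgroup.mem_centralizer_iff]
    constructor
    · intro h
      exact ⟨h.1, (h.2 v rfl).symm⟩
    · intro h
      refine ⟨h.1, fun w hw => ?_⟩
      rw [Set.mem_singleton_iff.mp hw]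
      exact h.2.symm
  have hBA : B ≤ A := inf_le_left
  -- index at most two
  have hidx : Nat.card A ≤ 2 * Nat.card B := by
    have hinj : Function.Injective (fun b : ↥A =>
        if h : (b : X) * v = v * b then ((⟨b, (hmemB _).mpr ⟨b.2, h⟩⟩ : ↥B), true)
        else ((⟨a⁻¹ * b, (hmemB _).mpr ⟨A.mul_mem (A.inv_mem ha) b.2, by
          have h1 := hcon b b.2 h
          have h2 : (b : X) * v = a * v * a⁻¹ * b := by rw [← h1]; group
          calc a⁻¹ * b * v = a⁻¹ * (b * v) := by group
            _ = a⁻¹ * (a * v * a⁻¹ * b) := by rw [h2]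
            _ = v * (a⁻¹ * b) := by group⟩⟩ : ↥B), false)) := by
      intro b₁ b₂ h
      by_cases h1 : (b₁ : X) * v = v * b₁ <;> by_cases h2 : (b₂ : X) * v = v * b₂
      · simp only [h1, h2, dite_true] at h
        have := congrArg (fun z => (z.1 : X)) h
        exact Subtype.ext this
      · simp only [h1, h2, dite_true, dite_false] at h
        have := congrArg (fun z => z.2) h
        simp at this
      · simp only [h1, h2, dite_true, dite_false] at h
        have := congrArg (fun z => z.2) h
        simp at this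
      · simp only [h1, h2, dite_false] at h
        have := congrArg (fun z => (z.1 : X)) h
        simp only at this
        exact Subtype.ext (mul_left_cancel this)
    have := Nat.card_le_card_of_injective _ hinj
    rw [Nat.card_prod, Nat.card_eq_fintype_card (α := Bool), Fintype.card_bool] at this
    omega
  -- the new abelian subgroup
  set U : Subgroup X := V ⊓ Subgroup.centralizer (B : Set X) with hU
  set A₁ : Subgroup X := B ⊔ U with hA₁
  have hBc : ∀ b ∈ B, ∀ b' ∈ B, b * b' = b' * b := fun b hb b' hb' => hAc b (hBA hb) b' (hBA hb')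
  have hUc : ∀ u ∈ U, ∀ u' ∈ U, u * u' = u' * u := fun u hu u' hu' => hVc u hu.1 u' hu'.1
  have hA₁c : IsMulCommutative ↥A₁ := by
    apply isMulCommutative_sup hBc hUc
    intro b hb u hu
    exact (Subgroup.mem_centralizer_iff.mp hu.2 b hb)
  have hA₁S : A₁ ≤ S := sup_le (hBA.trans hA.1) (inf_le_left.trans hVS)
  have hvU : v ∈ U := by
    refine Subgroup.mem_inf.mpr ⟨hv, ?_⟩
    rw [Subgroup.mem_centralizer_iff]
    intro b hb
    exact ((hmemB b).mp hb).2
  have hvA : v ∉ A := fun h => hav (hAc a ha v h)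
  have hBlt : B < A₁ := by
    refine lt_of_le_of_ne le_sup_left (fun h => hvA ?_)
    apply hBA
    rw [h]
    exact Subgroup.mem_sup_right hvU
  have hcard1 : Nat.card A ≤ Nat.card A₁ := hidx.trans (two_mul_card_le_of_lt hBlt)
  have hA₁M : A₁ ∈ MaxAb S :=
    ⟨hA₁S, hA₁c, fun Y hY hYc => (hA.2.2 Y hY hYc).trans hcard1⟩
  -- `A₁` is not inside `C`
  have hAClt : A ⊓ C < A := lt_of_le_of_ne inf_le_left (fun h => hAC (h ▸ inf_le_right))
  have h2e : 2 * e ≤ Nat.card A := by
    rw [← hAe]; exact two_mul_card_le_of_lt hAClt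
  have hA₁C : ¬ A₁ ≤ C := by
    intro h
    have hBC : B ≤ A ⊓ C := le_inf hBA (le_sup_left.trans h)
    have := Subgroup.card_le_of_le hBC
    rw [hAe] at this
    omega
  -- but `A₁ ∩ C` is too large
  have hACB : A ⊓ C ≤ B := by
    intro w hw
    rw [hmemB]
    refine ⟨hw.1, ?_⟩
    have hwC : w ∈ C := hw.2
    rw [hC] at hwC
    exact ((Subgroup.mem_centralizer_iff.mp hwC) v hv).symm
  have hlt : A ⊓ C < A₁ ⊓ C := by
    refine lt_of_le_of_ne (le_inf (hACB.trans le_sup_left) inf_le_right) (fun h => hvA ?_)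
    have : v ∈ A₁ ⊓ C := Subgroup.mem_inf.mpr ⟨Subgroup.mem_sup_right hvU, hVC hv⟩
    rw [← h] at this
    exact this.1
  have h3 := card_lt_card_of_lt' hlt
  have h4 := hemax A₁ hA₁M hA₁C
  omega

end Cfsg.Agent.Helper34.WCJ
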