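import Cfsg.Agent.Lib.Helper34.WCJ2
import Cfsg.Agent.Lib.Helper34.WCJ3
import Cfsg.Agent.Lib.Helper34.WCJ4
import Cfsg.Agent.Lib.Helper34.WCJ5
import Cfsg.Agent.Lib.Helper33.SecFusionE

/-!
# The local theorem for weak closure with respect to `J` in `S₄`-free groups (`p = 2`)
-/

set_option autoImplicit false
set_option linter.unusedSectionVars false
set_option linter.unusedVariables false
set_option maxHeartbeats 1600000

namespace Cfsg.Agent.Helper34.WCJ

open Cfsg Cfsg.Agent.Helper34.TNC Cfsg.Agent.Helper33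
open scoped Pointwise

universe u

variable {X : Type u} [Group X] [Finite X]

theorem conj_mem_maxAb {S A : Subgroup X} (hA : A ∈ MaxAb S) (h : X)
    (hS : ∀ u ∈ A, h * u * h⁻¹ ∈ S) : A.map (MulAut.conj h).toMonoidHom ∈ MaxAb S := by
  have hc : IsMulCommutative ↥(A.map (MulAut.conj h).toMonoidHom) := by
    have := hA.2.1
    infer_instance
  refine ⟨?_, hc, fun Y hY hYc => ?_⟩
  · rintro _ ⟨u, hu, rfl⟩
    exact hS u hu
  · rw [Subgroup.card_map_of_injective (MulAut.conj h).injective]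
    exact hA.2.2 Y hY hYc

/-- the local theorem for an involution -/
theorem central_of_involution (S : Sylow 2 X) (x : X) (hx : Loc S x) (hsq : x * x = 1)
    (hfree : ¬ Cfsg.Involves (Equiv.Perm (Fin 4)) X) : ∀ t : X, t * x = x * t := by
  classical
  by_contra hbad
  push Not at hbad
  obtain ⟨t₀, ht₀⟩ := hbad
  -- the centralizer of `x`
  obtain ⟨M, hMdef⟩ : ∃ M : Subgroup X, M = Subgroup.normalizer ({x} : Set X) := ⟨_, rfl⟩
  have hmemM : ∀ g : X, g ∈ M ↔ g * x = x * g := by
    intro g; rw [hMdef]; exact mem_normalizer_singleton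
  have hMtop : M ≠ ⊤ := fun h => ht₀ ((hmemM t₀).mp (h ▸ Subgroup.mem_top _))
  have hSM : (S : Subgroup X) ≤ M := fun s hs =>
    (hmemM s).mpr (Subgroup.mem_centralizer_iff.mp hx.zS.2 s hs)
  have hKM : ∀ K : Subgroup X, (S : Subgroup X) ≤ K → K ≠ ⊤ → K ≤ M :=
    fun K h1 h2 k hk => (hmemM k).mpr (hx.ovr K h1 h2 k hk)
  have hNM : Subgroup.normalizer ((Cfsg.thompsonSubgroupAOf (S : Subgroup X) : Subgroup X) : Set X)
      ≤ M := fun n hn => (hmemM n).mpr (hx.nJ n hn)
  -- `O_2(X)` and the module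
  set Q := pCore 2 X with hQ
  have hQn : Q.Normal := Cfsg.Agent.Helper33.pCore_normal 2
  have hQS : Q ≤ (S : Subgroup X) := pCore_le_sylow S
  set V₀ : Subgroup X := Q ⊓ Subgroup.centralizer (Q : Set X) with hV₀
  have hV₀n : V₀.Normal := by rw [hV₀]; infer_instance
  have hV₀c : ∀ a ∈ V₀, ∀ b ∈ V₀, a * b = b * a := fun a ha b hb =>
    Subgroup.mem_centralizer_iff.mp hb.2 a ha.1
  have hxV₀ : x ∈ V₀ :=
    Subgroup.mem_inf.mpr ⟨hx.q, Subgroup.centralizer_le (by exact_mod_cast hQS) hx.zS.2⟩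
  -- the involutions of `Z(Q)`
  let E : Subgroup X :=
    { carrier := {v | v ∈ V₀ ∧ v * v = 1}
      one_mem' := ⟨V₀.one_mem, by rw [mul_one]⟩
      mul_mem' := by
        rintro a b ⟨ha, ha2⟩ ⟨hb, hb2⟩
        refine ⟨V₀.mul_mem ha hb, ?_⟩
        calc a * b * (a * b) = a * (b * a) * b := by group
          _ = a * (a * b) * b := by rw [hV₀c b hb a ha]
          _ = (a * a) * (b * b) := by group
          _ = 1 := by rw [ha2, hb2, mul_one]
      inv_mem' := by
        rintro a ⟨ha, ha2⟩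
        refine ⟨V₀.inv_mem ha, ?_⟩
        calc a⁻¹ * a⁻¹ = (a * a)⁻¹ := by group
          _ = 1 := by rw [ha2, inv_one] }
  have hEn : E.Normal := by
    constructor
    rintro a ⟨ha, ha2⟩ g
    refine ⟨hV₀n.conj_mem a ha g, ?_⟩
    calc g * a * g⁻¹ * (g * a * g⁻¹) = g * (a * a) * g⁻¹ := by group
      _ = 1 := by rw [ha2]; group
  set V : Subgroup X := Subgroup.normalClosure ({x} : Set X) with hVdef
  have hVn : V.Normal := Subgroup.normalClosure_normal
  have hxV : x ∈ V := Subgroup.subset_normalClosure rfl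
  have hVE : V ≤ E := Subgroup.normalClosure_le_normal (by
    intro a ha
    rw [Set.mem_singleton_iff.mp ha]
    exact ⟨hxV₀, hsq⟩)
  have hVV₀ : V ≤ V₀ := fun v hv => (hVE hv).1
  have hVexp : ∀ v ∈ V, v * v = 1 := fun v hv => (hVE hv).2
  have hVc : ∀ a ∈ V, ∀ b ∈ V, a * b = b * a := fun a ha b hb => hV₀c a (hVV₀ ha) b (hVV₀ hb)
  have hVQ : V ≤ Q := hVV₀.trans inf_le_left
  have hVS : V ≤ (S : Subgroup X) := hVQ.trans hQS
  have hSV : (S : Subgroup X) ≤ Subgroup.normalizer (V : Set X) := by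
    rw [Subgroup.normalizer_eq_top_iff.mpr hVn]; exact le_top
  -- the centralizer of the module
  set C : Subgroup X := Subgroup.centralizer (V : Set X) with hC
  have hCn : C.Normal := Subgroup.normal_centralizer
  have hQC : Q ≤ C := by
    intro q hq
    rw [hC, Subgroup.mem_centralizer_iff]
    intro v hv
    exact (Subgroup.mem_centralizer_iff.mp (hVV₀ hv).2 q hq).symm
  have hVC : V ≤ C := hVQ.trans hQC
  have hCM : C ≤ M := by
    intro c hc
    rw [hmemM]
    exact (Subgroup.mem_centralizer_iff.mp hc x hxV).symm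
  -- the module as a commutative group
  let ι := VMod.ι V hVc
  let ρ := VMod.ρ V hVc
  have hι : Function.Injective ι := VMod.ι_injective V hVc
  have hρ : ∀ g v, ι (ρ g v) = g * ι v * g⁻¹ := VMod.ι_ρ V hVc
  have hV2 : ∀ v : VMod V hVc, v * v = 1 := by
    intro v
    apply hι
    rw [map_mul, map_one]
    exact hVexp _ (VMod.ι_mem V hVc v)
  obtain ⟨x₀, hx₀⟩ := VMod.exists_eq V hVc hxV
  have hfix_iff : ∀ (g : X) (v : VMod V hVc), ρ g v = v ↔ g * ι v = ι v * g := by
    intro g v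
    constructor
    · intro h
      have := hρ g v
      rw [h] at this
      calc g * ι v = (g * ι v * g⁻¹) * g := by group
        _ = ι v * g := by rw [← this]
    · intro h
      apply hι
      rw [hρ, h]; group
  have hρC : ∀ g : X, ρ g = 1 ↔ g ∈ C := by
    intro g
    constructor
    · intro h
      rw [hC, Subgroup.mem_centralizer_iff]
      intro v hv
      obtain ⟨w, rfl⟩ := VMod.exists_eq V hVc hv
      have : ρ g w = w := by rw [h]; rfl
      exact ((hfix_iff g w).mp this).symm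
    · intro h
      ext w
      rw [MulAut.one_apply, hfix_iff]
      exact (Subgroup.mem_centralizer_iff.mp h _ (VMod.ι_mem V hVc w)).symm
  have hSfix : ∀ s ∈ S, ρ s x₀ = x₀ := by
    intro s hs
    rw [hfix_iff, hx₀]
    exact Subgroup.mem_centralizer_iff.mp hx.zS.2 s hs |>.symm ▸ rfl
  -- some member of `MaxAb S` acts nontrivially
  have hne : ∃ A ∈ MaxAb (S : Subgroup X), ¬ A ≤ C := by
    by_contra hcon
    push Not at hcon
    apply hMtop
    have hJ : Cfsg.thompsonSubgroupAOf (S : Subgroup X) ≤ (S : Subgroup X) ⊓ C := by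
      rw [jA_eq]; exact sSup_le (fun A hA => le_inf hA.1 (hcon A hA))
    have hJeq := jA_eq_of_le (inf_le_left : (S : Subgroup X) ⊓ C ≤ S) hJ
    have hsyl : IsSylIn 2 ((S : Subgroup X) ⊓ C) C :=
      (isSylIn_top S).inf_normal le_top (by
        rw [Subgroup.normalizer_eq_top_iff.mpr hCn])
    have hfrat : Subgroup.normalizer ((((S : Subgroup X) ⊓ C : Subgroup X)) : Set X) ⊔ C = ⊤ := by
      have := Sylow.normalizer_sup_eq_top hsyl.toSylow
      rwa [hsyl.coe_toSylow, Subgroup.map_subgroupOf_eq_of_le inf_le_right] at this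
    rw [eq_top_iff, ← hfrat]
    apply sup_le _ hCM
    refine (normalizer_le_normalizer_jA _).trans ?_
    rw [hJeq]
    exact hNM
  -- the maximal value of `|A ∩ C|`
  obtain ⟨A₁, hA₁, hemax'⟩ := Set.exists_max_image
    {A : Subgroup X | A ∈ MaxAb (S : Subgroup X) ∧ ¬ A ≤ C}
    (fun A => Nat.card (A ⊓ C : Subgroup X)) (Set.toFinite _) hne
  set e := Nat.card (A₁ ⊓ C : Subgroup X) with he
  have hemax : ∀ B ∈ MaxAb (S : Subgroup X), ¬ B ≤ C → Nat.card (B ⊓ C : Subgroup X) ≤ e :=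
    fun B hB hBC => hemax' B ⟨hB, hBC⟩
  have hcardA : ∀ A ∈ MaxAb (S : Subgroup X), ∀ B ∈ MaxAb (S : Subgroup X),
      Nat.card A = Nat.card B := fun A hA B hB =>
    le_antisymm (hB.2.2 A hA.1 hA.2.1) (hA.2.2 B hB.1 hB.2.1)
  let 𝒮 : Set (Subgroup X) :=
    {A | A ∈ MaxAb (S : Subgroup X) ∧ ¬ A ≤ C ∧ Nat.card (A ⊓ C : Subgroup X) = e}
  obtain ⟨A₂, hA₂, hVA₂⟩ := exists_normalized (S : Subgroup X) S.isPGroup' V hVS hVc hSV 𝒮
    (fun A hA => hA.1) ⟨A₁, hA₁.1, hA₁.2, rfl⟩ (by
      intro A hA B hB hBAV _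
      by_cases hBC : B ≤ C
      · right
        apply le_of_maxAb_of_comm hB hVS hVc
        intro b hb v hv
        exact (Subgroup.mem_centralizer_iff.mp (hBC hb) v hv).symm
      · left
        refine ⟨hB, hBC, le_antisymm (hemax B hB hBC) ?_⟩
        have h1 := card_sup_mul_card_inf B C
        have h2 := card_sup_mul_card_inf A C
        have h3 : Nat.card (B ⊔ C : Subgroup X) ≤ Nat.card (A ⊔ C : Subgroup X) :=
          Subgroup.card_le_of_le (sup_le (hBAV.trans (sup_le le_sup_left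
            (hVC.trans le_sup_right))) le_sup_right)
        have h4 := hcardA B hB A hA.1
        rw [h4, ← h2] at h1
        rw [← hA.2.2]
        by_contra hlt
        push Not at hlt
        have hpos : 0 < Nat.card (A ⊔ C : Subgroup X) := Nat.card_pos
        have : Nat.card (B ⊔ C : Subgroup X) * Nat.card (B ⊓ C : Subgroup X) <
            Nat.card (A ⊔ C : Subgroup X) * Nat.card (A ⊓ C : Subgroup X) :=
          lt_of_le_of_lt (Nat.mul_le_mul_right _ h3) (Nat.mul_lt_mul_of_pos_left hlt hpos)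
        omega)
  -- the family
  let 𝒜 : Set (Subgroup X) := {A | A ∈ 𝒮 ∧ V ≤ Subgroup.normalizer (A : Set X)}
  have hA₂𝒜 : A₂ ∈ 𝒜 := ⟨hA₂, hVA₂⟩
  -- quadratic action of the members
  have hquad : ∀ A ∈ 𝒜, ∀ a ∈ A, ∀ b ∈ A, ∀ v, ρ a (ρ b v / v) = ρ b v / v := by
    intro A hA a ha b hb v
    rw [hfix_iff]
    have hAc := maxAb_comm hA.1.1
    have hw : ι (ρ b v / v) ∈ A := by
      rw [VMod.ι_div, hρ]
      have hvN := hA.2 (VMod.ι_mem V hVc v)
      have h1 : ι v * b⁻¹ * (ι v)⁻¹ ∈ A :=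
        (Subgroup.mem_normalizer_iff.mp hvN b⁻¹).mp (A.inv_mem hb)
      have h2 : b * ι v * b⁻¹ * (ι v)⁻¹ = b * (ι v * b⁻¹ * (ι v)⁻¹) := by group
      rw [h2]
      exact A.mul_mem hb h1
    exact hAc a ha _ hw
  -- conjugates of members inside `S` are members
  have hconjX : ∀ A ∈ 𝒜, ∀ h : X, (∀ u ∈ A, h * u * h⁻¹ ∈ (S : Subgroup X)) →
      A.map (MulAut.conj h).toMonoidHom ∈ 𝒜 := by
    intro A hA h hS
    have hCconj : ∀ c, c ∈ C → h * c * h⁻¹ ∈ C := fun c hc => hCn.conj_mem c hc h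
    refine ⟨⟨conj_mem_maxAb hA.1.1 h hS, ?_, ?_⟩, ?_⟩
    · intro hle
      apply hA.1.2.1
      intro u hu
      have := hle ⟨u, hu, rfl⟩
      have h2 := hCn.conj_mem _ this h⁻¹
      simpa [MulAut.conj_apply, mul_assoc] using h2
    · rw [← hA.1.2.2]
      have : (A.map (MulAut.conj h).toMonoidHom ⊓ C : Subgroup X) =
          (A ⊓ C).map (MulAut.conj h).toMonoidHom := by
        ext w
        constructor
        · rintro ⟨⟨u, hu, rfl⟩, hwC⟩
          refine ⟨u, ⟨hu, ?_⟩, rfl⟩
          have h2 := hCn.conj_mem _ hwC h⁻¹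
          simpa [MulAut.conj_apply, mul_assoc] using h2
        · rintro ⟨u, ⟨hu, huC⟩, rfl⟩
          exact ⟨⟨u, hu, rfl⟩, hCconj u huC⟩
      rw [this, Subgroup.card_map_of_injective (MulAut.conj h).injective]
    · intro v hv
      apply mem_normalizer_of_conj_mem_finite
      rintro _ ⟨u, hu, rfl⟩
      have hv' : h⁻¹ * v * h ∈ V := by
        have := hVn.conj_mem v hv h⁻¹
        simpa using this
      have h1 := (Subgroup.mem_normalizer_iff.mp (hA.2 hv') u).mp hu
      refine ⟨h⁻¹ * v * h * u * (h⁻¹ * v * h)⁻¹, h1, ?_⟩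
      simp only [MulEquiv.coe_toMonoidHom, MulAut.conj_apply]
      group
  by_cases hd : Nat.card A₂ = 2 * e
  · -- the transvection case
    obtain ⟨a, haA, haC⟩ := SetLike.not_le_iff_exists.mp hA₂.2.1
    have hquad_a : ∀ v, ρ a (ρ a v / v) = ρ a v / v := hquad A₂ hA₂𝒜 a haA a haA
    have ha2 : ρ a * ρ a = 1 := by
      have := quad_pow_p (ρ a) hquad_a (p := 2) (fun v => by rw [pow_two]; exact hV2 v)
      rwa [pow_two] at this
    have ha1 : ρ a ≠ 1 := fun h => haC ((hρC a).mp h)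
    have hcard : Nat.card (VMod V hVc) = 2 * Nat.card (fixedOne (ρ a)) := by
      have hVZ : V ≤ ZS ((S : Subgroup X) ⊓ C) := by
        intro v hv
        refine Subgroup.mem_inf.mpr ⟨Subgroup.mem_inf.mpr ⟨hVS hv, hVC hv⟩, ?_⟩
        refine Subgroup.mem_centralizer_iff.mpr ?_
        intro c hc
        exact (Subgroup.mem_centralizer_iff.mp (Subgroup.mem_inf.mp hc).2 v hv).symm
      have h1 := offender_ineq (S : Subgroup X) (V := V) hA₂.1 (inf_le_left : (S : Subgroup X) ⊓ C ≤ S) hVZ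
      have h2 : (A₂ ⊓ ((S : Subgroup X) ⊓ C) : Subgroup X) = A₂ ⊓ C := by
        rw [← inf_assoc, inf_eq_left.mpr hA₂.1.1]
      rw [h2, hA₂.2.2, hd] at h1
      have hepos : 0 < e := by rw [he]; exact Nat.card_pos
      have h3 : Nat.card V ≤ 2 * Nat.card (V ⊓ Subgroup.centralizer (A₂ : Set X) : Subgroup X) := by
        have : Nat.card V * e ≤ (2 * Nat.card (V ⊓ Subgroup.centralizer (A₂ : Set X) : Subgroup X)) * e := by
          calc Nat.card V * e ≤ 2 * e * Nat.card (V ⊓ Subgroup.centralizer (A₂ : Set X) : Subgroup X) := h1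
            _ = _ := by ring
        exact Nat.le_of_mul_le_mul_right this hepos
      have h4 : Nat.card (V ⊓ Subgroup.centralizer (A₂ : Set X) : Subgroup X) ≤
          Nat.card (fixedOne (ρ a)) := by
        apply Nat.card_le_card_of_injective
          (fun w : ↥(V ⊓ Subgroup.centralizer (A₂ : Set X)) =>
            (⟨(⟨w.1, w.2.1⟩ : VMod V hVc),
              (hfix_iff a (⟨w.1, w.2.1⟩ : VMod V hVc)).mpr
                (Subgroup.mem_centralizer_iff.mp w.2.2 a haA)⟩ : ↥(fixedOne (ρ a))))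
        intro w₁ w₂ h
        have h5 := congrArg (fun z : ↥(fixedOne (ρ a)) => ι z.1) h
        exact Subtype.ext h5
      have h5 : fixedOne (ρ a) < ⊤ := by
        rw [lt_top_iff_ne_top]
        intro h
        apply ha1
        ext w
        have : w ∈ fixedOne (ρ a) := h ▸ Subgroup.mem_top w
        exact this
      have h6 := two_mul_card_le_of_lt h5
      rw [Subgroup.card_top] at h6
      have h7 : Nat.card (VMod V hVc) = Nat.card V := VMod.card V hVc
      omega
    by_cases hBS : ∀ g : X, IsPGroup 2 ↥(Subgroup.zpowers (ρ.rangeRestrict a) ⊔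
        Subgroup.zpowers (ρ.rangeRestrict (g * a * g⁻¹)))
    · have hfixall := fixes_conjugates_of_baer_suzuki ι ρ hρ S x₀ hSfix a hBS
      apply haC
      have hle : V ≤ Subgroup.centralizer ({a} : Set X) := by
        rw [hVdef, Subgroup.normalClosure, Subgroup.closure_le]
        intro w hw
        obtain ⟨b, hb, hbw⟩ := Group.mem_conjugatesOfSet_iff.mp hw
        rw [Set.mem_singleton_iff] at hb
        subst hb
        obtain ⟨g, hg⟩ := isConj_iff.mp hbw
        have hw' : ι (ρ g x₀) = w := by rw [hρ, ← hg]; congr 2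
        have h1 := (hfix_iff a (ρ g x₀)).mp (hfixall g)
        rw [hw'] at h1
        refine Subgroup.mem_centralizer_iff.mpr ?_
        intro c hc
        rw [Set.mem_singleton_iff.mp hc]
        exact h1
      refine Subgroup.mem_centralizer_iff.mpr ?_
      intro v hv
      exact (Subgroup.mem_centralizer_iff.mp (hle hv) a rfl).symm
    · push Not at hBS
      obtain ⟨g, hg⟩ := hBS
      exact hfree (involves_S4_of_transvection ι hι ρ hρ hV2 a ha2 hcard g hg)
  · -- the general case: orbit products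
    have hno2 : ∀ A ∈ 𝒜, ∀ v, ∀ a ∈ A, ρ a v ≠ v → ∃ b ∈ A, ρ b v ≠ v ∧ ρ b v ≠ ρ a v := by
      intro A hA v a ha hav
      have hcA : Nat.card A ≠ 2 * e := by
        rw [hcardA A hA.1.1 A₂ hA₂.1]; exact hd
      have hav' : a * ι v ≠ ι v * a := fun h => hav ((hfix_iff a v).mpr h)
      obtain ⟨b, hb, hb1, hb2⟩ := thompson_trick (S : Subgroup X) V C hVS hVc hC e hemax A hA.1.1
        hA.1.2.1 hA.1.2.2 hcA (ι v) (VMod.ι_mem V hVc v) a ha hav'
      refine ⟨b, hb, fun h => hb1 ((hfix_iff b v).mp h), fun h => hb2 ?_⟩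
      rw [← hρ, ← hρ, h]
    have goodA : ∀ A ∈ 𝒜, Good ρ A := fun A hA =>
      good_of_quadratic ρ hV2 A (hquad A hA) (hno2 A hA)
    set Pstar : Subgroup X := sSup 𝒜 with hPstar
    have hgood : Good ρ Pstar :=
      good_sSup (p := 2) (S : Subgroup X) S.isPGroup' 𝒜 (fun A hA => hA.1.1.1)
        (fun A hA s hs => hconjX A hA s (fun u hu => (S : Subgroup X).mul_mem
          ((S : Subgroup X).mul_mem hs (hA.1.1.1 hu)) ((S : Subgroup X).inv_mem hs)))
        (Good ρ) (good_bot ρ) (fun P hP A hA hAN => good_sup ρ hP (goodA A hA) hAN)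
    have hPS : Pstar ≤ (S : Subgroup X) := sSup_le (fun A hA => hA.1.1.1)
    have hAP : ∀ A ∈ 𝒜, A ≤ Pstar := fun A hA => le_sSup hA
    -- elements conjugating `Pstar` into `S` normalize it
    have hnorm : ∀ h : X, (∀ u ∈ Pstar, h * u * h⁻¹ ∈ (S : Subgroup X)) →
        h ∈ Subgroup.normalizer (Pstar : Set X) := by
      intro h hh
      apply mem_normalizer_of_conj_mem_finite
      have hle : Pstar ≤ Pstar.comap (MulAut.conj h).toMonoidHom := by
        apply sSup_le
        intro A hA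
        rw [← Subgroup.map_le_iff_le_comap]
        exact le_sSup (hconjX A hA h (fun u hu => hh u (hAP A hA hu)))
      intro u hu
      exact hle hu
    have hSN : (S : Subgroup X) ≤ Subgroup.normalizer (Pstar : Set X) := by
      intro s hs
      apply hnorm
      intro u hu
      exact (S : Subgroup X).mul_mem ((S : Subgroup X).mul_mem hs (hPS hu))
        ((S : Subgroup X).inv_mem hs)
    have hNtop : Subgroup.normalizer (Pstar : Set X) ≠ ⊤ := by
      intro htop
      have hPn : Pstar.Normal := Subgroup.normalizer_eq_top_iff.mp htop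
      have hPQ : Pstar ≤ Q := normal_pgroup_le_pCore hPn (S.isPGroup'.to_le hPS)
      exact hA₂.2.1 ((hAP A₂ hA₂𝒜).trans (hPQ.trans hQC))
    have hNM' : Subgroup.normalizer (Pstar : Set X) ≤ M := hKM _ hSN hNtop
    haveI : Fintype X := Fintype.ofFinite X
    set 𝒞 : Finset (VMod V hVc) := Finset.univ.image (fun g : X => ρ g x₀) with h𝒞
    have hmem𝒞 : ∀ w, w ∈ 𝒞 ↔ ∃ g : X, ρ g x₀ = w := by
      intro w
      rw [h𝒞, Finset.mem_image]
      constructor
      · rintro ⟨g, _, hg⟩; exact ⟨g, hg⟩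
      · rintro ⟨g, hg⟩; exact ⟨g, Finset.mem_univ _, hg⟩
    have hinv𝒞 : ∀ g : X, ∀ w ∈ 𝒞, ρ g w ∈ 𝒞 := by
      intro g w hw
      obtain ⟨h, rfl⟩ := (hmem𝒞 w).mp hw
      exact (hmem𝒞 _).mpr ⟨g * h, by rw [map_mul]; rfl⟩
    have hsylM : IsSylIn 2 (S : Subgroup X) M := (isSylIn_top S).of_le hSM le_top
    have hxfix : ∀ g : X, g ∈ M ↔ ρ g x₀ = x₀ := by
      intro g
      rw [hmemM, hfix_iff, hx₀]
    have hfixed : ∀ w, w ∈ ({x₀} : Finset (VMod V hVc)) ↔
        w ∈ 𝒞 ∧ ∀ g ∈ Pstar, ρ g w = w := by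
      intro w
      rw [Finset.mem_singleton]
      constructor
      · rintro rfl
        exact ⟨(hmem𝒞 _).mpr ⟨1, by rw [map_one]; rfl⟩, fun g hg => hSfix g (hPS hg)⟩
      · rintro ⟨hw, hfixw⟩
        obtain ⟨g, rfl⟩ := (hmem𝒞 w).mp hw
        have h1 : MulAut.conj g⁻¹ • Pstar ≤ M := by
          rw [conj_smul_le_iff]
          intro u hu
          rw [hxfix]
          have h2 := hfixw u hu
          rw [map_mul, map_mul, MulAut.mul_apply, MulAut.mul_apply, inv_inv, h2, map_inv]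
          simp
        obtain ⟨m, hm, hmle⟩ := hsylM.exists_conj_le
          (isPGroup_conj_smul (S.isPGroup'.to_le hPS)) h1
        rw [← conj_mul_smul, conj_smul_le_iff] at hmle
        have h4 := hNM' (hnorm (m * g⁻¹) hmle)
        have h5 : g⁻¹ ∈ M := by
          have := M.mul_mem (M.inv_mem hm) h4
          simpa using this
        have h6 : g ∈ M := by simpa using M.inv_mem h5
        exact (hxfix g).mp h6
    have hprod := hgood 𝒞 {x₀} (fun g _ w hw => hinv𝒞 g w hw) hfixed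
    rw [Finset.prod_singleton] at hprod
    have key : ρ t₀ (∏ w ∈ 𝒞, w) = ∏ w ∈ 𝒞, w := by
      rw [map_prod]
      apply Finset.prod_bij (fun w _ => ρ t₀ w)
      · intro w hw; exact hinv𝒞 t₀ w hw
      · intro w₁ _ w₂ _ h; exact (ρ t₀).injective h
      · intro w hw
        refine ⟨ρ t₀⁻¹ w, hinv𝒞 _ w hw, ?_⟩
        rw [map_inv]; simp
      · intro w _; rfl
    rw [hprod] at key
    exact ht₀ ((hmemM t₀).mp ((hxfix t₀).mpr key))

end Cfsg.Agent.Helper34.WCJ
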