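import Cfsg.Agent.Lib.Helper34.WCJ6
import Cfsg.Agent.Lib.Helper33.WC73b

/-!
# Weak closure of the elements of `Z(N(J(S)))` in `S₄`-free groups, `p = 2`
-/

set_option autoImplicit false
set_option linter.unusedSectionVars false
set_option linter.unusedVariables false

namespace Cfsg.Agent.Helper34.WCJ

open Cfsg Cfsg.Agent.Helper34.TNC Cfsg.Agent.Helper33

universe u

/-- the hypothesis: the functor is `J` and the group is `S₄`-free -/
def HypJ (X : Type u) [Group X] (W : Subgroup X → Subgroup X) : Prop :=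
  W = (fun P : Subgroup X => Cfsg.thompsonSubgroupAOf P) ∧
    ¬ Cfsg.Involves (Equiv.Perm (Fin 4)) X

theorem hypJ_fun (X : Type u) [Group X] [Finite X] (W : Subgroup X → Subgroup X)
    (h : HypJ X W) : IsConjugacyFunctor 2 W ∧
      ∀ P : Subgroup X, IsPGroup 2 ↥P → P ⊓ Subgroup.centralizer (P : Set X) ≤ W P := by
  obtain ⟨rfl, -⟩ := h
  exact ⟨isConjugacyFunctor_jA, fun P _ => zs_le_jA P⟩

theorem hypJ_res (X : Type u) [Group X] [Finite X] (W : Subgroup X → Subgroup X)
    (K : Subgroup X) (h : HypJ X W) : HypJ ↥K (resF W K) := by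
  obtain ⟨rfl, hfree⟩ := h
  refine ⟨?_, fun hinv => hfree (involves_of_injective' hinv K.subtype K.subtype_injective)⟩
  funext P
  show (Cfsg.thompsonSubgroupAOf (P.map K.subtype)).subgroupOf K = Cfsg.thompsonSubgroupAOf P
  rw [jA_map K.subtype P (fun x _ hx => K.subtype_injective (by rw [hx, map_one]))]
  exact Subgroup.comap_map_eq_self_of_injective K.subtype_injective _

theorem localJ (X : Type u) [Group X] [Finite X] (W : Subgroup X → Subgroup X) (S : Sylow 2 X)
    (𝒜 : Set X) (hH : HypJ X W) (hA : Adm73 X (S : Subgroup X) 𝒜)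
    (hN : Subgroup.normalizer ((W (S : Subgroup X) : Subgroup X) : Set X) ≤ Subgroup.normalizer 𝒜)
    (hAp : 𝒜 ⊆ (pCore 2 X : Subgroup X))
    (hKs : ∀ K : Subgroup X, (S : Subgroup X) ≤ K → K ≠ ⊤ → K ≤ Subgroup.normalizer 𝒜) :
    Subgroup.normalizer 𝒜 = ⊤ := by
  by_contra hne
  obtain ⟨rfl, hfree⟩ := hH
  obtain ⟨x, rfl, hx⟩ := hA
  have hex : ∃ t : X, t * x ≠ x * t := by
    by_contra hno
    push Not at hno
    apply hne
    rw [eq_top_iff]
    intro t _
    exact mem_normalizer_singleton.mpr (hno t)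
  have hloc : Loc S x := ⟨hx, hAp rfl, fun n hn => mem_normalizer_singleton.mp (hN hn),
    fun K hSK hK k hk => mem_normalizer_singleton.mp (hKs K hSK hK hk)⟩
  obtain ⟨y, hy, ⟨t, ht⟩, hy2⟩ := exists_involution rfl S x hloc hex
  exact ht (central_of_involution S y hy hy2 hfree t)

/-- weak closure of the elements of `Z(N(J(S)))` in an `S₄`-free group (right-conjugation
form), for the prime 2 -/
theorem wcJ (X : Type u) [Group X] [Finite X]
    (hfree : ¬ Cfsg.Involves (Equiv.Perm (Fin 4)) X) (S : Sylow 2 X) (x : X)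
    (hx : x ∈ (S : Subgroup X) ⊓ Subgroup.centralizer ((S : Subgroup X) : Set X))
    (hN : Subgroup.normalizer ((Cfsg.thompsonSubgroupAOf (S : Subgroup X) : Subgroup X) : Set X) ≤
      Subgroup.normalizer ({x} : Set X)) :
    ∀ g : X, rc g ({x} : Set X) ⊆ (S : Subgroup X) → rc g ({x} : Set X) = {x} :=
  wc_skeleton (p := 2) HypJ (fun X _ => Adm73 X) (fun X _ _ W h => hypJ_fun X W h)
    (fun X _ _ W K h => hypJ_res X W K h) (fun X _ _ => adm73_Z X) (fun X _ _ => adm73_res X)
    (fun X _ _ => localJ X) _ X rfl (fun P : Subgroup X => Cfsg.thompsonSubgroupAOf P) S {x}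
    ⟨rfl, hfree⟩ ⟨x, rfl, hx⟩ hN

end Cfsg.Agent.Helper34.WCJ
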