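import Mathlib
import Cfsg.Agent.Lib.Helper98.WR0

/-!
WR (W16) for helper98's lemma server (row S2347): a nontrivial representation of minimal dimension
is irreducible.
-/

set_option autoImplicit false

namespace Cfsg.Agent.Helper34.WR

open Matrix Cfsg.Agent.Helper98.SPE Cfsg.Agent.Helper98.WR

universe u v

/-- If `N * N = 0` then `(1 + N) ^ m = 1 + m • N`. -/
theorem h34_one_add_pow {V : Type v} [AddCommGroup V] [Module ℂ V] (N : Module.End ℂ V)
    (hN : N * N = 0) (m : ℕ) : (1 + N) ^ m = 1 + (m : ℂ) • N := by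
  induction m with
  | zero => simp
  | succ k ih =>
    rw [pow_succ, ih, mul_add, mul_one, add_mul, one_mul, smul_mul_assoc, hN, smul_zero, add_zero,
      Nat.cast_succ, add_smul, one_smul, add_assoc]

theorem irreducible_of_min {G : Type u} [Group G] [Finite G] {V : Type v} [AddCommGroup V]
    [Module ℂ V] [FiniteDimensional ℂ V] (ρ : Representation ℂ G V) (hne : ∃ g : G, ρ g ≠ 1)
    (hmin : ∀ (W : Type v) [AddCommGroup W] [Module ℂ W] [FiniteDimensional ℂ W]
      (σ : Representation ℂ G W), (∃ g : G, σ g ≠ 1) → Module.finrank ℂ V ≤ Module.finrank ℂ W) :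
    ρ.IsIrreducible := by
  classical
  obtain ⟨g0, hg0⟩ := hne
  have hbot : (⊥ : Subrepresentation ρ).toSubmodule = ⊥ := rfl
  have htop : (⊤ : Subrepresentation ρ).toSubmodule = ⊤ := rfl
  have key : ∀ W : Subrepresentation ρ, W = ⊥ ∨ W = ⊤ := by
    intro W
    by_contra hW
    rw [not_or] at hW
    obtain ⟨hWb, hWt⟩ := hW
    have hSb : W.toSubmodule ≠ ⊥ := fun h =>
      hWb (Subrepresentation.toSubmodule_injective (h.trans hbot.symm))
    have hSt : W.toSubmodule ≠ ⊤ := fun h =>
      hWt (Subrepresentation.toSubmodule_injective (h.trans htop.symm))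
    have hlt : Module.finrank ℂ W.toSubmodule < Module.finrank ℂ V := Submodule.finrank_lt hSt
    have hpos : 0 < Module.finrank ℂ W.toSubmodule := by
      rw [Module.finrank_pos_iff]
      exact (Submodule.nontrivial_iff_ne_bot).mpr hSb
    have hq : Module.finrank ℂ (V ⧸ W.toSubmodule) < Module.finrank ℂ V := by
      have := W.toSubmodule.finrank_quotient_add_finrank
      omega
    -- trivial on W
    have ha : ∀ g : G, W.toRepresentation g = 1 := by
      intro g
      by_contra h
      exact absurd (hmin _ W.toRepresentation ⟨g, h⟩) (not_le.mpr hlt)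
    have ha' : ∀ g : G, ∀ w ∈ W.toSubmodule, ρ g w = w := by
      intro g w hw
      have h1 := congrArg (fun f => ((f ⟨w, hw⟩ : W.toSubmodule) : V)) (ha g)
      simpa [Subrepresentation.toRepresentation] using h1
    -- trivial on the quotient
    let σ2 : Representation ℂ G (V ⧸ W.toSubmodule) :=
      ρ.quotient W.toSubmodule (fun g v hv => W.apply_mem_toSubmodule g hv)
    have hb : ∀ g : G, σ2 g = 1 := by
      intro g
      by_contra h
      exact absurd (hmin _ σ2 ⟨g, h⟩) (not_le.mpr hq)
    have hb' : ∀ g : G, ∀ x : V, ρ g x - x ∈ W.toSubmodule := by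
      intro g x
      have h1 := congrArg (fun f => f (Submodule.Quotient.mk x)) (hb g)
      simp only [σ2, Representation.quotient_apply, Submodule.mapQ_apply, Module.End.one_apply] at h1
      exact (Submodule.Quotient.eq _).mp h1
    -- N = ρ g0 - 1 squares to zero
    set N : Module.End ℂ V := ρ g0 - 1 with hN
    have hNN : N * N = 0 := by
      ext x
      have h1 : N x ∈ W.toSubmodule := by
        simpa [hN] using hb' g0 x
      have h2 := ha' g0 (N x) h1
      simp only [Module.End.mul_apply, LinearMap.zero_apply]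
      rw [hN] at *
      simp only [LinearMap.sub_apply, Module.End.one_apply] at *
      rw [h2, sub_self]
    have hρ : ρ g0 = 1 + N := by rw [hN]; abel
    have hpow : (ρ g0) ^ (Nat.card G) = 1 := by
      rw [← map_pow, pow_card_eq_one', map_one]
    rw [hρ, h34_one_add_pow N hNN] at hpow
    have hmN : ((Nat.card G : ℕ) : ℂ) • N = 0 := by
      have := congrArg (fun f => f - 1) hpow
      simpa using this
    have hc : ((Nat.card G : ℕ) : ℂ) ≠ 0 := by
      exact_mod_cast Nat.card_pos.ne'
    have hN0 : N = 0 := (smul_eq_zero.mp hmN).resolve_left hc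
    apply hg0
    rw [hρ, hN0, add_zero]
  refine { exists_pair_ne := ⟨⊥, ⊤, ?_⟩, eq_bot_or_eq_top := key }
  intro h
  apply hg0
  have hsub : (⊥ : Submodule ℂ V) = ⊤ := by rw [← hbot, ← htop, h]
  ext x
  have hx : x ∈ (⊥ : Submodule ℂ V) := by rw [hsub]; trivial
  rw [Submodule.mem_bot] at hx
  rw [hx]; simp

end Cfsg.Agent.Helper34.WR
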