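import Mathlib
import Cfsg.Agent.Lib.Helper98.WR0

/-!
# WR piece W2 (helper34): the commutant of the Weyl operators is the scalars.
-/

set_option autoImplicit false

namespace Cfsg.Agent.Helper34.WR

open Matrix Cfsg.Agent.Helper98.SPE Cfsg.Agent.Helper98.WR

universe u v

section WEYL

variable {F : Type*} [Field F] {n : ℕ} (ψ : AddChar F ℂ)

theorem h34_wOp_mod (a : Fin n → F) (f : (Fin n → F) → ℂ) (x : Fin n → F) :
    wOp ψ (Sum.elim a 0) f x = ψ (a ⬝ᵥ x) * f x := by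
  rw [wOp_apply]
  have h1 : (Sum.elim a (0 : Fin n → F)) ∘ Sum.inl = a := by
    funext i; rfl
  have h2 : (Sum.elim a (0 : Fin n → F)) ∘ Sum.inr = 0 := by
    funext i; rfl
  rw [h1, h2]
  simp

theorem h34_wOp_tr (b : Fin n → F) (f : (Fin n → F) → ℂ) (x : Fin n → F) :
    wOp ψ (Sum.elim 0 b) f x = f (x + b) := by
  rw [wOp_apply]
  have h1 : (Sum.elim (0 : Fin n → F) b) ∘ Sum.inl = 0 := by
    funext i; rfl
  have h2 : (Sum.elim (0 : Fin n → F) b) ∘ Sum.inr = b := by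
    funext i; rfl
  rw [h1, h2]
  simp

variable [Fintype F]

theorem commutant_scalar (hψ : ψ 1 ≠ 1) (A : Module.End ℂ ((Fin n → F) → ℂ))
    (hA : ∀ v : Fin n ⊕ Fin n → F, A * wOp ψ v = wOp ψ v * A) :
    ∃ c : ℂ, A = c • (1 : Module.End ℂ ((Fin n → F) → ℂ)) := by
  classical
  have hoff : ∀ x y : Fin n → F, x ≠ y → A (Pi.single y 1) x = 0 := by
    intro x y hxy
    obtain ⟨i, hi⟩ : ∃ i, x i ≠ y i := Function.ne_iff.mp hxy
    set a : Fin n → F := Pi.single i (x i - y i)⁻¹ with ha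
    have h1 := congrArg (fun B : Module.End ℂ ((Fin n → F) → ℂ) => B (Pi.single y 1) x)
      (hA (Sum.elim a 0))
    simp only [Module.End.mul_apply] at h1
    rw [h34_wOp_mod] at h1
    have h2 : wOp ψ (Sum.elim a 0) (Pi.single y 1) = ψ (a ⬝ᵥ y) • (Pi.single y (1:ℂ)) := by
      funext z
      rw [h34_wOp_mod]
      by_cases hz : z = y
      · subst hz; simp
      · simp [Pi.single_eq_of_ne hz]
    rw [h2, map_smul] at h1
    simp only [Pi.smul_apply, smul_eq_mul] at h1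
    by_contra hne
    have h3 : ψ (a ⬝ᵥ y) = ψ (a ⬝ᵥ x) := mul_right_cancel₀ hne h1
    have h4 : a ⬝ᵥ x = a ⬝ᵥ y + 1 := by
      rw [ha, single_dotProduct, single_dotProduct]
      have : x i - y i ≠ 0 := sub_ne_zero.mpr hi
      field_simp
      ring
    rw [h4, AddChar.map_add_eq_mul] at h3
    have h5 : ψ (a ⬝ᵥ y) ≠ 0 := (ψ.val_isUnit _).ne_zero
    have h6 : ψ (a ⬝ᵥ y) * 1 = ψ (a ⬝ᵥ y) * ψ 1 := by rw [mul_one]; exact h3
    exact hψ (mul_left_cancel₀ h5 h6).symm
  have hdiag : ∀ y : Fin n → F, A (Pi.single y 1) y = A (Pi.single 0 1) 0 := by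
    intro y
    have h1 := congrArg (fun B : Module.End ℂ ((Fin n → F) → ℂ) => B (Pi.single y 1) 0)
      (hA (Sum.elim 0 y))
    simp only [Module.End.mul_apply] at h1
    rw [h34_wOp_tr] at h1
    have h2 : wOp ψ (Sum.elim 0 y) (Pi.single y 1) = (Pi.single 0 (1:ℂ)) := by
      funext z
      rw [h34_wOp_tr]
      by_cases hz : z = 0
      · subst hz; simp
      · have : z + y ≠ y := by
          intro h
          exact hz (by simpa using h)
        simp [Pi.single_eq_of_ne hz, Pi.single_eq_of_ne this]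
    rw [h2, zero_add] at h1
    exact h1.symm
  refine ⟨A (Pi.single 0 1) 0, ?_⟩
  apply (Pi.basisFun ℂ (Fin n → F)).ext
  intro y
  rw [Pi.basisFun_apply]
  funext x
  rw [LinearMap.smul_apply, Module.End.one_apply, Pi.smul_apply, smul_eq_mul]
  by_cases hx : x = y
  · subst hx
    rw [hdiag]; simp
  · rw [hoff x y hx, Pi.single_eq_of_ne hx, mul_zero]

end WEYL

end Cfsg.Agent.Helper34.WR
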